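/-
S1430 (O-c) split (owner helper8), PIECE Z (`t3_Z : ZHyp G`): a `t`-group `T` (`t` odd) acted on
coprimely by a Frobenius group `R P` of order `r p` with `C_T(P)`, `C_T(R)` cyclic and
`C_T(R P) ≠ 1` is cyclic.  Pure group theory (Frobenius--Wielandt fixed point formula of
helper12 + the central-mod lemma of helper3).
-/
import Mathlib
import Cfsg.Agent.Lib.helper8.BGT3Defs
import Cfsg.Agent.Lib.helper12.FrobFixB
import Cfsg.Agent.Lib.helper3.ElemAb
import Cfsg.Agent.Lib.helper3.PGroupNormal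
import Cfsg.Agent.S0016
import Cfsg.Agent.Lib.helper97.PNilp

set_option autoImplicit false
set_option linter.unusedSectionVars false
set_option linter.unusedVariables false

namespace Cfsg.Agent.Lib.helper83.BGT3

open Cfsg
open Cfsg.Agent.Lib.helper8.BGT3
open scoped commutatorElement

variable {G : Type*} [Group G]

theorem zl_card_sup_dvd_mul (H K : Subgroup G) [K.Normal] :
    Nat.card (H ⊔ K : Subgroup G) ∣ Nat.card H * Nat.card K := by
  have h1 := Subgroup.relIndex_mul_relIndex (⊥ : Subgroup G) K (H ⊔ K) bot_le le_sup_right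
  rw [Subgroup.relIndex_bot_left, Subgroup.relIndex_bot_left, Subgroup.relIndex_sup_right] at h1
  rw [← h1, mul_comm]
  exact Nat.mul_dvd_mul_right (Subgroup.relIndex_dvd_card K H) _

theorem zl_card_sup_dvd_mul_of_le_normalizer (H K : Subgroup G)
    (h : H ≤ Subgroup.normalizer (K : Set G)) :
    Nat.card (H ⊔ K : Subgroup G) ∣ Nat.card H * Nat.card K := by
  have hK : K ≤ H ⊔ K := le_sup_right
  have hH : H ≤ H ⊔ K := le_sup_left
  have hn : (K.subgroupOf (H ⊔ K)).Normal := by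
    rw [Subgroup.normal_subgroupOf_iff_le_normalizer hK]
    exact sup_le h Subgroup.le_normalizer
  have h1 := zl_card_sup_dvd_mul (H.subgroupOf (H ⊔ K)) (K.subgroupOf (H ⊔ K))
  have h2 : H.subgroupOf (H ⊔ K) ⊔ K.subgroupOf (H ⊔ K) = ⊤ := by
    rw [← Subgroup.subgroupOf_sup hH hK, Subgroup.subgroupOf_self]
  rw [h2] at h1
  have c1 : Nat.card (H.subgroupOf (H ⊔ K)) = Nat.card H :=
    Nat.card_congr (Subgroup.subgroupOfEquivOfLe hH).toEquiv
  have c2 : Nat.card (K.subgroupOf (H ⊔ K)) = Nat.card K :=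
    Nat.card_congr (Subgroup.subgroupOfEquivOfLe hK).toEquiv
  have c3 : Nat.card (⊤ : Subgroup (H ⊔ K : Subgroup G)) = Nat.card (H ⊔ K : Subgroup G) :=
    Nat.card_congr Subgroup.topEquiv.toEquiv
  rw [c1, c2, c3] at h1
  exact h1

/-- in a finite cyclic group the elements with `x ^ t = 1` lie in the subgroup generated by any
element of order `t` -/
theorem zl_cyclic_unique {C : Type*} [Group C] [Finite C] [IsCyclic C] {t : ℕ} (ht : 0 < t)
    (y x : C) (hy : orderOf y = t) (hx : x ^ t = 1) : x ∈ Subgroup.zpowers y := by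
  classical
  haveI : Fintype C := Fintype.ofFinite C
  have h1 : (Finset.univ.filter (fun a : C => a ^ t = 1)).card ≤ t :=
    IsCyclic.card_pow_eq_one_le ht
  have h2 : ((Subgroup.zpowers y : Set C).toFinset) ⊆
      Finset.univ.filter (fun a : C => a ^ t = 1) := by
    intro a ha
    rw [Set.mem_toFinset] at ha
    rw [Finset.mem_filter]
    refine ⟨Finset.mem_univ _, ?_⟩
    obtain ⟨k, rfl⟩ := Subgroup.mem_zpowers_iff.mp ha
    rw [← zpow_natCast, ← zpow_mul, mul_comm, zpow_mul, zpow_natCast, ← hy, pow_orderOf_eq_one,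
      one_zpow]
  have h3 : ((Subgroup.zpowers y : Set C).toFinset).card = t := by
    rw [Set.toFinset_card]
    have := Nat.card_zpowers y
    rw [Nat.card_eq_fintype_card, hy] at this
    convert this
    exact Iff.rfl
  have h4 := Finset.eq_of_subset_of_card_le h2 (by rw [h3]; exact h1)
  have h5 : x ∈ Finset.univ.filter (fun a : C => a ^ t = 1) := by simp [hx]
  rw [← h4, Set.mem_toFinset] at h5
  exact h5

theorem zl_mem_zpowers [Finite G] {C : Subgroup G} (hC : IsCyclic C) {t : ℕ} (ht : 0 < t)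
    {y x : G} (hy : y ∈ C) (hyo : orderOf y = t) (hx : x ∈ C) (hxt : x ^ t = 1) :
    x ∈ Subgroup.zpowers y := by
  have h := zl_cyclic_unique (C := ↥C) ht ⟨y, hy⟩ ⟨x, hx⟩
    (by rw [Subgroup.orderOf_mk]; exact hyo) (by apply Subtype.ext; simpa using hxt)
  obtain ⟨k, hk⟩ := Subgroup.mem_zpowers_iff.mp h
  refine Subgroup.mem_zpowers_iff.mpr ⟨k, ?_⟩
  have := congrArg Subtype.val hk
  simpa using this

theorem zl_zpowers_eq_of_prime [Finite G] {P : Subgroup G} (hP : (Nat.card P).Prime) {e : G}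
    (he : e ∈ P) (he1 : e ≠ 1) : Subgroup.zpowers e = P := by
  apply Subgroup.eq_of_le_of_card_ge (Subgroup.zpowers_le.mpr he)
  rw [Nat.card_zpowers]
  have h1 : orderOf e ∣ Nat.card P := by
    have := orderOf_dvd_natCard (⟨e, he⟩ : P)
    rwa [Subgroup.orderOf_mk] at this
  rcases (Nat.dvd_prime hP).mp h1 with h | h
  · exact absurd (orderOf_eq_one_iff.mp h) he1
  · exact h.ge

theorem zl_eq_bot_of_le_zpowers [Finite G] {t : ℕ} (ht : t.Prime) {y : G} (hyo : orderOf y = t)
    {K : Subgroup G} (hK : K ≤ Subgroup.zpowers y) (hy : y ∉ K) : K = ⊥ := by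
  rw [Subgroup.eq_bot_iff_forall]
  intro x hx
  by_contra hx1
  have hYp : (Nat.card (Subgroup.zpowers y)).Prime := by rw [Nat.card_zpowers, hyo]; exact ht
  have h1 := zl_zpowers_eq_of_prime hYp (hK hx) hx1
  have hy' : y ∈ Subgroup.zpowers x := by rw [h1]; exact Subgroup.mem_zpowers y
  exact hy (Subgroup.zpowers_le.mpr hx hy')

theorem zl_le_normalizer {A H : Subgroup G} (h : ∀ x ∈ A, ∀ z ∈ H, x * z * x⁻¹ ∈ H) :
    A ≤ Subgroup.normalizer (H : Set G) := by
  intro x hx
  rw [Subgroup.mem_normalizer_iff]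
  intro z
  constructor
  · exact h x hx z
  · intro hz
    have h1 := h x⁻¹ (A.inv_mem hx) _ hz
    have e : x⁻¹ * (x * z * x⁻¹) * x⁻¹⁻¹ = z := by group
    rwa [e] at h1

/-- the Frobenius--Wielandt formula for the Frobenius group `R P` -/
theorem zl_ff [Finite G] (R P H : Subgroup G) (hR : (Nat.card R).Prime)
    (hP : (Nat.card P).Prime) (hPR : P ≤ Subgroup.normalizer (R : Set G))
    (hnc : ¬ P ≤ Subgroup.centralizer (R : Set G))
    (hRH : R ≤ Subgroup.normalizer (H : Set G)) (hPH : P ≤ Subgroup.normalizer (H : Set G))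
    (hsolv : Group.IsSolvable H) (hcop : (Nat.card H).Coprime (Nat.card R * Nat.card P)) :
    Nat.card ↥(H ⊓ Subgroup.centralizer ((R ⊔ P : Subgroup G) : Set G)) ^ Nat.card P *
        Nat.card H =
      Nat.card ↥(H ⊓ Subgroup.centralizer (P : Set G)) ^ Nat.card P *
        Nat.card ↥(H ⊓ Subgroup.centralizer (R : Set G)) := by
  have hE1 : P ≠ ⊥ := by
    rintro rfl
    rw [Subgroup.card_bot] at hP
    exact Nat.not_prime_one hP
  have hUn : ∀ e ∈ P, ∀ u ∈ R, e * u * e⁻¹ ∈ R := fun e he u hu =>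
    (Subgroup.mem_normalizer_iff.mp (hPR he) u).mp hu
  have hfpf : ∀ e ∈ P, e ≠ 1 → ∀ u ∈ R, e * u = u * e → u = 1 := by
    intro e he he1 u hu hcomm
    by_contra hu1
    apply hnc
    have h1 := zl_zpowers_eq_of_prime hP he he1
    have h2 := zl_zpowers_eq_of_prime hR hu hu1
    intro x hx
    rw [Subgroup.mem_centralizer_iff]
    intro v hv
    rw [← h1] at hx
    have hv' : v ∈ Subgroup.zpowers u := by rw [h2]; exact hv
    obtain ⟨i, rfl⟩ := Subgroup.mem_zpowers_iff.mp hx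
    obtain ⟨j, rfl⟩ := Subgroup.mem_zpowers_iff.mp hv'
    exact ((show Commute u e from hcomm.symm).zpow_zpow j i).eq
  have hHn : ∀ x ∈ R ⊔ P, ∀ h ∈ H, x * h * x⁻¹ ∈ H := fun x hx h hh =>
    (Subgroup.mem_normalizer_iff.mp ((sup_le hRH hPH) hx) h).mp hh
  have hdvd : Nat.card (R ⊔ P : Subgroup G) ∣ Nat.card R * Nat.card P := by
    have := zl_card_sup_dvd_mul_of_le_normalizer P R hPR
    rwa [sup_comm, mul_comm] at this
  exact Cfsg.Agent.Lib.helper12.ff_formula R P H hE1 hUn hfpf hHn hsolv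
    (Nat.Coprime.coprime_dvd_right hdvd hcop)

/-- PIECE Z. -/
theorem t3_Z [Finite G] : ZHyp G := by
  intro t T R P ht ht2 hT hR hP hRT hPT hPR hnc hcop hcP hcR hne
  haveI : Fact t.Prime := ⟨ht⟩
  by_contra hncyc
  have ht3 : 2 < t := lt_of_le_of_ne ht.two_le (Ne.symm ht2)
  -- an element of order `t` in `C_T(R P)`
  obtain ⟨y, hyD, hyo⟩ : ∃ y ∈ T ⊓ Subgroup.centralizer (R : Set G) ⊓
      Subgroup.centralizer (P : Set G), orderOf y = t := by
    have hD : IsPGroup t ↥(T ⊓ Subgroup.centralizer (R : Set G) ⊓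
        Subgroup.centralizer (P : Set G)) := hT.to_le (inf_le_left.trans inf_le_left)
    rcases hD.card_eq_or_dvd with h | h
    · exact absurd (Subgroup.card_eq_one.mp h) hne
    · obtain ⟨y', hy'⟩ := exists_prime_orderOf_dvd_card' t h
      exact ⟨y'.1, y'.2, by rw [Subgroup.orderOf_coe]; exact hy'⟩
  have hyT : y ∈ T := hyD.1.1
  have hyR : y ∈ Subgroup.centralizer (R : Set G) := hyD.1.2
  have hyP : y ∈ Subgroup.centralizer (P : Set G) := hyD.2
  have hy1 : y ≠ 1 := by
    rintro rfl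
    rw [orderOf_one] at hyo
    omega
  have hyt : y ^ t = 1 := by rw [← hyo]; exact pow_orderOf_eq_one y
  have hYcard : Nat.card (Subgroup.zpowers y) = t := by rw [Nat.card_zpowers, hyo]
  have hYt : ∀ c ∈ Subgroup.zpowers y, c ^ t = 1 := by
    intro c hc
    obtain ⟨k, rfl⟩ := Subgroup.mem_zpowers_iff.mp hc
    rw [← zpow_natCast, ← zpow_mul, mul_comm, zpow_mul, zpow_natCast, hyt, one_zpow]
  have hKP : ∀ x ∈ T, x ∈ Subgroup.centralizer (P : Set G) → x ^ t = 1 →
      x ∈ Subgroup.zpowers y := fun x hx hxP hxt =>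
    zl_mem_zpowers hcP ht.pos ⟨hyT, hyP⟩ hyo ⟨hx, hxP⟩ hxt
  have hKR : ∀ x ∈ T, x ∈ Subgroup.centralizer (R : Set G) → x ^ t = 1 →
      x ∈ Subgroup.zpowers y := fun x hx hxR hxt =>
    zl_mem_zpowers hcR ht.pos ⟨hyT, hyR⟩ hyo ⟨hx, hxR⟩ hxt
  have hyRP : y ∈ Subgroup.centralizer ((R ⊔ P : Subgroup G) : Set G) := by
    have hle : R ⊔ P ≤ Subgroup.centralizer ({y} : Set G) := by
      refine sup_le ?_ ?_
      · intro x hx
        rw [Subgroup.mem_centralizer_singleton_iff]
        exact Subgroup.mem_centralizer_iff.mp hyR x hx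
      · intro x hx
        rw [Subgroup.mem_centralizer_singleton_iff]
        exact Subgroup.mem_centralizer_iff.mp hyP x hx
    rw [Subgroup.mem_centralizer_iff]
    intro h hh
    have := hle hh
    rw [Subgroup.mem_centralizer_singleton_iff] at this
    exact this
  -- the key consequence of the fixed point formula
  have hkey : ∀ H : Subgroup G, H ≤ T → R ≤ Subgroup.normalizer (H : Set G) →
      P ≤ Subgroup.normalizer (H : Set G) → (∀ x ∈ H, x ^ t = 1) →
      (y ∈ H → Nat.card H = t) ∧ (y ∉ H → H = ⊥) := by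
    intro H hHT hRH hPH hexp
    have hsolv : Group.IsSolvable H := by
      haveI : Group.IsNilpotent H := (hT.to_le hHT).isNilpotent
      infer_instance
    have hcopH : (Nat.card H).Coprime (Nat.card R * Nat.card P) :=
      Nat.Coprime.coprime_dvd_left (Subgroup.card_dvd_of_le hHT) hcop
    have hf := zl_ff R P H hR hP hPR hnc hRH hPH hsolv hcopH
    have h1 : H ⊓ Subgroup.centralizer (P : Set G) ≤ Subgroup.zpowers y := fun x hx =>
      hKP x (hHT hx.1) hx.2 (hexp x hx.1)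
    have h2 : H ⊓ Subgroup.centralizer (R : Set G) ≤ Subgroup.zpowers y := fun x hx =>
      hKR x (hHT hx.1) hx.2 (hexp x hx.1)
    have h3 : H ⊓ Subgroup.centralizer ((R ⊔ P : Subgroup G) : Set G) ≤ Subgroup.zpowers y := by
      intro x hx
      refine h1 ⟨hx.1, ?_⟩
      exact Subgroup.centralizer_le (SetLike.coe_subset_coe.mpr le_sup_right) hx.2
    constructor
    · intro hyH
      have e1 : H ⊓ Subgroup.centralizer (P : Set G) = Subgroup.zpowers y :=
        le_antisymm h1 (Subgroup.zpowers_le.mpr ⟨hyH, hyP⟩)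
      have e2 : H ⊓ Subgroup.centralizer (R : Set G) = Subgroup.zpowers y :=
        le_antisymm h2 (Subgroup.zpowers_le.mpr ⟨hyH, hyR⟩)
      have e3 : H ⊓ Subgroup.centralizer ((R ⊔ P : Subgroup G) : Set G) = Subgroup.zpowers y :=
        le_antisymm h3 (Subgroup.zpowers_le.mpr ⟨hyH, hyRP⟩)
      rw [e1, e2, e3, hYcard] at hf
      exact Nat.eq_of_mul_eq_mul_left (pow_pos ht.pos _) hf
    · intro hyH
      have e1 : H ⊓ Subgroup.centralizer (P : Set G) = ⊥ :=
        zl_eq_bot_of_le_zpowers ht hyo h1 (fun h => hyH h.1)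
      have e2 : H ⊓ Subgroup.centralizer (R : Set G) = ⊥ :=
        zl_eq_bot_of_le_zpowers ht hyo h2 (fun h => hyH h.1)
      have e3 : H ⊓ Subgroup.centralizer ((R ⊔ P : Subgroup G) : Set G) = ⊥ :=
        zl_eq_bot_of_le_zpowers ht hyo h3 (fun h => hyH h.1)
      rw [e1, e2, e3, Subgroup.card_bot, one_pow, one_mul, one_mul] at hf
      exact Subgroup.card_eq_one.mp hf
  -- Step 1: `y` is central in `T`
  have hyc : ∀ g ∈ T, g * y = y * g := by
    obtain ⟨Z, hZ⟩ : ∃ Z : Subgroup G, ∀ z, z ∈ Z ↔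
        (z ∈ T ∧ (∀ g ∈ T, g * z = z * g) ∧ z ^ t = 1) := by
      refine ⟨{ carrier := {z | z ∈ T ∧ (∀ g ∈ T, g * z = z * g) ∧ z ^ t = 1}
                mul_mem' := ?_
                one_mem' := ?_
                inv_mem' := ?_ }, fun z => Iff.rfl⟩
      · rintro a b ⟨haT, hac, hat⟩ ⟨hbT, hbc, hbt⟩
        refine ⟨T.mul_mem haT hbT, fun g hg => ?_, ?_⟩
        · rw [← mul_assoc, hac g hg, mul_assoc, hbc g hg, mul_assoc]
        · have hcomm : Commute a b := (hac b hbT).symm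
          rw [hcomm.mul_pow, hat, hbt, one_mul]
      · exact ⟨T.one_mem, fun g hg => by rw [mul_one, one_mul], one_pow t⟩
      · rintro a ⟨haT, hac, hat⟩
        refine ⟨T.inv_mem haT, fun g hg => ?_, by rw [inv_pow, hat, inv_one]⟩
        exact ((show Commute g a from hac g hg).inv_right).eq
    have hZT : Z ≤ T := fun z hz => ((hZ z).mp hz).1
    have hZinv : ∀ x ∈ Subgroup.normalizer (T : Set G), ∀ z ∈ Z, x * z * x⁻¹ ∈ Z := by
      intro x hx z hz
      rw [hZ] at hz ⊢
      obtain ⟨hzT, hzc, hzt⟩ := hz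
      have hxinv : x⁻¹ ∈ Subgroup.normalizer (T : Set G) := Subgroup.inv_mem _ hx
      refine ⟨(Subgroup.mem_normalizer_iff.mp hx z).mp hzT, fun g hg => ?_, ?_⟩
      · have hg' : x⁻¹ * g * x ∈ T := by
          have := (Subgroup.mem_normalizer_iff.mp hxinv g).mp hg
          rwa [inv_inv] at this
        have h := hzc _ hg'
        calc g * (x * z * x⁻¹) = x * (x⁻¹ * g * x * z) * x⁻¹ := by group
          _ = x * (z * (x⁻¹ * g * x)) * x⁻¹ := by rw [h]
          _ = x * z * x⁻¹ * g := by group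
      · rw [conj_pow, hzt, mul_one, mul_inv_cancel]
    have hZne : Z ≠ ⊥ := by
      haveI : Nontrivial ↥T := ⟨⟨⟨y, hyT⟩, 1, fun h => hy1 (congrArg Subtype.val h)⟩⟩
      obtain ⟨z, -, hzc, hz1, hzp⟩ :=
        Cfsg.Agent.Lib.helper3.exists_central_of_normal_ne_bot hT (⊤ : Subgroup ↥T) top_ne_bot
      intro hbot
      have hzZ : (z : G) ∈ Z := by
        rw [hZ]
        refine ⟨z.2, fun g hg => ?_, ?_⟩
        · have := Subgroup.mem_center_iff.mp hzc ⟨g, hg⟩
          exact congrArg Subtype.val this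
        · have := congrArg Subtype.val hzp
          simpa using this
      rw [hbot, Subgroup.mem_bot] at hzZ
      exact hz1 (Subtype.ext hzZ)
    have hyZ : y ∈ Z := by
      by_contra hyZ
      exact hZne ((hkey Z hZT (zl_le_normalizer fun x hx z hz => hZinv x (hRT hx) z hz)
        (zl_le_normalizer fun x hx z hz => hZinv x (hPT hx) z hz)
        (fun z hz => ((hZ z).mp hz).2.2)).2 hyZ)
    exact ((hZ y).mp hyZ).2.1
  have hYc : ∀ c ∈ Subgroup.zpowers y, ∀ g ∈ T, g * c = c * g := by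
    intro c hc g hg
    obtain ⟨k, rfl⟩ := Subgroup.mem_zpowers_iff.mp hc
    exact ((show Commute g y from hyc g hg).zpow_right k).eq
  -- Step 2: an element `w ∉ ⟨y⟩` of order `t` with `[w, T] ≤ ⟨y⟩`
  obtain ⟨y', hy'⟩ : ∃ y' : ↥T, y' = ⟨y, hyT⟩ := ⟨_, rfl⟩
  have hy'c : y' ∈ Subgroup.center ↥T := by
    rw [Subgroup.mem_center_iff]
    intro g
    apply Subtype.ext
    rw [hy']
    exact hyc g.1 g.2
  have hy'1 : y' ≠ 1 := by
    rw [hy']
    intro h
    exact hy1 (congrArg Subtype.val h)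
  have hy't : y' ^ t = 1 := by
    rw [hy']
    apply Subtype.ext
    simpa using hyt
  have hcardE : Nat.card (Subgroup.zpowers y') = t := by
    rw [Nat.card_zpowers, orderOf_eq_prime hy't hy'1]
  have hex : ∃ x : ↥T, x ^ t = 1 ∧ x ∉ Subgroup.zpowers y' := by
    by_contra h
    push Not at h
    apply hncyc
    have key : ∀ H : Subgroup ↥T, Nat.card H = t → H = Subgroup.zpowers y' := by
      intro H hH
      apply Subgroup.eq_of_le_of_card_ge
      · intro x hx
        apply h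
        have h1 := pow_card_eq_one' (x := (⟨x, hx⟩ : H))
        rw [hH] at h1
        exact congrArg Subtype.val h1
      · rw [hcardE, hH]
    rcases Cfsg.Agent.S0016.result t hT (fun H K hH hK => by rw [key H hH, key K hK]) with
      h | ⟨h, -⟩
    · exact h
    · exact absurd h ht2
  obtain ⟨x0, hx0t, hx0E⟩ := hex
  have hEcent : ∀ e ∈ Subgroup.zpowers y', ∀ g : ↥T, g * e = e * g := by
    intro e he g
    exact Subgroup.mem_center_iff.mp ((Subgroup.zpowers_le.mpr hy'c) he) g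
  have hEn : (Subgroup.zpowers y').Normal := by
    refine ⟨fun n hn g => ?_⟩
    rw [hEcent n hn g, mul_inv_cancel_right]
    exact hn
  have hEp : ∀ a ∈ Subgroup.zpowers y', a ^ t = 1 := by
    intro a ha
    obtain ⟨k, rfl⟩ := Subgroup.mem_zpowers_iff.mp ha
    rw [← zpow_natCast, ← zpow_mul, mul_comm, zpow_mul, zpow_natCast, hy't, one_zpow]
  obtain ⟨w, hwE, hwt, -, hwc⟩ :=
    Cfsg.Agent.Lib.helper3.exists_central_mod_of_centralizing t ht2 (Nat.card ↥T) ↥T rfl hT
      (Subgroup.zpowers y') hEn (fun a ha b hb => hEcent b hb a) hEp x0 hx0E hx0t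
      (fun e he => hEcent e he x0)
  have hmem : ∀ v : ↥T, v ∈ Subgroup.zpowers y' ↔ (v : G) ∈ Subgroup.zpowers y := by
    intro v
    rw [Subgroup.mem_zpowers_iff, Subgroup.mem_zpowers_iff]
    constructor
    · rintro ⟨k, hk⟩
      exact ⟨k, by rw [← hk, hy']; simp⟩
    · rintro ⟨k, hk⟩
      exact ⟨k, by apply Subtype.ext; rw [hy']; simpa using hk⟩
  -- Step 3: the subgroup `B`
  have hinvc : ∀ a ∈ T, (∀ g ∈ T, ⁅a, g⁆ ∈ Subgroup.zpowers y) →
      ∀ g ∈ T, ⁅a⁻¹, g⁆ ∈ Subgroup.zpowers y := by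
    intro a ha hac g hg
    have h1 := hac g hg
    have h2 : ⁅a⁻¹, g⁆ = a⁻¹ * ⁅a, g⁆⁻¹ * a := by
      simp only [commutatorElement_def]; group
    have h3 : a * ⁅a, g⁆⁻¹ = ⁅a, g⁆⁻¹ * a := hYc _ (Subgroup.inv_mem _ h1) a ha
    rw [h2, mul_assoc, ← h3, ← mul_assoc, inv_mul_cancel, one_mul]
    exact Subgroup.inv_mem _ h1
  obtain ⟨B, hB⟩ : ∃ B : Subgroup G, ∀ x, x ∈ B ↔
      (x ∈ T ∧ x ^ t = 1 ∧ ∀ g ∈ T, ⁅x, g⁆ ∈ Subgroup.zpowers y) := by
    refine ⟨{ carrier := {x | x ∈ T ∧ x ^ t = 1 ∧ ∀ g ∈ T, ⁅x, g⁆ ∈ Subgroup.zpowers y}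
              mul_mem' := ?_
              one_mem' := ?_
              inv_mem' := ?_ }, fun x => Iff.rfl⟩
    · rintro a b ⟨haT, hat, hac⟩ ⟨hbT, hbt, hbc⟩
      refine ⟨T.mul_mem haT hbT, ?_, ?_⟩
      · obtain ⟨c, hc⟩ : ∃ c : G, c = ⁅b⁻¹, a⁻¹⁆ := ⟨_, rfl⟩
        have hcY : c ∈ Subgroup.zpowers y := by
          rw [hc]; exact hinvc b hbT hbc a⁻¹ (T.inv_mem haT)
        have hrel : b * a = a * b * c := by
          rw [hc, commutatorElement_def]; group
        have hca : Commute c a := (hYc c hcY a haT).symm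
        have hcb : Commute c b := (hYc c hcY b hbT).symm
        rw [Cfsg.Agent.Lib.helper97.mul_pow_class_two hrel hca hcb t, hat, hbt, one_mul, one_mul]
        obtain ⟨m, hm⟩ : t ∣ t.choose 2 := ht.dvd_choose_self (by norm_num) ht3
        rw [hm, pow_mul, hYt c hcY, one_pow]
      · intro g hg
        have h2 : ⁅a * b, g⁆ = a * ⁅b, g⁆ * a⁻¹ * ⁅a, g⁆ := by
          simp only [commutatorElement_def]; group
        have h3 : a * ⁅b, g⁆ = ⁅b, g⁆ * a := hYc _ (hbc g hg) a haT
        rw [h2, h3, mul_inv_cancel_right]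
        exact Subgroup.mul_mem _ (hbc g hg) (hac g hg)
    · refine ⟨T.one_mem, one_pow t, fun g hg => ?_⟩
      rw [commutatorElement_one_left]
      exact Subgroup.one_mem _
    · rintro a ⟨haT, hat, hac⟩
      exact ⟨T.inv_mem haT, by rw [inv_pow, hat, inv_one], hinvc a haT hac⟩
  have hBinv : ∀ x ∈ Subgroup.normalizer (T : Set G), x * y = y * x →
      ∀ b ∈ B, x * b * x⁻¹ ∈ B := by
    intro x hx hxy b hb
    rw [hB] at hb ⊢
    obtain ⟨hbT, hbt, hbc⟩ := hb
    have hxinv : x⁻¹ ∈ Subgroup.normalizer (T : Set G) := Subgroup.inv_mem _ hx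
    refine ⟨(Subgroup.mem_normalizer_iff.mp hx b).mp hbT, ?_, ?_⟩
    · rw [conj_pow, hbt, mul_one, mul_inv_cancel]
    · intro g hg
      have hg' : x⁻¹ * g * x ∈ T := by
        have := (Subgroup.mem_normalizer_iff.mp hxinv g).mp hg
        rwa [inv_inv] at this
      have h1 := hbc _ hg'
      have h2 : ⁅x * b * x⁻¹, g⁆ = x * ⁅b, x⁻¹ * g * x⁆ * x⁻¹ := by
        simp only [commutatorElement_def]; group
      rw [h2]
      obtain ⟨k, hk⟩ := Subgroup.mem_zpowers_iff.mp h1
      have h3 : x * ⁅b, x⁻¹ * g * x⁆ = ⁅b, x⁻¹ * g * x⁆ * x := by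
        rw [← hk]
        exact ((show Commute x y from hxy).zpow_right k).eq
      rw [h3, mul_inv_cancel_right]
      exact h1
  have hwB : (w : G) ∈ B := by
    rw [hB]
    refine ⟨w.2, by simpa using congrArg Subtype.val hwt, fun g hg => ?_⟩
    have := (hmem _).mp (hwc ⟨g, hg⟩)
    simpa [commutatorElement_def] using this
  have hyB : y ∈ B := by
    rw [hB]
    refine ⟨hyT, hyt, fun g hg => ?_⟩
    have : ⁅y, g⁆ = 1 := by
      rw [commutatorElement_eq_one_iff_commute]
      exact (hyc g hg).symm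
    rw [this]
    exact Subgroup.one_mem _
  have hBT : B ≤ T := fun b hb => ((hB b).mp hb).1
  have hBcard := (hkey B hBT
    (zl_le_normalizer fun x hx b hb =>
      hBinv x (hRT hx) (Subgroup.mem_centralizer_iff.mp hyR x hx) b hb)
    (zl_le_normalizer fun x hx b hb =>
      hBinv x (hPT hx) (Subgroup.mem_centralizer_iff.mp hyP x hx) b hb)
    (fun b hb => ((hB b).mp hb).2.1)).1 hyB
  have hBeq : Subgroup.zpowers y = B :=
    Subgroup.eq_of_le_of_card_ge (Subgroup.zpowers_le.mpr hyB) (by rw [hBcard, hYcard])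
  apply hwE
  rw [hmem, hBeq]
  exact hwB

end Cfsg.Agent.Lib.helper83.BGT3
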