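import Mathlib
import Cfsg.Agent.Lib.helper44.SL3Defs

set_option autoImplicit false
set_option linter.unusedVariables false
set_option linter.unusedSimpArgs false
set_option linter.style.longLine false

namespace Cfsg.Agent.Lib.helper44.SL3

theorem h83_conj_cm {G : Type*} [Group G] (t a b : G) :
    t * cm a b * t⁻¹ = cm (t * a * t⁻¹) (t * b * t⁻¹) := by
  unfold cm; group

theorem h83_act_inv {G : Type*} [Group G] {F : Type*} [Field F] (x : F → G) (t : G) (μ : F)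
    (hμ : μ ≠ 0) (h : ∀ a, t * x a * t⁻¹ = x (μ * a)) :
    ∀ a, t⁻¹ * x a * t⁻¹⁻¹ = x (μ⁻¹ * a) := by
  intro a
  have h1 := h (μ⁻¹ * a)
  rw [← mul_assoc, mul_inv_cancel₀ hμ, one_mul] at h1
  rw [← h1]; group

theorem h83_act_mul {G : Type*} [Group G] {F : Type*} [Field F] (x : F → G) (t₁ t₂ : G)
    (μ₁ μ₂ : F) (h₁ : ∀ a, t₁ * x a * t₁⁻¹ = x (μ₁ * a))
    (h₂ : ∀ a, t₂ * x a * t₂⁻¹ = x (μ₂ * a)) :
    ∀ a, (t₁ * t₂) * x a * (t₁ * t₂)⁻¹ = x (μ₁ * μ₂ * a) := by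
  intro a
  have e : (t₁ * t₂) * x a * (t₁ * t₂)⁻¹ = t₁ * (t₂ * x a * t₂⁻¹) * t₁⁻¹ := by group
  rw [e, h₂, h₁, mul_assoc]

theorem h83_act_Z {G : Type*} [Group G] {F : Type*} [Field F] (x : F → G) (c : G)
    (hbp : ∀ a b, zz x c a b = ZZ x c (a * b)) (t : G) (μ ν : F)
    (hx : ∀ a, t * x a * t⁻¹ = x (μ * a)) (hy : ∀ b, t * yy x c b * t⁻¹ = yy x c (ν * b)) :
    ∀ s, t * ZZ x c s * t⁻¹ = ZZ x c (μ * s * ν) := by
  intro s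
  have e : ZZ x c s = cm (x s) (yy x c 1) := rfl
  rw [e, h83_conj_cm, hx, hy, mul_one]
  exact hbp (μ * s) ν

theorem h83_act_W {G : Type*} [Group G] {F : Type*} [Field F] (x : F → G) (c : G)
    (hbp : ∀ a b, zz x c a b = ZZ x c (a * b)) (t t' : G)
    (ht : t = c * c * t' * (c * c)⁻¹) (μ ν : F)
    (hx : ∀ a, t' * x a * t'⁻¹ = x (μ * a)) (hy : ∀ b, t' * yy x c b * t'⁻¹ = yy x c (ν * b)) :
    ∀ s, t * WW x c s * t⁻¹ = WW x c (μ * s * ν) := by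
  intro s
  have e : WW x c s = c * c * ZZ x c s * (c * c)⁻¹ := rfl
  have e2 : c * c * t' * (c * c)⁻¹ * (c * c * ZZ x c s * (c * c)⁻¹) *
      (c * c * t' * (c * c)⁻¹)⁻¹ = c * c * (t' * ZZ x c s * t'⁻¹) * (c * c)⁻¹ := by group
  rw [e, ht, e2, h83_act_Z x c hbp t' μ ν hx hy s]
  rfl

/-- The torus actions on `x` and `yy` that follow from the base configuration. -/
theorem h83_base_acts {G : Type*} [Group G] {F : Type*} [Field F] (x : F → G) (h c : G) (ω : F)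
    (hB : IsBase x h c ω) :
    (∀ a, (c * h * c⁻¹) * x a * (c * h * c⁻¹)⁻¹ = x (ω⁻¹ * ω⁻¹ * a)) ∧
    (∀ b, h * yy x c b * h⁻¹ = yy x c (ω * b)) ∧
    (∀ b, (c * h * c⁻¹) * yy x c b * (c * h * c⁻¹)⁻¹ = yy x c (ω * b)) ∧
    (∀ b, (c * c * h * (c * c)⁻¹) * yy x c b * (c * c * h * (c * c)⁻¹)⁻¹ =
      yy x c (ω⁻¹ * ω⁻¹ * b)) := by
  have hω := hB.ω0
  have hci : c⁻¹ = c * c := by
    apply inv_eq_of_mul_eq_one_right
    rw [← mul_assoc]; exact hB.c3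
  have hk' : c * c * h * (c * c)⁻¹ = c⁻¹ * h * c := by rw [← hci, inv_inv]
  have hk : c * h * c⁻¹ = h⁻¹ * (c * c * h * (c * c)⁻¹)⁻¹ := by
    have h1 := hB.hkk
    have h2 : h * (c * h * c⁻¹) = (c * c * h * (c * c)⁻¹)⁻¹ := eq_inv_of_mul_eq_one_left h1
    exact eq_inv_mul_of_mul_eq h2
  have h1 : ∀ a, (c * h * c⁻¹) * x a * (c * h * c⁻¹)⁻¹ = x (ω⁻¹ * ω⁻¹ * a) := by
    rw [hk]
    exact h83_act_mul x _ _ _ _ (h83_act_inv x h ω hω hB.h_x)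
      (h83_act_inv x _ ω hω hB.k'_x)
  refine ⟨h1, ?_, ?_, ?_⟩
  · intro b
    have e : h * yy x c b * h⁻¹ = c * ((c⁻¹ * h * c) * x b * (c⁻¹ * h * c)⁻¹) * c⁻¹ := by
      unfold yy; group
    rw [e, ← hk', hB.k'_x]
    rfl
  · intro b
    have e : (c * h * c⁻¹) * yy x c b * (c * h * c⁻¹)⁻¹ = c * (h * x b * h⁻¹) * c⁻¹ := by
      unfold yy; group
    rw [e, hB.h_x]
    rfl
  · intro b
    have e : (c * c * h * (c * c)⁻¹) * yy x c b * (c * c * h * (c * c)⁻¹)⁻¹ =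
        c * ((c * h * c⁻¹) * x b * (c * h * c⁻¹)⁻¹) * c⁻¹ := by
      unfold yy; group
    rw [e, h1]
    rfl

-- T2
theorem tor2_of_base {G : Type*} [Group G] {F : Type*} [Field F] (x : F → G) (h c : G) (ω : F)
    (hB : IsBase x h c ω) (hbp : ∀ a b, zz x c a b = ZZ x c (a * b)) :
    (∀ t, (h * (c * h * c⁻¹)⁻¹) * ZZ x c t * (h * (c * h * c⁻¹)⁻¹)⁻¹ = ZZ x c (ω ^ 3 * t)) ∧
    (∀ t, (h * (c * h * c⁻¹)⁻¹) * WW x c t * (h * (c * h * c⁻¹)⁻¹)⁻¹ = WW x c t) ∧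
    (∀ a, (h * (c * h * c⁻¹)⁻¹) * x a * (h * (c * h * c⁻¹)⁻¹)⁻¹ = x (ω ^ 3 * a)) ∧
    (∀ t, h⁻¹ * ZZ x c t * h⁻¹⁻¹ = ZZ x c (ω⁻¹ * ω⁻¹ * t)) ∧
    (∀ t, h⁻¹ * WW x c t * h⁻¹⁻¹ = WW x c (ω * t)) ∧
    (∀ a, h⁻¹ * x a * h⁻¹⁻¹ = x (ω⁻¹ * ω⁻¹ * ω * a)) ∧
    (∀ t, h * ZZ x c t * h⁻¹ = ZZ x c (ω ^ 2 * t)) ∧
    (∀ t, h * WW x c t * h⁻¹ = WW x c (ω⁻¹ * t)) := by
  have hω := hB.ω0
  have hω2 : ω⁻¹ * ω⁻¹ ≠ 0 := mul_ne_zero (inv_ne_zero hω) (inv_ne_zero hω)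
  obtain ⟨hkx, hhy, hky, hk'y⟩ := h83_base_acts x h c ω hB
  have hhx := hB.h_x
  have hk'x := hB.k'_x
  have hc3 := hB.c3
  -- inverses
  have hhxi := h83_act_inv x h ω hω hhx
  have hhyi := h83_act_inv (yy x c) h ω hω hhy
  have hkxi := h83_act_inv x (c * h * c⁻¹) (ω⁻¹ * ω⁻¹) hω2 hkx
  have hkyi := h83_act_inv (yy x c) (c * h * c⁻¹) ω hω hky
  have hk'xi := h83_act_inv x (c * c * h * (c * c)⁻¹) ω hω hk'x
  have hk'yi := h83_act_inv (yy x c) (c * c * h * (c * c)⁻¹) (ω⁻¹ * ω⁻¹) hω2 hk'y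
  -- g = h k⁻¹
  have hgx := h83_act_mul x h (c * h * c⁻¹)⁻¹ _ _ hhx hkxi
  have hgy := h83_act_mul (yy x c) h (c * h * c⁻¹)⁻¹ _ _ hhy hkyi
  -- k k'⁻¹
  have hqx := h83_act_mul x (c * h * c⁻¹) (c * c * h * (c * c)⁻¹)⁻¹ _ _ hkx hk'xi
  have hqy := h83_act_mul (yy x c) (c * h * c⁻¹) (c * c * h * (c * c)⁻¹)⁻¹ _ _ hky hk'yi
  -- conjugation identities
  have ht1 : h * (c * h * c⁻¹)⁻¹ =
      c * c * (c * h * c⁻¹ * (c * c * h * (c * c)⁻¹)⁻¹) * (c * c)⁻¹ := by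
    have e : c * c * (c * h * c⁻¹ * (c * c * h * (c * c)⁻¹)⁻¹) * (c * c)⁻¹ =
        (c * c * c) * (h * (c * h * c⁻¹)⁻¹) * (c * c * c)⁻¹ := by group
    rw [e, hc3, one_mul, inv_one, mul_one]
  have ht2 : h⁻¹ = c * c * (c * h * c⁻¹)⁻¹ * (c * c)⁻¹ := by
    have e : c * c * (c * h * c⁻¹)⁻¹ * (c * c)⁻¹ = (c * c * c) * h⁻¹ * (c * c * c)⁻¹ := by group
    rw [e, hc3, one_mul, inv_one, mul_one]
  have ht3 : h = c * c * (c * h * c⁻¹) * (c * c)⁻¹ := by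
    have e : c * c * (c * h * c⁻¹) * (c * c)⁻¹ = (c * c * c) * h * (c * c * c)⁻¹ := by group
    rw [e, hc3, one_mul, inv_one, mul_one]
  refine ⟨?_, ?_, ?_, ?_, ?_, ?_, ?_, ?_⟩
  · intro t
    rw [h83_act_Z x c hbp _ _ _ hgx hgy t]
    congr 1
    field_simp
  · intro t
    rw [h83_act_W x c hbp _ _ ht1 _ _ hqx hqy t]
    congr 1
    field_simp
  · intro a
    rw [hgx a]
    congr 1
    field_simp
  · intro t
    rw [h83_act_Z x c hbp _ _ _ hhxi hhyi t]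
    congr 1
    ring
  · intro t
    rw [h83_act_W x c hbp _ _ ht2 _ _ hkxi hkyi t]
    congr 1
    field_simp
  · intro a
    rw [hhxi a]
    congr 1
    field_simp
  · intro t
    rw [h83_act_Z x c hbp _ _ _ hhx hhy t]
    congr 1
    ring
  · intro t
    rw [h83_act_W x c hbp _ _ ht3 _ _ hkx hky t]
    congr 1
    field_simp

end Cfsg.Agent.Lib.helper44.SL3
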