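import Mathlib
import Cfsg.Agent.Lib.helper81.CharOrtho
import Cfsg.Agent.Lib.helper81.Blocks

/-!
# The `P`-level decomposition for Flavell's Theorem A (piece PLEVEL for S1950)

Restriction of the irreducible characters of `G` to a cyclic subgroup `P` whose
normalizer acts freely: multiplicities of the linear characters of `P`, the
orbit relation of `N_G(P)` on them, and the Gram matrix of the multiplicity
differences on a set `B` of irreducible characters satisfying block orthogonality on `P`.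
-/

set_option autoImplicit false
set_option linter.unusedSectionVars false
set_option linter.style.haveILetI false
set_option linter.unusedVariables false

open Cfsg
open scoped ComplexConjugate

namespace Cfsg.Agent.Lib.helper83

universe u

/-! ### Multiplicities are natural numbers -/

/-- The average of `conj ψ · χ` over a finite group is a natural number, for a linear
character `ψ` and the character `χ` of a representation. -/
theorem fl_twist_mult_nat {H : Type u} [Group H] [Fintype H] {n : ℕ}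
    (ρ : Representation ℂ H (Fin n → ℂ)) (ψ : AddChar (Additive H) ℂ) :
    ∃ m : ℕ, (Nat.card H : ℂ)⁻¹ * ∑ u : H, ψ (Additive.ofMul u⁻¹) * ρ.character u = (m : ℂ) := by
  let τ : Representation ℂ H (Fin n → ℂ) :=
    { toFun := fun u => ψ (Additive.ofMul u⁻¹) • ρ u
      map_one' := by
        have h1 : (Additive.ofMul (1 : H)⁻¹) = 0 := by simp
        rw [h1, AddChar.map_zero_eq_one, map_one, one_smul]
      map_mul' := fun u v => by
        have h1 : Additive.ofMul (u * v)⁻¹ = Additive.ofMul v⁻¹ + Additive.ofMul u⁻¹ := by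
          rw [mul_inv_rev]; rfl
        rw [h1, AddChar.map_add_eq_mul, map_mul, smul_mul_smul_comm, mul_comm] }
  have hne : (Nat.card H : ℂ) ≠ 0 := by exact_mod_cast Nat.card_pos.ne'
  have hinv : Invertible (Nat.card H : ℂ) := invertibleOfNonzero hne
  have havg := Representation.card_inv_mul_sum_char_eq_finrank τ
  refine ⟨Module.finrank ℂ ↥(Representation.invariants τ), ?_⟩
  rw [← havg]
  congr 1
  refine Finset.sum_congr rfl fun u _ => ?_
  show ψ (Additive.ofMul u⁻¹) * LinearMap.trace ℂ _ (ρ u)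
    = LinearMap.trace ℂ _ (ψ (Additive.ofMul u⁻¹) • ρ u)
  rw [map_smul, smul_eq_mul]

/-! ### Sums of powers of a `p`-th root of unity over the units of `ZMod p` -/

theorem fl_sum_units_val {p : ℕ} [Fact p.Prime] (g : ℕ → ℂ) :
    ∑ t : (ZMod p)ˣ, g (t : ZMod p).val = ∑ j ∈ Finset.Ico 1 p, g j := by
  have hp : p.Prime := Fact.out
  refine Finset.sum_bij (fun t _ => (t : ZMod p).val) ?_ ?_ ?_ ?_
  · intro t _
    rw [Finset.mem_Ico]
    refine ⟨?_, ZMod.val_lt _⟩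
    rw [Nat.one_le_iff_ne_zero]
    intro h
    exact t.ne_zero ((ZMod.val_eq_zero _).mp h)
  · intro a _ b _ h
    exact Units.ext (ZMod.val_injective p h)
  · intro b hb
    rw [Finset.mem_Ico] at hb
    have hne : (b : ZMod p) ≠ 0 := by
      rw [Ne, ZMod.natCast_eq_zero_iff]
      exact Nat.not_dvd_of_pos_of_lt (by omega) hb.2
    exact ⟨Units.mk0 (b : ZMod p) hne, Finset.mem_univ _, by
      simp [ZMod.val_natCast_of_lt hb.2]⟩
  · intro t _
    rfl

theorem fl_sum_units_pow {p : ℕ} [Fact p.Prime] (w : ℂ) (hw : w ^ p = 1) :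
    ∑ t : (ZMod p)ˣ, w ^ (t : ZMod p).val = if w = 1 then (p : ℂ) - 1 else -1 := by
  have hp : p.Prime := Fact.out
  rw [fl_sum_units_val (fun j => w ^ j)]
  split_ifs with h1
  · rw [h1]
    simp only [one_pow, Finset.sum_const, Nat.card_Ico, nsmul_eq_mul, mul_one]
    rw [Nat.cast_sub hp.one_lt.le, Nat.cast_one]
  · have hgeom : (∑ i ∈ Finset.range p, w ^ i) * (w - 1) = w ^ p - 1 := geom_sum_mul w p
    rw [hw, sub_self] at hgeom
    have hz : ∑ i ∈ Finset.range p, w ^ i = 0 := by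
      rcases mul_eq_zero.mp hgeom with h | h
      · exact h
      · exact absurd (sub_eq_zero.mp h) h1
    rw [Finset.range_eq_Ico, Finset.sum_eq_sum_Ico_succ_bot hp.pos, pow_zero] at hz
    linear_combination hz

/-! ### Characters of a finite commutative group -/

section Abstract

variable {Q : Type u} [CommGroup Q] [Fintype Q]

theorem fl_sum_char (ψ : AddChar (Additive Q) ℂ) :
    ∑ u : Q, ψ (Additive.ofMul u) = if ψ = 0 then (Nat.card Q : ℂ) else 0 := by
  classical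
  have h := AddChar.sum_eq_ite ψ
  rw [Fintype.card_additive, ← Nat.card_eq_fintype_card] at h
  rw [← h]
  exact Fintype.sum_equiv Additive.ofMul _ _ (fun _ => rfl)

theorem fl_sum_char_inv (ψ : AddChar (Additive Q) ℂ) :
    ∑ u : Q, ψ (Additive.ofMul u⁻¹) = if ψ = 0 then (Nat.card Q : ℂ) else 0 := by
  rw [← fl_sum_char ψ]
  exact Fintype.sum_equiv (Equiv.inv Q) _ _ (fun _ => rfl)

open Classical in
theorem fl_sum_dual (u : Q) :
    ∑ ψ : AddChar (Additive Q) ℂ, ψ (Additive.ofMul u)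
      = if u = 1 then (Nat.card Q : ℂ) else 0 := by
  have h := AddChar.sum_apply_eq_ite (Additive.ofMul u)
  rw [Fintype.card_additive, ← Nat.card_eq_fintype_card] at h
  rw [h]
  simp

theorem fl_card_dual :
    Fintype.card (AddChar (Additive Q) ℂ) = Nat.card Q := by
  rw [AddChar.card_eq, Fintype.card_additive, ← Nat.card_eq_fintype_card]

/-- The (complex) multiplicity of the linear character `ψ` in the function `f`. -/
noncomputable def flMul (f : Q → ℂ) (ψ : AddChar (Additive Q) ℂ) : ℂ :=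
  (Nat.card Q : ℂ)⁻¹ * ∑ u : Q, ψ (Additive.ofMul u⁻¹) * f u

theorem fl_card_ne_zero : (Nat.card Q : ℂ) ≠ 0 := by
  exact_mod_cast Nat.card_pos.ne'

theorem fl_inversion (f : Q → ℂ) (v : Q) :
    ∑ ψ : AddChar (Additive Q) ℂ, flMul f ψ * ψ (Additive.ofMul v) = f v := by
  unfold flMul
  have hne : (Nat.card Q : ℂ) ≠ 0 := fl_card_ne_zero
  have h1 : ∀ ψ : AddChar (Additive Q) ℂ,
      (Nat.card Q : ℂ)⁻¹ * (∑ u : Q, ψ (Additive.ofMul u⁻¹) * f u) * ψ (Additive.ofMul v)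
      = (Nat.card Q : ℂ)⁻¹ * ∑ u : Q, f u * ψ (Additive.ofMul (u⁻¹ * v)) := by
    intro ψ
    rw [mul_assoc, Finset.sum_mul]
    congr 1
    refine Finset.sum_congr rfl fun u _ => ?_
    have h2 : Additive.ofMul (u⁻¹ * v) = Additive.ofMul u⁻¹ + Additive.ofMul v := rfl
    rw [h2, AddChar.map_add_eq_mul]
    ring
  simp_rw [h1]
  rw [← Finset.mul_sum, Finset.sum_comm]
  simp_rw [← Finset.mul_sum, fl_sum_dual]
  rw [Finset.sum_eq_single v]
  · rw [if_pos (inv_mul_cancel v)]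
    field_simp
  · intro u _ huv
    rw [if_neg, mul_zero]
    intro h
    apply huv
    rw [inv_mul_eq_one] at h
    exact h
  · intro h
    exact absurd (Finset.mem_univ v) h

theorem fl_mul_const_one (ψ : AddChar (Additive Q) ℂ) :
    flMul (fun _ : Q => (1 : ℂ)) ψ = if ψ = 0 then 1 else 0 := by
  unfold flMul
  simp_rw [mul_one]
  rw [fl_sum_char_inv]
  split_ifs with h
  · exact inv_mul_cancel₀ fl_card_ne_zero
  · rw [mul_zero]

/-- The character `u ↦ ψ(u⁻¹) ψ'(α u)`. -/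
noncomputable def flTwist (ψ ψ' : AddChar (Additive Q) ℂ) (α : MulAut Q) :
    AddChar (Additive Q) ℂ where
  toFun a := ψ (-a) * ψ' (Additive.ofMul (α a.toMul))
  map_zero_eq_one' := by simp
  map_add_eq_mul' a b := by
    have h1 : Additive.ofMul (α (a + b).toMul)
        = Additive.ofMul (α a.toMul) + Additive.ofMul (α b.toMul) := by
      show Additive.ofMul (α (a.toMul * b.toMul)) = _
      rw [map_mul]
      rfl
    rw [h1, neg_add, AddChar.map_add_eq_mul, AddChar.map_add_eq_mul]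
    ring

open Classical in
theorem fl_twist_sum (ψ ψ' : AddChar (Additive Q) ℂ) (α : MulAut Q) :
    ∑ u : Q, ψ (Additive.ofMul u⁻¹) * ψ' (Additive.ofMul (α u))
      = if (∀ u, ψ' (Additive.ofMul (α u)) = ψ (Additive.ofMul u)) then (Nat.card Q : ℂ)
        else 0 := by
  have h := fl_sum_char (flTwist ψ ψ' α)
  have h1 : ∀ u : Q, (flTwist ψ ψ' α) (Additive.ofMul u)
      = ψ (Additive.ofMul u⁻¹) * ψ' (Additive.ofMul (α u)) := fun u => rfl
  simp_rw [h1] at h
  rw [h]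
  have hiff : flTwist ψ ψ' α = 0 ↔ ∀ u, ψ' (Additive.ofMul (α u)) = ψ (Additive.ofMul u) := by
    rw [AddChar.eq_zero_iff]
    constructor
    · intro hz u
      have h2 := hz (Additive.ofMul u)
      rw [h1] at h2
      have h3 : ψ (Additive.ofMul u) * ψ (Additive.ofMul u⁻¹) = 1 := by
        rw [← AddChar.map_add_eq_mul]
        have h4 : Additive.ofMul u + Additive.ofMul u⁻¹ = 0 := by
          show Additive.ofMul (u * u⁻¹) = 0
          rw [mul_inv_cancel]
          rfl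
        rw [h4, AddChar.map_zero_eq_one]
      calc ψ' (Additive.ofMul (α u))
          = (ψ (Additive.ofMul u) * ψ (Additive.ofMul u⁻¹)) * ψ' (Additive.ofMul (α u)) := by
            rw [h3, one_mul]
        _ = ψ (Additive.ofMul u) * (ψ (Additive.ofMul u⁻¹) * ψ' (Additive.ofMul (α u))) := by
            ring
        _ = ψ (Additive.ofMul u) := by rw [h2, mul_one]
    · intro hT a
      have h2 : (flTwist ψ ψ' α) a = ψ (-a) * ψ' (Additive.ofMul (α a.toMul)) := rfl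
      rw [h2, hT a.toMul]
      show ψ (-a) * ψ a = 1
      rw [← AddChar.map_add_eq_mul, neg_add_cancel, AddChar.map_zero_eq_one]
  by_cases hT : ∀ u, ψ' (Additive.ofMul (α u)) = ψ (Additive.ofMul u)
  · rw [if_pos (hiff.mpr hT), if_pos hT]
  · rw [if_neg (fun h0 => hT (hiff.mp h0)), if_neg hT]

open Classical in
/-- The Gram computation. -/
theorem fl_gram {I : Type u} [Fintype I] (B : I → Prop) (f : I → Q → ℂ)
    (A : Subgroup (MulAut Q))
    (F1 : ∀ α ∈ A, ∀ w : Q, w ≠ 1 → α w = w → α = 1)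
    (F2 : ∀ α ∈ A, ∀ ψ : AddChar (Additive Q) ℂ, ψ ≠ 0 →
      (∀ u, ψ (Additive.ofMul (α u)) = ψ (Additive.ofMul u)) → α = 1)
    (horth : ∀ w w' : Q, w ≠ 1 → w' ≠ 1 →
      ∑ χ : I, (if B χ then f χ w * conj (f χ w') else 0)
        = if ∃ α ∈ A, α w = w' then (Nat.card Q : ℂ) else 0)
    (ψ ψ' : AddChar (Additive Q) ℂ) (hψ : ψ ≠ 0) (hψ' : ψ' ≠ 0) :
    ∑ χ : I, (if B χ then
        ((Nat.card Q : ℂ)⁻¹ * ∑ u : Q, (ψ (Additive.ofMul u⁻¹) - 1) * f χ u) *
        ((Nat.card Q : ℂ)⁻¹ * ∑ u : Q, (ψ' (Additive.ofMul u) - 1) * conj (f χ u)) else 0)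
      = (Nat.card A : ℂ) +
        if (∃ α ∈ A, ∀ u, ψ' (Additive.ofMul (α u)) = ψ (Additive.ofMul u)) then 1 else 0 := by
  have hc : (Nat.card Q : ℂ) ≠ 0 := fl_card_ne_zero
  have hAfin : Fintype ↥A := Fintype.ofFinite _
  obtain ⟨g, hg⟩ : ∃ g : Q → ℂ, g = fun u => ψ (Additive.ofMul u⁻¹) - 1 := ⟨_, rfl⟩
  obtain ⟨g', hg'⟩ : ∃ g' : Q → ℂ, g' = fun u => ψ' (Additive.ofMul u) - 1 := ⟨_, rfl⟩
  have hone : Additive.ofMul (1 : Q) = 0 := rfl
  have hg1 : g 1 = 0 := by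
    rw [hg]
    show ψ (Additive.ofMul (1 : Q)⁻¹) - 1 = 0
    rw [inv_one, hone, AddChar.map_zero_eq_one, sub_self]
  have hg'1 : g' 1 = 0 := by
    rw [hg']
    show ψ' (Additive.ofMul (1 : Q)) - 1 = 0
    rw [hone, AddChar.map_zero_eq_one, sub_self]
  have step1 : ∑ χ : I, (if B χ then
        ((Nat.card Q : ℂ)⁻¹ * ∑ u : Q, g u * f χ u) *
        ((Nat.card Q : ℂ)⁻¹ * ∑ u : Q, g' u * conj (f χ u)) else 0)
      = (Nat.card Q : ℂ)⁻¹ * (Nat.card Q : ℂ)⁻¹ * ∑ u : Q, ∑ u' : Q, g u * g' u' *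
          ∑ χ : I, (if B χ then f χ u * conj (f χ u') else 0) := by
    have h1 : ∀ χ : I, (if B χ then
        ((Nat.card Q : ℂ)⁻¹ * ∑ u : Q, g u * f χ u) *
        ((Nat.card Q : ℂ)⁻¹ * ∑ u : Q, g' u * conj (f χ u)) else 0)
        = (Nat.card Q : ℂ)⁻¹ * (Nat.card Q : ℂ)⁻¹ * ∑ u : Q, ∑ u' : Q, g u * g' u' *
          (if B χ then f χ u * conj (f χ u') else 0) := by
      intro χ
      by_cases hB : B χ
      · simp only [if_pos hB]
        rw [mul_mul_mul_comm, Finset.sum_mul_sum]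
        congr 1
        refine Finset.sum_congr rfl fun u _ => Finset.sum_congr rfl fun u' _ => ?_
        ring
      · simp only [if_neg hB, mul_zero, Finset.sum_const_zero]
    simp_rw [h1]
    rw [← Finset.mul_sum]
    congr 1
    rw [Finset.sum_comm]
    refine Finset.sum_congr rfl fun u _ => ?_
    rw [Finset.sum_comm]
    refine Finset.sum_congr rfl fun u' _ => ?_
    rw [Finset.mul_sum]
  have step2 : ∀ u : Q, ∑ u' : Q, g u * g' u' *
        ∑ χ : I, (if B χ then f χ u * conj (f χ u') else 0)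
      = g u * ((Nat.card Q : ℂ) * ∑ α : ↥A, g' ((α : MulAut Q) u)) := by
    intro u
    by_cases hu : u = 1
    · rw [hu, hg1]
      simp
    · have h2 : ∀ u' : Q, g u * g' u' * ∑ χ : I, (if B χ then f χ u * conj (f χ u') else 0)
          = g u * (Nat.card Q : ℂ) * (if ∃ α ∈ A, α u = u' then g' u' else 0) := by
        intro u'
        by_cases hu' : u' = 1
        · rw [hu', hg'1]
          simp
        · rw [horth u u' hu hu']
          split_ifs <;> ring
      simp_rw [h2]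
      rw [← Finset.mul_sum, mul_assoc]
      congr 2
      rw [← Finset.sum_filter]
      have himg : (Finset.univ.filter fun u' : Q => ∃ α ∈ A, α u = u')
          = Finset.univ.image (fun α : ↥A => (α : MulAut Q) u) := by
        ext u'
        simp only [Finset.mem_filter, Finset.mem_univ, true_and, Finset.mem_image]
        constructor
        · rintro ⟨α, hα, h⟩
          exact ⟨⟨α, hα⟩, h⟩
        · rintro ⟨α, h⟩
          exact ⟨α.1, α.2, h⟩
      rw [himg, Finset.sum_image]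
      intro α _ β _ hαβ
      apply Subtype.ext
      have h3 : (β.1⁻¹ * α.1) u = u := by
        rw [MulAut.mul_apply]
        have h5 : (α : MulAut Q) u = (β : MulAut Q) u := hαβ
        rw [h5, MulAut.inv_apply_self]
      have h4 := F1 _ (A.mul_mem (A.inv_mem β.2) α.2) u hu h3
      exact (inv_mul_eq_one.mp h4).symm
  have step4 : ∀ α : ↥A, ∑ u : Q, g u * g' ((α : MulAut Q) u)
      = (if (∀ u, ψ' (Additive.ofMul ((α : MulAut Q) u)) = ψ (Additive.ofMul u))
          then (Nat.card Q : ℂ) else 0) + (Nat.card Q : ℂ) := by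
    intro α
    have h1 : ∀ u : Q, g u * g' ((α : MulAut Q) u)
        = ψ (Additive.ofMul u⁻¹) * ψ' (Additive.ofMul ((α : MulAut Q) u))
          - ψ (Additive.ofMul u⁻¹) - ψ' (Additive.ofMul ((α : MulAut Q) u)) + 1 := by
      intro u
      rw [hg, hg']
      ring
    simp_rw [h1]
    rw [Finset.sum_add_distrib, Finset.sum_sub_distrib, Finset.sum_sub_distrib, fl_twist_sum,
      fl_sum_char_inv, if_neg hψ]
    have h2 : ∑ u : Q, ψ' (Additive.ofMul ((α : MulAut Q) u)) = 0 := by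
      have h3 := fl_sum_char ψ'
      rw [if_neg hψ'] at h3
      rw [← h3]
      exact Fintype.sum_equiv (α : MulAut Q).toEquiv _ _ (fun _ => rfl)
    rw [h2]
    simp [Nat.card_eq_fintype_card]
  have step5 : ∑ α : ↥A, (if (∀ u, ψ' (Additive.ofMul ((α : MulAut Q) u))
        = ψ (Additive.ofMul u)) then (1 : ℂ) else 0)
      = if (∃ α ∈ A, ∀ u, ψ' (Additive.ofMul (α u)) = ψ (Additive.ofMul u)) then 1 else 0 := by
    by_cases hex : ∃ α ∈ A, ∀ u, ψ' (Additive.ofMul (α u)) = ψ (Additive.ofMul u)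
    · rw [if_pos hex]
      obtain ⟨α₀, hα₀, hT⟩ := hex
      rw [Finset.sum_eq_single (⟨α₀, hα₀⟩ : ↥A)]
      · rw [if_pos hT]
      · intro β _ hβ
        rw [if_neg]
        intro hTβ
        apply hβ
        apply Subtype.ext
        have h3 : ∀ v, ψ' (Additive.ofMul ((β.1 * α₀⁻¹) v)) = ψ' (Additive.ofMul v) := by
          intro v
          rw [MulAut.mul_apply, hTβ, ← hT, MulAut.apply_inv_self]
        have h4 := F2 _ (A.mul_mem β.2 (A.inv_mem hα₀)) ψ' hψ' h3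
        exact mul_inv_eq_one.mp h4
      · intro h
        exact absurd (Finset.mem_univ _) h
    · rw [if_neg hex]
      apply Finset.sum_eq_zero
      intro α _
      rw [if_neg]
      intro hT
      exact hex ⟨α.1, α.2, hT⟩
  have key : ∑ χ : I, (if B χ then
        ((Nat.card Q : ℂ)⁻¹ * ∑ u : Q, g u * f χ u) *
        ((Nat.card Q : ℂ)⁻¹ * ∑ u : Q, g' u * conj (f χ u)) else 0)
      = (Nat.card A : ℂ) +
        if (∃ α ∈ A, ∀ u, ψ' (Additive.ofMul (α u)) = ψ (Additive.ofMul u)) then 1 else 0 := by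
    rw [step1]
    simp_rw [step2]
    have h6 : ∑ u : Q, g u * ((Nat.card Q : ℂ) * ∑ α : ↥A, g' ((α : MulAut Q) u))
        = ∑ α : ↥A, (Nat.card Q : ℂ) * ∑ u : Q, g u * g' ((α : MulAut Q) u) := by
      have h7 : ∀ u : Q, g u * ((Nat.card Q : ℂ) * ∑ α : ↥A, g' ((α : MulAut Q) u))
          = ∑ α : ↥A, (Nat.card Q : ℂ) * (g u * g' ((α : MulAut Q) u)) := by
        intro u
        rw [Finset.mul_sum, Finset.mul_sum]
        refine Finset.sum_congr rfl fun α _ => ?_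
        ring
      simp_rw [h7]
      rw [Finset.sum_comm]
      refine Finset.sum_congr rfl fun α _ => ?_
      rw [Finset.mul_sum]
    rw [h6]
    simp_rw [step4]
    rw [Finset.mul_sum, ← step5]
    have h8 : ∀ α : ↥A, (Nat.card Q : ℂ)⁻¹ * (Nat.card Q : ℂ)⁻¹ * ((Nat.card Q : ℂ) *
        ((if (∀ u, ψ' (Additive.ofMul ((α : MulAut Q) u)) = ψ (Additive.ofMul u))
          then (Nat.card Q : ℂ) else 0) + (Nat.card Q : ℂ)))
        = (if (∀ u, ψ' (Additive.ofMul ((α : MulAut Q) u)) = ψ (Additive.ofMul u))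
          then (1 : ℂ) else 0) + 1 := by
      intro α
      split_ifs
      · field_simp
      · field_simp
        simp
    simp_rw [h8]
    rw [Finset.sum_add_distrib, Finset.sum_const, Finset.card_univ, nsmul_eq_mul, mul_one,
      Nat.card_eq_fintype_card, add_comm]
  subst hg
  subst hg'
  exact key

/-- The character `ψ ∘ α`. -/
noncomputable def flComp (ψ : AddChar (Additive Q) ℂ) (α : MulAut Q) :
    AddChar (Additive Q) ℂ where
  toFun a := ψ (Additive.ofMul (α a.toMul))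
  map_zero_eq_one' := by simp
  map_add_eq_mul' a b := by
    have h1 : Additive.ofMul (α (a + b).toMul)
        = Additive.ofMul (α a.toMul) + Additive.ofMul (α b.toMul) := by
      show Additive.ofMul (α (a.toMul * b.toMul)) = _
      rw [map_mul]
      rfl
    rw [h1, AddChar.map_add_eq_mul]

theorem flComp_apply (ψ : AddChar (Additive Q) ℂ) (α : MulAut Q) (u : Q) :
    flComp ψ α (Additive.ofMul u) = ψ (Additive.ofMul (α u)) := rfl

theorem flComp_ne_zero (ψ : AddChar (Additive Q) ℂ) (hψ : ψ ≠ 0) (α : MulAut Q) :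
    flComp ψ α ≠ 0 := by
  intro h
  apply hψ
  rw [AddChar.eq_zero_iff] at h ⊢
  intro a
  have h1 := h (Additive.ofMul (α⁻¹ a.toMul))
  rw [flComp_apply, MulAut.apply_inv_self] at h1
  exact h1

/-- In a finite cyclic group, an element killed by `n` is a power of any element of order `n`. -/
theorem fl_cyc_pow {R : Type u} [Group R] [Fintype R] (hcyc : IsCyclic R) {n : ℕ} (hn : 0 < n)
    (x y : R) (hx : orderOf x = n) (hy : y ^ n = 1) : ∃ m : ℕ, y = x ^ m := by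
  classical
  have hle := IsCyclic.card_pow_eq_one_le (α := R) hn
  have hsub : (Finset.range n).image (fun m : ℕ => x ^ m)
      ⊆ Finset.univ.filter (fun a : R => a ^ n = 1) := by
    intro a ha
    rw [Finset.mem_image] at ha
    obtain ⟨m, -, rfl⟩ := ha
    rw [Finset.mem_filter]
    refine ⟨Finset.mem_univ _, ?_⟩
    rw [← pow_mul, mul_comm, pow_mul, ← hx, pow_orderOf_eq_one, one_pow]
  have hcard : ((Finset.range n).image (fun m : ℕ => x ^ m)).card = n := by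
    rw [Finset.card_image_of_injOn, Finset.card_range]
    intro a ha b hb hab
    rw [Finset.coe_range] at ha hb
    exact pow_injOn_Iio_orderOf (by rw [hx]; exact ha) (by rw [hx]; exact hb) hab
  have heq := Finset.eq_of_subset_of_card_le hsub (by rw [hcard]; exact hle)
  have hyS : y ∈ Finset.univ.filter (fun a : R => a ^ n = 1) := by
    rw [Finset.mem_filter]
    exact ⟨Finset.mem_univ _, hy⟩
  rw [← heq, Finset.mem_image] at hyS
  obtain ⟨m, -, hm⟩ := hyS
  exact ⟨m, hm.symm⟩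

open Classical in
/-- The abstract form of `flA_plevel`. -/
theorem flA_plevel_abs {I : Type u} [Fintype I] (hcyc : IsCyclic Q) {p : ℕ} [Fact p.Prime]
    (q : ℕ) (hq : Nat.card Q = q) (x : Q) (hx : orderOf x = p)
    (B : I → Prop) (f : I → Q → ℂ) (triv : I) (htriv : ∀ u, f triv u = 1)
    (deg : I → ℕ) (hdeg : ∀ χ, f χ 1 = deg χ)
    (nn : ∀ χ (ψ : AddChar (Additive Q) ℂ), ∃ m : ℕ, flMul (f χ) ψ = m)
    (A : Subgroup (MulAut Q)) (e : ℕ) (hA : Nat.card A = e)
    (F1 : ∀ α ∈ A, ∀ w : Q, w ≠ 1 → α w = w → α = 1)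
    (F2 : ∀ α ∈ A, ∀ ψ : AddChar (Additive Q) ℂ, ψ ≠ 0 →
      (∀ u, ψ (Additive.ofMul (α u)) = ψ (Additive.ofMul u)) → α = 1)
    (horth1 : ∀ w w' : Q, w ≠ 1 → w' ≠ 1 → (∃ α ∈ A, α w = w') →
      ∑ χ : I, (if B χ then f χ w * conj (f χ w') else 0) = (q : ℂ))
    (horth0 : ∀ w w' : Q, w ≠ 1 → w' ≠ 1 → ¬ (∃ α ∈ A, α w = w') →
      ∑ χ : I, (if B χ then f χ w * conj (f χ w') else 0) = 0) :
    ∃ (ι : Type u) (_ : Fintype ι) (r : ι → ι → Prop) (Mx : ι → I → ℤ)
      (k : I → ℕ) (c : ι → ℤ) (z : ι → ℂ),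
      Equivalence r ∧
      Fintype.card ι + 1 = q ∧
      (∀ i, Nat.card {j // r i j} = e) ∧
      (∀ i j, r i j → ∑ χ : I, (if B χ then Mx i χ * Mx j χ else 0) = (e : ℤ) + 1) ∧
      (∀ i j, ¬ r i j → ∑ χ : I, (if B χ then Mx i χ * Mx j χ else 0) = (e : ℤ)) ∧
      (∀ (χ : I) (i : ι), 0 ≤ (k χ : ℤ) + Mx i χ) ∧
      (∀ χ : I, (deg χ : ℤ) = q * k χ + ∑ i, Mx i χ) ∧
      (∀ χ : I, f χ x = (k χ : ℂ) + ∑ i, (((k χ : ℤ) + Mx i χ : ℤ) : ℂ) * z i) ∧
      (∀ χ : I, ∑ t : (ZMod p)ˣ, f χ (x ^ (t : ZMod p).val)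
        = ((∑ i, c i * Mx i χ : ℤ) : ℂ)) ∧
      (∀ i, (c i = (p : ℤ) - 1 ∧ z i = 1) ∨ c i = -1) ∧
      (∀ i j, r i j → c i = c j) ∧
      (∑ i, c i = -((p : ℤ) - 1)) ∧
      (∀ i, Mx i triv = -1) := by
  have hp : p.Prime := Fact.out
  subst hq
  have horth : ∀ w w' : Q, w ≠ 1 → w' ≠ 1 →
      ∑ χ : I, (if B χ then f χ w * conj (f χ w') else 0)
        = if ∃ α ∈ A, α w = w' then (Nat.card Q : ℂ) else 0 := by
    intro w w' hw hw'
    split_ifs with h
    · exact horth1 w w' hw hw' h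
    · exact horth0 w w' hw hw' h
  obtain ⟨mult, hmult⟩ : ∃ mult : I → AddChar (Additive Q) ℂ → ℕ,
      ∀ χ ψ, flMul (f χ) ψ = mult χ ψ :=
    ⟨fun χ ψ => Classical.choose (nn χ ψ), fun χ ψ => Classical.choose_spec (nn χ ψ)⟩
  have hcQ : (Nat.card Q : ℂ) ≠ 0 := fl_card_ne_zero
  have hxp : x ^ p = 1 := by
    rw [← hx]
    exact pow_orderOf_eq_one x
  have hone : Additive.ofMul (1 : Q) = 0 := rfl
  have hsplit : ∀ F : AddChar (Additive Q) ℂ → ℂ,
      ∑ ψ, F ψ = F 0 + ∑ i : {ψ : AddChar (Additive Q) ℂ // ψ ≠ 0}, F i.1 :=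
    fun F => Fintype.sum_eq_add_sum_subtype_ne F 0
  have hsplitN : ∀ F : AddChar (Additive Q) ℂ → ℕ,
      ∑ ψ, F ψ = F 0 + ∑ i : {ψ : AddChar (Additive Q) ℂ // ψ ≠ 0}, F i.1 :=
    fun F => Fintype.sum_eq_add_sum_subtype_ne F 0
  have hcard : Fintype.card {ψ : AddChar (Additive Q) ℂ // ψ ≠ 0} + 1 = Nat.card Q := by
    have h1 := hsplitN (fun _ => 1)
    simp only [Finset.sum_const, Finset.card_univ, smul_eq_mul, mul_one] at h1
    rw [fl_card_dual] at h1
    omega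
  have hpow : ∀ (ψ : AddChar (Additive Q) ℂ) (n : ℕ),
      ψ (Additive.ofMul (x ^ n)) = ψ (Additive.ofMul x) ^ n := by
    intro ψ n
    have h1 : Additive.ofMul (x ^ n) = n • Additive.ofMul x := rfl
    rw [h1, AddChar.map_nsmul_eq_pow]
  have hpp : ∀ ψ : AddChar (Additive Q) ℂ, ψ (Additive.ofMul x) ^ p = 1 := by
    intro ψ
    rw [← hpow, hxp, hone, AddChar.map_zero_eq_one]
  have hC : ∀ ψ : AddChar (Additive Q) ℂ,
      ∑ t : (ZMod p)ˣ, ψ (Additive.ofMul (x ^ (t : ZMod p).val))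
      = if ψ (Additive.ofMul x) = 1 then (p : ℂ) - 1 else -1 := by
    intro ψ
    simp_rw [hpow]
    exact fl_sum_units_pow _ (hpp ψ)
  have hCsum : ∑ ψ : AddChar (Additive Q) ℂ,
      (if ψ (Additive.ofMul x) = 1 then (p : ℂ) - 1 else -1) = 0 := by
    simp_rw [← hC]
    rw [Finset.sum_comm]
    apply Finset.sum_eq_zero
    intro t _
    rw [fl_sum_dual, if_neg]
    intro h
    have h1 : orderOf x ∣ (t : ZMod p).val := orderOf_dvd_of_pow_eq_one h
    rw [hx] at h1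
    have h2 : (t : ZMod p).val < p := ZMod.val_lt _
    have h3 : (t : ZMod p).val ≠ 0 := fun h0 => t.ne_zero ((ZMod.val_eq_zero _).mp h0)
    exact h3 (Nat.eq_zero_of_dvd_of_lt h1 h2)
  have hinv : ∀ (χ : I) (v : Q),
      f χ v = ∑ ψ : AddChar (Additive Q) ℂ, (mult χ ψ : ℂ) * ψ (Additive.ofMul v) := by
    intro χ v
    rw [← fl_inversion (f χ) v]
    refine Finset.sum_congr rfl fun ψ _ => ?_
    rw [hmult]
  have hmtriv : ∀ ψ : AddChar (Additive Q) ℂ, mult triv ψ = if ψ = 0 then 1 else 0 := by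
    intro ψ
    have h1 : f triv = fun _ => (1 : ℂ) := funext htriv
    have h2 := hmult triv ψ
    rw [h1, fl_mul_const_one] at h2
    split_ifs with h
    · rw [if_pos h] at h2
      exact_mod_cast h2.symm
    · rw [if_neg h] at h2
      exact_mod_cast h2.symm
  have hMa : ∀ (χ : I) (ψ : AddChar (Additive Q) ℂ), ((mult χ ψ : ℂ) - (mult χ 0 : ℂ))
      = (Nat.card Q : ℂ)⁻¹ * ∑ u : Q, (ψ (Additive.ofMul u⁻¹) - 1) * f χ u := by
    intro χ ψ
    rw [← hmult, ← hmult]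
    unfold flMul
    rw [← mul_sub, ← Finset.sum_sub_distrib]
    congr 1
    refine Finset.sum_congr rfl fun u _ => ?_
    rw [AddChar.zero_apply]
    ring
  have hMb : ∀ (χ : I) (ψ : AddChar (Additive Q) ℂ), ((mult χ ψ : ℂ) - (mult χ 0 : ℂ))
      = (Nat.card Q : ℂ)⁻¹ * ∑ u : Q, (ψ (Additive.ofMul u) - 1) * conj (f χ u) := by
    intro χ ψ
    have h1 : conj ((mult χ ψ : ℂ) - (mult χ 0 : ℂ)) = (mult χ ψ : ℂ) - (mult χ 0 : ℂ) := by
      rw [map_sub, Complex.conj_natCast, Complex.conj_natCast]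
    rw [← h1, hMa, map_mul, map_inv₀, Complex.conj_natCast, map_sum]
    congr 1
    refine Finset.sum_congr rfl fun u _ => ?_
    rw [map_mul, map_sub, map_one]
    have h2 : Additive.ofMul u⁻¹ = -Additive.ofMul u := rfl
    rw [h2, AddChar.map_neg_eq_conj, Complex.conj_conj]
  have hgram : ∀ (ψ ψ' : AddChar (Additive Q) ℂ), ψ ≠ 0 → ψ' ≠ 0 →
      ∑ χ : I, (if B χ then ((mult χ ψ : ℤ) - mult χ 0) * ((mult χ ψ' : ℤ) - mult χ 0) else 0)
        = (e : ℤ) + if (∃ α ∈ A, ∀ u, ψ' (Additive.ofMul u) = ψ (Additive.ofMul (α u)))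
            then 1 else 0 := by
    intro ψ ψ' hψ hψ'
    have h1 := fl_gram B f A F1 F2 horth ψ' ψ hψ' hψ
    simp_rw [← hMa, ← hMb] at h1
    rw [hA] at h1
    have h3 : (∃ α ∈ A, ∀ u, ψ (Additive.ofMul (α u)) = ψ' (Additive.ofMul u))
        ↔ (∃ α ∈ A, ∀ u, ψ' (Additive.ofMul u) = ψ (Additive.ofMul (α u))) :=
      ⟨fun ⟨α, hα, h⟩ => ⟨α, hα, fun u => (h u).symm⟩,
        fun ⟨α, hα, h⟩ => ⟨α, hα, fun u => (h u).symm⟩⟩
    rw [if_congr h3 rfl rfl] at h1
    have h2 : ((∑ χ : I, (if B χ then ((mult χ ψ : ℤ) - mult χ 0)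
          * ((mult χ ψ' : ℤ) - mult χ 0) else 0) : ℤ) : ℂ)
        = (((e : ℤ) + if (∃ α ∈ A, ∀ u, ψ' (Additive.ofMul u) = ψ (Additive.ofMul (α u)))
            then 1 else 0 : ℤ) : ℂ) := by
      push_cast
      rw [← h1]
      refine Finset.sum_congr rfl fun χ _ => ?_
      split_ifs
      · ring
      · rfl
    exact_mod_cast h2
  refine ⟨{ψ : AddChar (Additive Q) ℂ // ψ ≠ 0}, inferInstance,
    fun i j => ∃ α ∈ A, ∀ u, j.1 (Additive.ofMul u) = i.1 (Additive.ofMul (α u)),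
    fun i χ => (mult χ i.1 : ℤ) - mult χ 0, fun χ => mult χ 0,
    fun i => if i.1 (Additive.ofMul x) = 1 then (p : ℤ) - 1 else -1,
    fun i => i.1 (Additive.ofMul x), ?_, ?_, ?_, ?_, ?_, ?_, ?_, ?_, ?_, ?_, ?_, ?_, ?_⟩
  · refine ⟨fun i => ⟨1, A.one_mem, fun u => rfl⟩, ?_, ?_⟩
    · rintro i j ⟨α, hα, h⟩
      refine ⟨α⁻¹, A.inv_mem hα, fun u => ?_⟩
      rw [h, MulAut.apply_inv_self]
    · rintro i j k ⟨α, hα, h⟩ ⟨β, hβ, h'⟩
      refine ⟨α * β, A.mul_mem hα hβ, fun u => ?_⟩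
      rw [h', h, MulAut.mul_apply]
  · exact hcard
  · intro i
    rw [← hA]
    symm
    refine Nat.card_congr (Equiv.ofBijective
      (fun α : ↥A => (⟨⟨flComp i.1 α.1, flComp_ne_zero i.1 i.2 α.1⟩,
          ⟨α.1, α.2, fun u => rfl⟩⟩ :
        {j : {ψ : AddChar (Additive Q) ℂ // ψ ≠ 0} //
          ∃ α ∈ A, ∀ u, j.1 (Additive.ofMul u) = i.1 (Additive.ofMul (α u))})) ⟨?_, ?_⟩)
    · intro α β hαβ
      have h1 : flComp i.1 α.1 = flComp i.1 β.1 := congrArg (fun j => j.1.1) hαβ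
      apply Subtype.ext
      have h3 : ∀ v, i.1 (Additive.ofMul ((α.1 * β.1⁻¹) v)) = i.1 (Additive.ofMul v) := by
        intro v
        rw [MulAut.mul_apply, ← flComp_apply, h1, flComp_apply, MulAut.apply_inv_self]
      have h4 := F2 _ (A.mul_mem α.2 (A.inv_mem β.2)) i.1 i.2 h3
      exact mul_inv_eq_one.mp h4
    · rintro ⟨j, α, hα, h⟩
      refine ⟨⟨α, hα⟩, ?_⟩
      apply Subtype.ext
      apply Subtype.ext
      apply AddChar.ext
      intro a
      exact (h a.toMul).symm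
  · intro i j hr
    have h := hgram i.1 j.1 i.2 j.2
    rw [if_pos hr] at h
    exact h
  · intro i j hr
    have h := hgram i.1 j.1 i.2 j.2
    rw [if_neg hr, add_zero] at h
    exact h
  · intro χ i
    show (0 : ℤ) ≤ (mult χ 0 : ℤ) + ((mult χ i.1 : ℤ) - mult χ 0)
    have h1 : (0 : ℤ) ≤ (mult χ i.1 : ℤ) := Int.natCast_nonneg _
    linarith
  · intro χ
    have h1 := hinv χ 1
    rw [hdeg] at h1
    simp_rw [hone, AddChar.map_zero_eq_one, mul_one] at h1
    have h2 : deg χ = ∑ ψ : AddChar (Additive Q) ℂ, mult χ ψ := by exact_mod_cast h1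
    rw [hsplitN] at h2
    show (deg χ : ℤ) = (Nat.card Q : ℤ) * (mult χ 0 : ℤ)
      + ∑ i : {ψ : AddChar (Additive Q) ℂ // ψ ≠ 0}, ((mult χ i.1 : ℤ) - mult χ 0)
    rw [Finset.sum_sub_distrib, Finset.sum_const, Finset.card_univ, ← hcard, h2]
    push_cast
    simp only [nsmul_eq_mul]
    ring
  · intro χ
    rw [hinv χ x, hsplit]
    rw [AddChar.zero_apply, mul_one]
    congr 1
    refine Finset.sum_congr rfl fun i _ => ?_
    push_cast
    ring
  · intro χ
    have h1 : ∑ t : (ZMod p)ˣ, f χ (x ^ (t : ZMod p).val)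
        = ∑ ψ : AddChar (Additive Q) ℂ, (mult χ ψ : ℂ)
            * (if ψ (Additive.ofMul x) = 1 then (p : ℂ) - 1 else -1) := by
      simp_rw [hinv χ]
      rw [Finset.sum_comm]
      refine Finset.sum_congr rfl fun ψ _ => ?_
      rw [← Finset.mul_sum, hC]
    rw [h1, hsplit]
    have h2 := hCsum
    rw [hsplit] at h2
    rw [AddChar.zero_apply, if_pos rfl] at h2 ⊢
    have h4 : ((∑ i : {ψ : AddChar (Additive Q) ℂ // ψ ≠ 0},
          (if i.1 (Additive.ofMul x) = 1 then (p : ℤ) - 1 else -1)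
            * ((mult χ i.1 : ℤ) - mult χ 0) : ℤ) : ℂ)
        = ∑ i : {ψ : AddChar (Additive Q) ℂ // ψ ≠ 0},
          ((mult χ i.1 : ℂ) * (if i.1 (Additive.ofMul x) = 1 then (p : ℂ) - 1 else -1)
            - (mult χ 0 : ℂ) * (if i.1 (Additive.ofMul x) = 1 then (p : ℂ) - 1 else -1)) := by
      push_cast
      refine Finset.sum_congr rfl fun i _ => ?_
      ring
    rw [h4, Finset.sum_sub_distrib, ← Finset.mul_sum]
    linear_combination (mult χ 0 : ℂ) * h2
  · intro i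
    by_cases h : i.1 (Additive.ofMul x) = 1
    · left
      exact ⟨if_pos h, h⟩
    · right
      exact if_neg h
  · rintro i j ⟨α, hα, h⟩
    have key : ∀ (ψ ψ' : AddChar (Additive Q) ℂ) (β : MulAut Q),
        (∀ u, ψ' (Additive.ofMul u) = ψ (Additive.ofMul (β u))) →
        ψ (Additive.ofMul x) = 1 → ψ' (Additive.ofMul x) = 1 := by
      intro ψ ψ' β hβ h1
      have hy : (β x) ^ p = 1 := by rw [← map_pow, hxp, map_one]
      obtain ⟨m, hm⟩ := fl_cyc_pow hcyc hp.pos x (β x) hx hy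
      rw [hβ, hm, hpow, h1, one_pow]
    have hiff : i.1 (Additive.ofMul x) = 1 ↔ j.1 (Additive.ofMul x) = 1 := by
      constructor
      · exact key i.1 j.1 α h
      · refine key j.1 i.1 α⁻¹ (fun u => ?_)
        rw [h, MulAut.apply_inv_self]
    show (if i.1 (Additive.ofMul x) = 1 then (p : ℤ) - 1 else -1)
      = (if j.1 (Additive.ofMul x) = 1 then (p : ℤ) - 1 else -1)
    rw [if_congr hiff rfl rfl]
  · have h2 := hCsum
    rw [hsplit] at h2
    rw [AddChar.zero_apply, if_pos rfl] at h2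
    have h3 : ((∑ i : {ψ : AddChar (Additive Q) ℂ // ψ ≠ 0},
        (if i.1 (Additive.ofMul x) = 1 then (p : ℤ) - 1 else -1) : ℤ) : ℂ)
        = ((-((p : ℤ) - 1) : ℤ) : ℂ) := by
      push_cast
      linear_combination h2
    exact_mod_cast h3
  · intro i
    show ((mult triv i.1 : ℤ) - mult triv 0) = -1
    rw [hmtriv, hmtriv, if_neg i.2, if_pos rfl]
    simp

end Abstract

/-! ### The statement for a cyclic subgroup of a finite group -/

/-- A commutative group structure from commutativity of the multiplication. -/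
@[reducible] def flCommGroup (H : Type u) [inst : Group H] (h : ∀ a b : H, a * b = b * a) :
    CommGroup H :=
  { inst with mul_comm := h }

/-- The kernel of a linear character of a subgroup, as a subgroup of the ambient group. -/
def flKer {G : Type u} [Group G] (P : Subgroup G) (ψ : AddChar (Additive ↥P) ℂ) : Subgroup G where
  carrier := {g | ∃ h : g ∈ P, ψ (Additive.ofMul (⟨g, h⟩ : ↥P)) = 1}
  one_mem' := ⟨P.one_mem, by
    have h0 : Additive.ofMul (⟨1, P.one_mem⟩ : ↥P) = 0 := rfl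
    rw [h0, AddChar.map_zero_eq_one]⟩
  mul_mem' := by
    rintro a b ⟨ha, ha'⟩ ⟨hb, hb'⟩
    refine ⟨P.mul_mem ha hb, ?_⟩
    have h0 : Additive.ofMul (⟨a * b, P.mul_mem ha hb⟩ : ↥P)
        = Additive.ofMul (⟨a, ha⟩ : ↥P) + Additive.ofMul (⟨b, hb⟩ : ↥P) := rfl
    rw [h0, AddChar.map_add_eq_mul, ha', hb', one_mul]
  inv_mem' := by
    rintro a ⟨ha, ha'⟩
    refine ⟨P.inv_mem ha, ?_⟩
    have h0 : Additive.ofMul (⟨a⁻¹, P.inv_mem ha⟩ : ↥P) = -Additive.ofMul (⟨a, ha⟩ : ↥P) := rfl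
    rw [h0, AddChar.map_neg_eq_inv, ha', inv_one]

theorem mem_flKer {G : Type u} [Group G] (P : Subgroup G) (ψ : AddChar (Additive ↥P) ℂ) (g : G) :
    g ∈ flKer P ψ ↔ ∃ h : g ∈ P, ψ (Additive.ofMul (⟨g, h⟩ : ↥P)) = 1 := Iff.rfl

theorem flKer_lt {G : Type u} [Group G] (P : Subgroup G) (ψ : AddChar (Additive ↥P) ℂ)
    (hψ : ψ ≠ 0) : flKer P ψ < P := by
  rw [SetLike.lt_iff_le_and_exists]
  refine ⟨fun g hg => ?_, ?_⟩
  · obtain ⟨h, -⟩ := (mem_flKer P ψ g).mp hg
    exact h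
  · obtain ⟨a, ha⟩ := AddChar.ne_zero_iff.mp hψ
    refine ⟨(a.toMul : ↥P), (a.toMul : ↥P).2, ?_⟩
    intro hmem
    obtain ⟨h, h1⟩ := (mem_flKer P ψ _).mp hmem
    exact ha h1

open Classical in
theorem flA_plevel {G : Type u} [Group G] [Fintype G] {p : ℕ} [Fact p.Prime]
    (P : Subgroup G) (hPcyc : IsCyclic ↥P) (q : ℕ) (hq : Nat.card ↥P = q)
    (x : G) (hxP : x ∈ P) (hx : orderOf x = p)
    (B : Set (IrrCharacter G))
    (horth : ∀ w ∈ P, ∀ w' ∈ P, w ≠ 1 → w' ≠ 1 →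
      ∑ χ : IrrCharacter G, (if χ ∈ B then (χ : G → ℂ) w * conj ((χ : G → ℂ) w') else 0)
        = if IsConj w w' then (q : ℂ) else 0)
    (hfus : ∀ w ∈ P, ∀ w' ∈ P, IsConj w w' →
      ∃ n ∈ Subgroup.normalizer (P : Set G), n * w * n⁻¹ = w')
    (hfree : ∀ n ∈ Subgroup.normalizer (P : Set G),
      ((∃ P₀ : Subgroup G, P₀ < P ∧ ∀ a ∈ P, n * a * n⁻¹ * a⁻¹ ∈ P₀) ∨
         (∃ w ∈ P, w ≠ 1 ∧ n * w * n⁻¹ = w)) → n ∈ Subgroup.centralizer (P : Set G))
    (e : ℕ) (he : Nat.card ↥(Subgroup.normalizer (P : Set G))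
      = e * Nat.card ↥(Subgroup.centralizer (P : Set G))) :
    ∃ (ι : Type u) (_ : Fintype ι) (r : ι → ι → Prop) (Mx : ι → IrrCharacter G → ℤ)
      (k : IrrCharacter G → ℕ) (c : ι → ℤ) (z : ι → ℂ),
      Equivalence r ∧
      Fintype.card ι + 1 = q ∧
      (∀ i, Nat.card {j // r i j} = e) ∧
      (∀ i j, r i j →
        ∑ χ : IrrCharacter G, (if χ ∈ B then Mx i χ * Mx j χ else 0) = (e : ℤ) + 1) ∧
      (∀ i j, ¬ r i j →
        ∑ χ : IrrCharacter G, (if χ ∈ B then Mx i χ * Mx j χ else 0) = (e : ℤ)) ∧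
      (∀ (χ : IrrCharacter G) (i : ι), 0 ≤ (k χ : ℤ) + Mx i χ) ∧
      (∀ χ : IrrCharacter G, (charDegree (χ : G → ℂ) : ℤ) = q * k χ + ∑ i, Mx i χ) ∧
      (∀ χ : IrrCharacter G,
        (χ : G → ℂ) x = (k χ : ℂ) + ∑ i, (((k χ : ℤ) + Mx i χ : ℤ) : ℂ) * z i) ∧
      (∀ χ : IrrCharacter G, ∑ t : (ZMod p)ˣ, (χ : G → ℂ) (x ^ (t : ZMod p).val)
        = ((∑ i, c i * Mx i χ : ℤ) : ℂ)) ∧
      (∀ i, (c i = (p : ℤ) - 1 ∧ z i = 1) ∨ c i = -1) ∧
      (∀ i j, r i j → c i = c j) ∧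
      (∑ i, c i = -((p : ℤ) - 1)) ∧
      (∀ i, Mx i (Cfsg.Agent.Lib.helper81.trivChar G) = -1) := by
  have hp : p.Prime := Fact.out
  have hcomm : ∀ a b : ↥P, a * b = b * a := by
    intro a b
    letI := IsCyclic.commGroup (α := ↥P)
    exact mul_comm a b
  -- the automorphisms induced by the normalizer
  obtain ⟨A, hAdef⟩ : ∃ A : Subgroup (MulAut ↥P), A = P.normalizerMonoidHom.range := ⟨_, rfl⟩
  have hAmem : ∀ α : MulAut ↥P, α ∈ A ↔
      ∃ n : G, ∃ hn : n ∈ Subgroup.normalizer (P : Set G),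
        P.normalizerMonoidHom ⟨n, hn⟩ = α := by
    intro α
    rw [hAdef, MonoidHom.mem_range]
    constructor
    · rintro ⟨⟨n, hn⟩, h⟩
      exact ⟨n, hn, h⟩
    · rintro ⟨n, hn, h⟩
      exact ⟨⟨n, hn⟩, h⟩
  have hval : ∀ (n : G) (hn : n ∈ Subgroup.normalizer (P : Set G)) (u : ↥P),
      ((P.normalizerMonoidHom ⟨n, hn⟩ u : ↥P) : G) = n * (u : G) * n⁻¹ := fun n hn u => rfl
  have hcent : ∀ (n : G) (hn : n ∈ Subgroup.normalizer (P : Set G)),
      n ∈ Subgroup.centralizer (P : Set G) → P.normalizerMonoidHom ⟨n, hn⟩ = 1 := by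
    intro n hn hc
    apply MulEquiv.ext
    intro u
    apply Subtype.ext
    rw [hval]
    have h1 := Subgroup.mem_centralizer_iff.mp hc (u : G) u.2
    show n * (u : G) * n⁻¹ = (u : G)
    rw [← h1, mul_inv_cancel_right]
  have hA : Nat.card A = e := by
    have h1 := Subgroup.card_mul_index P.normalizerMonoidHom.ker
    rw [Subgroup.index_ker, Subgroup.normalizerMonoidHom_ker, ← hAdef] at h1
    have h2 : Nat.card ↥((Subgroup.centralizer (P : Set G)).subgroupOf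
        (Subgroup.normalizer (P : Set G))) = Nat.card ↥(Subgroup.centralizer (P : Set G)) :=
      Nat.card_congr (Subgroup.subgroupOfEquivOfLe
        (Subgroup.centralizer_le_normalizer (P : Set G))).toEquiv
    rw [h2, he, mul_comm] at h1
    exact Nat.eq_of_mul_eq_mul_right Nat.card_pos h1
  have F1 : ∀ α ∈ A, ∀ w : ↥P, w ≠ 1 → α w = w → α = 1 := by
    intro α hα w hw hαw
    obtain ⟨n, hn, rfl⟩ := (hAmem α).mp hα
    apply hcent n hn
    apply hfree n hn
    right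
    refine ⟨(w : G), w.2, fun h => hw (Subtype.ext h), ?_⟩
    rw [← hval n hn w, hαw]
  have F2 : ∀ α ∈ A, ∀ ψ : AddChar (Additive ↥P) ℂ, ψ ≠ 0 →
      (∀ u, ψ (Additive.ofMul (α u)) = ψ (Additive.ofMul u)) → α = 1 := by
    intro α hα ψ hψ hinv
    obtain ⟨n, hn, rfl⟩ := (hAmem α).mp hα
    apply hcent n hn
    apply hfree n hn
    left
    refine ⟨flKer P ψ, flKer_lt P ψ hψ, ?_⟩
    intro a ha
    rw [mem_flKer]
    have hmem : n * a * n⁻¹ ∈ P := by
      have h1 := hval n hn ⟨a, ha⟩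
      rw [← h1]
      exact Subtype.property _
    refine ⟨P.mul_mem hmem (P.inv_mem ha), ?_⟩
    have h2 : Additive.ofMul (⟨n * a * n⁻¹ * a⁻¹, P.mul_mem hmem (P.inv_mem ha)⟩ : ↥P)
        = Additive.ofMul (P.normalizerMonoidHom ⟨n, hn⟩ ⟨a, ha⟩)
          + Additive.ofMul ((⟨a, ha⟩ : ↥P)⁻¹) := rfl
    rw [h2, AddChar.map_add_eq_mul, hinv, ← AddChar.map_add_eq_mul]
    have h3 : Additive.ofMul (⟨a, ha⟩ : ↥P) + Additive.ofMul ((⟨a, ha⟩ : ↥P)⁻¹) = 0 := by
      show Additive.ofMul ((⟨a, ha⟩ : ↥P) * (⟨a, ha⟩ : ↥P)⁻¹) = 0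
      rw [mul_inv_cancel]
      rfl
    rw [h3, AddChar.map_zero_eq_one]
  have hconj : ∀ w w' : ↥P, IsConj (w : G) (w' : G) ↔ ∃ α ∈ A, α w = w' := by
    intro w w'
    constructor
    · intro hc
      obtain ⟨n, hn, h⟩ := hfus (w : G) w.2 (w' : G) w'.2 hc
      refine ⟨P.normalizerMonoidHom ⟨n, hn⟩, (hAmem _).mpr ⟨n, hn, rfl⟩, ?_⟩
      apply Subtype.ext
      rw [hval, h]
    · rintro ⟨α, hα, h⟩
      obtain ⟨n, hn, rfl⟩ := (hAmem α).mp hα
      rw [isConj_iff]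
      refine ⟨n, ?_⟩
      rw [← hval n hn w, h]
  have horth1 : ∀ w w' : ↥P, w ≠ 1 → w' ≠ 1 → (∃ α ∈ A, α w = w') →
      ∑ χ : IrrCharacter G, (if χ ∈ B then (χ : G → ℂ) (w : G) * conj ((χ : G → ℂ) (w' : G))
          else 0) = (q : ℂ) := by
    intro w w' hw hw' hex
    rw [horth (w : G) w.2 (w' : G) w'.2 (fun h => hw (Subtype.ext h))
      (fun h => hw' (Subtype.ext h)), if_pos ((hconj w w').mpr hex)]
  have horth0 : ∀ w w' : ↥P, w ≠ 1 → w' ≠ 1 → ¬ (∃ α ∈ A, α w = w') →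
      ∑ χ : IrrCharacter G, (if χ ∈ B then (χ : G → ℂ) (w : G) * conj ((χ : G → ℂ) (w' : G))
          else 0) = 0 := by
    intro w w' hw hw' hex
    rw [horth (w : G) w.2 (w' : G) w'.2 (fun h => hw (Subtype.ext h))
      (fun h => hw' (Subtype.ext h)), if_neg (fun h => hex ((hconj w w').mp h))]
  have nn : ∀ (χ : IrrCharacter G) (ψ : AddChar (Additive ↥P) ℂ), ∃ m : ℕ,
      (Nat.card ↥P : ℂ)⁻¹ * ∑ u : ↥P, ψ (Additive.ofMul u⁻¹) * (χ : G → ℂ) (u : G) = (m : ℂ) := by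
    intro χ ψ
    obtain ⟨n, ρ, hρ, hχe⟩ := χ.2
    obtain ⟨m, hm⟩ := fl_twist_mult_nat (ρ.comp P.subtype) ψ
    refine ⟨m, ?_⟩
    rw [← hm]
    congr 1
    refine Finset.sum_congr rfl fun u _ => ?_
    rw [← hχe]
    rfl
  have hx' : orderOf (⟨x, hxP⟩ : ↥P) = p := by
    rw [Subgroup.orderOf_mk]
    exact hx
  have main := @flA_plevel_abs ↥P (flCommGroup ↥P hcomm) _ (IrrCharacter G) _ hPcyc p _ q hq
    ⟨x, hxP⟩ hx' (fun χ => χ ∈ B) (fun χ u => (χ : G → ℂ) (u : G))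
    (Cfsg.Agent.Lib.helper81.trivChar G) (fun u => rfl)
    (fun χ => charDegree (χ : G → ℂ)) (fun χ => Cfsg.Agent.Lib.helper81.irr_one_eq_charDegree χ)
    nn A e hA F1 F2 horth1 horth0
  obtain ⟨ι, hι, r, Mx, k, c, z, h1, h2, h3, h4, h5, h6, h7, h8, h9, h10, h11, h12, h13⟩ := main
  exact ⟨ι, hι, r, Mx, k, c, z, h1, h2, h3, h4, h5, h6, h7, h8, h9, h10, h11, h12, h13⟩

end Cfsg.Agent.Lib.helper83
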