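import Mathlib
import Cfsg.Agent.Lib.helper20.D1EDefs
import Cfsg.Agent.Lib.helper83.FlPLevel

/-!
# SP-E piece R1 (Fourier inversion for rows) and the basic toolkit for the rows

`eZ p a = zeta p ^ a.val` is the standard additive character of `ZMod p`.
-/

set_option autoImplicit false
set_option linter.unusedVariables false
set_option linter.unusedSectionVars false
set_option linter.style.longLine false

open Cfsg Cfsg.Agent.Lib.helper84 Cfsg.Agent.Lib.helper20.D1E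
open scoped ComplexConjugate

namespace Cfsg.Agent.Lib.helper83.D1E

theorem zeta_prim (p : ℕ) [Fact p.Prime] : IsPrimitiveRoot (zeta p) p := by
  have hp : p.Prime := Fact.out
  exact Complex.isPrimitiveRoot_exp p hp.ne_zero

theorem zeta_pow_p (p : ℕ) [Fact p.Prime] : zeta p ^ p = 1 := (zeta_prim p).pow_eq_one

theorem zeta_ne_zero (p : ℕ) [Fact p.Prime] : zeta p ≠ 0 := by
  have hp : p.Prime := Fact.out
  exact (zeta_prim p).ne_zero hp.ne_zero

/-- The standard additive character of `ZMod p`. -/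
noncomputable def eZ (p : ℕ) (a : ZMod p) : ℂ := zeta p ^ a.val

theorem eZ_natCast (p : ℕ) [Fact p.Prime] (n : ℕ) : eZ p (n : ZMod p) = zeta p ^ n := by
  unfold eZ
  rw [ZMod.val_natCast]
  exact (pow_eq_pow_mod n (zeta_pow_p p)).symm

theorem eZ_zero (p : ℕ) [Fact p.Prime] : eZ p 0 = 1 := by
  unfold eZ
  rw [ZMod.val_zero, pow_zero]

theorem eZ_add (p : ℕ) [Fact p.Prime] (a b : ZMod p) : eZ p (a + b) = eZ p a * eZ p b := by
  unfold eZ
  rw [ZMod.val_add, ← pow_add]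
  exact (pow_eq_pow_mod _ (zeta_pow_p p)).symm

theorem eZ_mul (p : ℕ) [Fact p.Prime] (a b : ZMod p) : eZ p (a * b) = eZ p a ^ b.val := by
  unfold eZ
  rw [ZMod.val_mul, ← pow_mul]
  exact (pow_eq_pow_mod _ (zeta_pow_p p)).symm

theorem eZ_ne_zero (p : ℕ) [Fact p.Prime] (a : ZMod p) : eZ p a ≠ 0 :=
  pow_ne_zero _ (zeta_ne_zero p)

theorem eZ_neg (p : ℕ) [Fact p.Prime] (a : ZMod p) : eZ p (-a) = (eZ p a)⁻¹ := by
  have h : eZ p (-a) * eZ p a = 1 := by
    rw [← eZ_add, neg_add_cancel, eZ_zero]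
  exact eq_inv_of_mul_eq_one_left h

theorem eZ_pow_p (p : ℕ) [Fact p.Prime] (a : ZMod p) : eZ p a ^ p = 1 := by
  unfold eZ
  rw [← pow_mul, mul_comm, pow_mul, zeta_pow_p, one_pow]

theorem eZ_eq_one_iff (p : ℕ) [Fact p.Prime] (a : ZMod p) : eZ p a = 1 ↔ a = 0 := by
  unfold eZ
  rw [(zeta_prim p).pow_eq_one_iff_dvd]
  constructor
  · intro h
    have h2 : a.val = 0 := Nat.eq_zero_of_dvd_of_lt h (ZMod.val_lt a)
    exact (ZMod.val_eq_zero a).mp h2
  · intro h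
    rw [h, ZMod.val_zero]
    exact dvd_zero p

theorem eZ_conj (p : ℕ) [Fact p.Prime] (a : ZMod p) : conj (eZ p a) = (eZ p a)⁻¹ := by
  have hp : p.Prime := Fact.out
  have hn : ‖eZ p a‖ = 1 := Complex.norm_eq_one_of_pow_eq_one (eZ_pow_p p a) hp.ne_zero
  exact (Complex.inv_eq_conj hn).symm

/-- Sum of the standard character over the units. -/
theorem sum_units_eZ (p : ℕ) [Fact p.Prime] (a : ZMod p) :
    ∑ b : (ZMod p)ˣ, eZ p ((b : ZMod p) * a) = if a = 0 then (p : ℂ) - 1 else -1 := by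
  have h1 : ∀ b : (ZMod p)ˣ, eZ p ((b : ZMod p) * a) = eZ p a ^ (b : ZMod p).val := by
    intro b
    rw [mul_comm, eZ_mul]
  simp_rw [h1]
  rw [fl_sum_units_pow (eZ p a) (eZ_pow_p p a)]
  simp only [eZ_eq_one_iff]

theorem sum_units_eZ' (p : ℕ) [Fact p.Prime] (a : ZMod p) :
    ∑ b : (ZMod p)ˣ, eZ p (a * (b : ZMod p)) = if a = 0 then (p : ℂ) - 1 else -1 := by
  simp_rw [mul_comm a]
  exact sum_units_eZ p a

/-- The row in terms of `eZ`. -/
theorem rowC_eq (p : ℕ) [Fact p.Prime] {G : Type*} [Group G] (x : G) (f : G → ℂ)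
    (b : (ZMod p)ˣ) :
    rowC p x f b = (p : ℂ)⁻¹ * ∑ u : (ZMod p)ˣ,
      f (x ^ (u : ZMod p).val) * ((eZ p ((b : ZMod p) * (u : ZMod p)))⁻¹ - 1) := by
  unfold rowC eZ
  simp only [Units.val_mul]

theorem pow_unit_of_not_dvd (p : ℕ) [Fact p.Prime] {G : Type*} [Group G] (x : G)
    (hxp : x ^ p = 1) (u : ℕ) (hu : ¬ p ∣ u) :
    ∃ w : (ZMod p)ˣ, (w : ZMod p) = (u : ZMod p) ∧ x ^ (w : ZMod p).val = x ^ u := by
  have hne : (u : ZMod p) ≠ 0 := by
    rw [Ne, ZMod.natCast_eq_zero_iff]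
    exact hu
  refine ⟨Units.mk0 (u : ZMod p) hne, rfl, ?_⟩
  show x ^ ((u : ZMod p)).val = x ^ u
  rw [ZMod.val_natCast]
  exact (pow_eq_pow_mod u hxp).symm

/-- PIECE R1b. -/
theorem sum_zeta_pow (p : ℕ) [Fact p.Prime] (u : ℕ) (hu : ¬ p ∣ u) :
    ∑ b : (ZMod p)ˣ, zeta p ^ ((b : ZMod p).val * u) = -1 := by
  have hne : (u : ZMod p) ≠ 0 := by
    rw [Ne, ZMod.natCast_eq_zero_iff]
    exact hu
  have h1 : ∀ b : (ZMod p)ˣ, zeta p ^ ((b : ZMod p).val * u) = eZ p ((b : ZMod p) * (u : ZMod p)) := by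
    intro b
    rw [mul_comm ((b : ZMod p)) (u : ZMod p), eZ_mul, eZ_natCast, ← pow_mul, mul_comm]
  simp_rw [h1]
  rw [sum_units_eZ, if_neg hne]

/-- PIECE R1a : Fourier inversion. -/
theorem row_inversion {G : Type*} [Group G] (p : ℕ) [Fact p.Prime]
    (x : G) (hxp : x ^ p = 1) (f : G → ℂ) (u : ℕ) (hu : ¬ p ∣ u) :
    f (x ^ u) = ∑ b : (ZMod p)ˣ, rowC p x f b * zeta p ^ ((b : ZMod p).val * u) := by
  have hp : p.Prime := Fact.out
  have hpc : (p : ℂ) ≠ 0 := by exact_mod_cast hp.ne_zero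
  obtain ⟨w, hw, hxw⟩ := pow_unit_of_not_dvd p x hxp u hu
  have hne : (u : ZMod p) ≠ 0 := by
    rw [Ne, ZMod.natCast_eq_zero_iff]
    exact hu
  have h1 : ∀ b : (ZMod p)ˣ, zeta p ^ ((b : ZMod p).val * u) = eZ p ((b : ZMod p) * (u : ZMod p)) := by
    intro b
    rw [mul_comm ((b : ZMod p)) (u : ZMod p), eZ_mul, eZ_natCast, ← pow_mul, mul_comm]
  simp_rw [h1, rowC_eq]
  have h2 : ∀ b : (ZMod p)ˣ,
      ((p : ℂ)⁻¹ * ∑ v : (ZMod p)ˣ,
        f (x ^ (v : ZMod p).val) * ((eZ p ((b : ZMod p) * (v : ZMod p)))⁻¹ - 1)) *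
        eZ p ((b : ZMod p) * (u : ZMod p))
      = (p : ℂ)⁻¹ * ∑ v : (ZMod p)ˣ, f (x ^ (v : ZMod p).val) *
          (eZ p ((b : ZMod p) * ((u : ZMod p) - (v : ZMod p))) - eZ p ((b : ZMod p) * (u : ZMod p))) := by
    intro b
    rw [mul_assoc, Finset.sum_mul]
    congr 1
    refine Finset.sum_congr rfl fun v _ => ?_
    have h3 : (b : ZMod p) * ((u : ZMod p) - (v : ZMod p))
        = (b : ZMod p) * (u : ZMod p) + -((b : ZMod p) * (v : ZMod p)) := by ring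
    rw [h3, eZ_add, eZ_neg]
    ring
  simp_rw [h2]
  rw [← Finset.mul_sum, Finset.sum_comm]
  simp_rw [← Finset.mul_sum, Finset.sum_sub_distrib, sum_units_eZ, if_neg hne]
  rw [Finset.sum_eq_single w]
  · rw [if_pos (by rw [hw, sub_self]), hxw]
    field_simp
    ring
  · intro v _ hv
    rw [if_neg, sub_self, mul_zero]
    intro h
    apply hv
    apply Units.ext
    rw [hw]
    exact (sub_eq_zero.mp h).symm
  · intro h
    exact absurd (Finset.mem_univ w) h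

end Cfsg.Agent.Lib.helper83.D1E
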