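import Mathlib
import Cfsg.Agent.Lib.helper20.D1EDefs
import Cfsg.Agent.Lib.helper83.D1ER1
import Cfsg.Agent.Lib.helper81.CharOrtho

/-!
# SP-E piece R0 (rows of an irreducible character are integers; the degree congruence)
-/

set_option autoImplicit false
set_option linter.unusedVariables false
set_option linter.unusedSectionVars false
set_option linter.style.longLine false

open Cfsg Cfsg.Agent.Lib.helper84 Cfsg.Agent.Lib.helper20.D1E
open scoped ComplexConjugate

namespace Cfsg.Agent.Lib.helper83.D1E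

/-- The homomorphism `k ↦ x ^ k.val` from `ZMod p` when `x ^ p = 1`. -/
noncomputable def powHom (p : ℕ) [Fact p.Prime] {G : Type*} [Group G] (x : G) (hxp : x ^ p = 1) :
    Multiplicative (ZMod p) →* G where
  toFun k := x ^ (Multiplicative.toAdd k).val
  map_one' := by
    show x ^ (0 : ZMod p).val = 1
    rw [ZMod.val_zero, pow_zero]
  map_mul' a b := by
    show x ^ (Multiplicative.toAdd a + Multiplicative.toAdd b).val
      = x ^ (Multiplicative.toAdd a).val * x ^ (Multiplicative.toAdd b).val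
    rw [ZMod.val_add, ← pow_add]
    exact (pow_eq_pow_mod _ hxp).symm

/-- The character `k ↦ eZ (c k)` of `ZMod p`. -/
noncomputable def twistChar (p : ℕ) [Fact p.Prime] (c : ZMod p) :
    AddChar (Additive (Multiplicative (ZMod p))) ℂ where
  toFun a := eZ p (c * Multiplicative.toAdd (Additive.toMul a))
  map_zero_eq_one' := by
    show eZ p (c * 0) = 1
    rw [mul_zero, eZ_zero]
  map_add_eq_mul' a b := by
    show eZ p (c * (Multiplicative.toAdd (Additive.toMul a)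
      + Multiplicative.toAdd (Additive.toMul b))) = _
    rw [mul_add, eZ_add]

/-- Multiplicities of the linear characters of `⟨x⟩` in a character are natural numbers. -/
theorem mult_nat {G : Type*} [Group G] (p : ℕ) [Fact p.Prime] (x : G) (hxp : x ^ p = 1)
    (χ : G → ℂ) (hχ : IsCharacter G χ) (c : ZMod p) :
    ∃ m : ℕ, (p : ℂ)⁻¹ * ∑ k : ZMod p, (eZ p (c * k))⁻¹ * χ (x ^ k.val) = (m : ℂ) := by
  obtain ⟨n, ρ, hρ⟩ := hχ
  obtain ⟨m, hm⟩ := fl_twist_mult_nat
    (MonoidHom.comp ρ (powHom p x hxp) : Representation ℂ (Multiplicative (ZMod p)) (Fin n → ℂ))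
    (twistChar p c)
  refine ⟨m, ?_⟩
  rw [← hm]
  have hcard : Nat.card (Multiplicative (ZMod p)) = p := by
    rw [Nat.card_eq_fintype_card, Fintype.card_multiplicative, ZMod.card]
  rw [hcard]
  congr 1
  refine Fintype.sum_equiv Multiplicative.ofAdd _ _ fun k => ?_
  have h1 : (twistChar p c) (Additive.ofMul (Multiplicative.ofAdd k)⁻¹) = (eZ p (c * k))⁻¹ := by
    show eZ p (c * (-k)) = _
    rw [mul_neg, eZ_neg]
  have h2 : Representation.character (MonoidHom.comp ρ (powHom p x hxp) :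
      Representation ℂ (Multiplicative (ZMod p)) (Fin n → ℂ)) (Multiplicative.ofAdd k)
      = χ (x ^ k.val) := by
    rw [← hρ]
    rfl
  rw [h1, h2]

theorem sum_zmod_eq (p : ℕ) [Fact p.Prime] (g : ZMod p → ℂ) :
    ∑ k : ZMod p, g k = g 0 + ∑ u : (ZMod p)ˣ, g (u : ZMod p) := by
  classical
  rw [← Finset.add_sum_erase Finset.univ g (Finset.mem_univ 0)]
  congr 1
  symm
  refine Finset.sum_bij (fun u _ => (u : ZMod p)) ?_ ?_ ?_ ?_
  · intro u _
    rw [Finset.mem_erase]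
    exact ⟨u.ne_zero, Finset.mem_univ _⟩
  · intro a _ b _ h
    exact Units.ext h
  · intro k hk
    rw [Finset.mem_erase] at hk
    exact ⟨Units.mk0 k hk.1, Finset.mem_univ _, rfl⟩
  · intro u _
    rfl

/-- The row is a difference of two multiplicities. -/
theorem rowC_eq_mult {G : Type*} [Group G] (p : ℕ) [Fact p.Prime] (x : G)
    (f : G → ℂ) (b : (ZMod p)ˣ) :
    rowC p x f b = (p : ℂ)⁻¹ * ∑ k : ZMod p, (eZ p ((b : ZMod p) * k))⁻¹ * f (x ^ k.val)
      - (p : ℂ)⁻¹ * ∑ k : ZMod p, (eZ p ((0 : ZMod p) * k))⁻¹ * f (x ^ k.val) := by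
  rw [rowC_eq, ← mul_sub, ← Finset.sum_sub_distrib]
  congr 1
  rw [sum_zmod_eq]
  have h0 : (eZ p ((b : ZMod p) * 0))⁻¹ * f (x ^ (0 : ZMod p).val)
      - (eZ p ((0 : ZMod p) * 0))⁻¹ * f (x ^ (0 : ZMod p).val) = 0 := by
    rw [mul_zero, mul_zero, sub_self]
  rw [h0, zero_add]
  refine Finset.sum_congr rfl fun u _ => ?_
  rw [zero_mul, eZ_zero]
  ring

/-- PIECE R0a : the rows of an irreducible character are integers. -/
theorem rowC_eq_rowZ {G : Type*} [Group G] [Fintype G] (p : ℕ) [Fact p.Prime]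
    (x : G) (hxp : x ^ p = 1) (χ : IrrCharacter G) (b : (ZMod p)ˣ) :
    rowC p x (χ : G → ℂ) b = (rowZ p x (χ : G → ℂ) b : ℂ) := by
  have hχ : IsCharacter G (χ : G → ℂ) := by
    obtain ⟨n, ρ, _, hρ⟩ := χ.2
    exact ⟨n, ρ, hρ⟩
  obtain ⟨m1, hm1⟩ := mult_nat p x hxp (χ : G → ℂ) hχ (b : ZMod p)
  obtain ⟨m0, hm0⟩ := mult_nat p x hxp (χ : G → ℂ) hχ 0
  have h1 : rowC p x (χ : G → ℂ) b = (((m1 : ℤ) - (m0 : ℤ) : ℤ) : ℂ) := by
    rw [rowC_eq_mult, hm1, hm0]
    push_cast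
    ring
  unfold rowZ
  rw [h1, Complex.intCast_re, Int.floor_intCast]

/-- PIECE R0b : the degree is congruent to the row sum modulo `p`. -/
theorem degree_modEq {G : Type*} [Group G] [Fintype G] (p : ℕ) [Fact p.Prime]
    (x : G) (hxp : x ^ p = 1) (χ : IrrCharacter G) :
    (charDegree (χ : G → ℂ) : ℤ) ≡ ∑ b : (ZMod p)ˣ, rowZ p x (χ : G → ℂ) b [ZMOD p] := by
  have hp : p.Prime := Fact.out
  have hpc : (p : ℂ) ≠ 0 := by exact_mod_cast hp.ne_zero
  have hχ : IsCharacter G (χ : G → ℂ) := by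
    obtain ⟨n, ρ, _, hρ⟩ := χ.2
    exact ⟨n, ρ, hρ⟩
  have hm := fun c : ZMod p => mult_nat p x hxp (χ : G → ℂ) hχ c
  choose m hm using hm
  -- the rows
  have hrow : ∀ b : (ZMod p)ˣ, rowZ p x (χ : G → ℂ) b = (m (b : ZMod p) : ℤ) - (m 0 : ℤ) := by
    intro b
    have h1 : rowC p x (χ : G → ℂ) b = (((m (b : ZMod p) : ℤ) - (m 0 : ℤ) : ℤ) : ℂ) := by
      rw [rowC_eq_mult, hm, hm]
      push_cast
      ring
    unfold rowZ
    rw [h1, Complex.intCast_re, Int.floor_intCast]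
  -- the sum of all multiplicities is the degree
  have hsum : ∑ c : ZMod p, (m c : ℂ) = (χ : G → ℂ) 1 := by
    simp_rw [← hm]
    rw [← Finset.mul_sum, Finset.sum_comm]
    simp_rw [← Finset.sum_mul]
    have h2 : ∀ k : ZMod p, ∑ c : ZMod p, (eZ p (c * k))⁻¹ = if k = 0 then (p : ℂ) else 0 := by
      intro k
      rw [sum_zmod_eq, zero_mul, eZ_zero, inv_one]
      have h3 : ∀ u : (ZMod p)ˣ, (eZ p ((u : ZMod p) * k))⁻¹ = eZ p ((u : ZMod p) * (-k)) := by
        intro u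
        rw [mul_neg, eZ_neg]
      simp_rw [h3]
      rw [sum_units_eZ]
      by_cases hk : k = 0
      · rw [if_pos (neg_eq_zero.mpr hk), if_pos hk]
        ring
      · rw [if_neg (fun h => hk (neg_eq_zero.mp h)), if_neg hk]
        ring
    simp_rw [h2]
    rw [Finset.sum_eq_single 0]
    · rw [if_pos rfl, ZMod.val_zero, pow_zero]
      field_simp
    · intro k _ hk
      rw [if_neg hk, zero_mul]
    · intro h
      exact absurd (Finset.mem_univ _) h
  have hdeg : (χ : G → ℂ) 1 = (charDegree (χ : G → ℂ) : ℂ) :=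
    Cfsg.Agent.Lib.helper81.irr_one_eq_charDegree χ
  have hsumZ : (charDegree (χ : G → ℂ) : ℤ) = (m 0 : ℤ) + ∑ b : (ZMod p)ˣ, (m (b : ZMod p) : ℤ) := by
    have h4 : ((charDegree (χ : G → ℂ) : ℤ) : ℂ)
        = (((m 0 : ℤ) + ∑ b : (ZMod p)ˣ, (m (b : ZMod p) : ℤ) : ℤ) : ℂ) := by
      push_cast
      rw [← hdeg, ← hsum, sum_zmod_eq]
    exact_mod_cast h4
  rw [Int.modEq_iff_dvd]
  refine ⟨-(m 0 : ℤ), ?_⟩
  simp_rw [hrow]
  rw [hsumZ, Finset.sum_sub_distrib, Finset.sum_const, Finset.card_univ, ZMod.card_units,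
    nsmul_eq_mul, Nat.cast_sub hp.one_lt.le, Nat.cast_one]
  ring

end Cfsg.Agent.Lib.helper83.D1E
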