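import Mathlib
import Cfsg.Agent.Lib.helper20.D1EDefs
import Cfsg.Agent.Lib.helper83.D1ER1
import Cfsg.Agent.Lib.helper79.GaloisChar

/-!
# SP-E piece GAL (Galois action on the rows)
-/

set_option autoImplicit false
set_option linter.unusedVariables false
set_option linter.unusedSectionVars false
set_option linter.style.longLine false

open Cfsg Cfsg.Agent.Lib.helper84 Cfsg.Agent.Lib.helper20.D1E
open scoped ComplexConjugate

namespace Cfsg.Agent.Lib.helper83.D1E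

theorem unit_val_not_dvd (p : ℕ) [Fact p.Prime] (u : (ZMod p)ˣ) : ¬ p ∣ (u : ZMod p).val := by
  intro h
  have h2 : (u : ZMod p).val = 0 := Nat.eq_zero_of_dvd_of_lt h (ZMod.val_lt _)
  exact u.ne_zero ((ZMod.val_eq_zero _).mp h2)

/-- Fourier inversion at a unit, in terms of `eZ`. -/
theorem row_inversion_unit {G : Type*} [Group G] (p : ℕ) [Fact p.Prime]
    (x : G) (hxp : x ^ p = 1) (f : G → ℂ) (u : (ZMod p)ˣ) :
    f (x ^ (u : ZMod p).val)
      = ∑ b : (ZMod p)ˣ, rowC p x f b * eZ p ((b : ZMod p) * (u : ZMod p)) := by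
  rw [row_inversion p x hxp f _ (unit_val_not_dvd p u)]
  refine Finset.sum_congr rfl fun b _ => ?_
  rw [eZ_mul]
  unfold eZ
  rw [pow_mul]

/-- PIECE GAL1 : rows of a Galois conjugate. -/
theorem galois_row {G : Type*} [Group G] [Fintype G] (p : ℕ) [Fact p.Prime]
    (x : G) (hxp : x ^ p = 1) (τ : ℂ ≃+* ℂ) (c : (ZMod p)ˣ)
    (hτ : τ (zeta p) = zeta p ^ ((c : ZMod p).val)) (χ ψ : G → ℂ)
    (hψ : ψ = fun g => τ (χ g))
    (hint : ∀ b : (ZMod p)ˣ, rowC p x χ b = (rowZ p x χ b : ℂ))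
    (b : (ZMod p)ˣ) :
    rowC p x ψ (b * c) = rowC p x χ b := by
  have hτe : ∀ a : ZMod p, τ (eZ p a) = eZ p ((c : ZMod p) * a) := by
    intro a
    rw [eZ_mul]
    unfold eZ
    rw [map_pow, hτ]
  have hval : ∀ u : (ZMod p)ˣ,
      ψ (x ^ (u : ZMod p).val) = χ (x ^ ((c * u : (ZMod p)ˣ) : ZMod p).val) := by
    intro u
    rw [hψ]
    show τ (χ (x ^ (u : ZMod p).val)) = _
    rw [row_inversion_unit p x hxp χ u, row_inversion_unit p x hxp χ (c * u), map_sum]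
    refine Finset.sum_congr rfl fun b' _ => ?_
    rw [map_mul, hint, map_intCast, hτe, Units.val_mul]
    congr 2
    ring
  rw [rowC_eq, rowC_eq]
  congr 1
  rw [← Fintype.sum_equiv (Equiv.mulLeft c)
    (fun u => χ (x ^ ((c * u : (ZMod p)ˣ) : ZMod p).val) *
      ((eZ p ((b : ZMod p) * ((c * u : (ZMod p)ˣ) : ZMod p)))⁻¹ - 1))
    (fun u => χ (x ^ (u : ZMod p).val) * ((eZ p ((b : ZMod p) * (u : ZMod p)))⁻¹ - 1))
    (fun u => rfl)]
  refine Finset.sum_congr rfl fun u _ => ?_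
  rw [hval]
  simp only [Units.val_mul, mul_assoc]

/-- PIECE GAL2. -/
theorem exists_galois (p : ℕ) [Fact p.Prime] (c : (ZMod p)ˣ) :
    ∃ τ : ℂ ≃+* ℂ, τ (zeta p) = zeta p ^ ((c : ZMod p).val) := by
  have hp : p.Prime := Fact.out
  have hm : ((c : ZMod p).val).Coprime p :=
    ((Nat.Prime.coprime_iff_not_dvd hp).mpr (unit_val_not_dvd p c)).symm
  obtain ⟨τ, hτ⟩ := Cfsg.Agent.Lib.helper79.exists_ringEquiv_complex_pow p hp.pos _ hm
  exact ⟨τ, hτ (zeta p) (zeta_pow_p p)⟩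

/-- PIECE GAL3. -/
theorem exists_unit_of_aut (p : ℕ) [Fact p.Prime] (τ : ℂ ≃+* ℂ) :
    ∃ c : (ZMod p)ˣ, τ (zeta p) = zeta p ^ ((c : ZMod p).val) := by
  have hp : p.Prime := Fact.out
  obtain ⟨m, hm, hτ⟩ := Cfsg.Agent.Lib.helper79.exists_pow_of_ringHom_rootsOfUnity
    (τ : ℂ →+* ℂ) p hp.pos
  have hne : (m : ZMod p) ≠ 0 := by
    rw [Ne, ZMod.natCast_eq_zero_iff]
    exact (Nat.Prime.coprime_iff_not_dvd hp).mp hm.symm
  refine ⟨Units.mk0 (m : ZMod p) hne, ?_⟩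
  have h1 : τ (zeta p) = zeta p ^ m := hτ (zeta p) (zeta_pow_p p)
  rw [h1]
  show zeta p ^ m = zeta p ^ ((m : ZMod p)).val
  rw [ZMod.val_natCast]
  exact pow_eq_pow_mod m (zeta_pow_p p)

end Cfsg.Agent.Lib.helper83.D1E
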