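import Mathlib
import Cfsg.Agent.Lib.helper20.D1EDefs
import Cfsg.Agent.Lib.helper83.D1ER1

/-!
# SP-E pieces R2, R3 (rows: invariance under the normalizer, Gram matrix, regular columns)
-/

set_option autoImplicit false
set_option linter.unusedVariables false
set_option linter.unusedSectionVars false
set_option linter.style.longLine false

open Cfsg Cfsg.Agent.Lib.helper84 Cfsg.Agent.Lib.helper20.D1E
open scoped ComplexConjugate

namespace Cfsg.Agent.Lib.helper83.D1E

/-- PIECE R2 : rows are invariant under the normalizer. -/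
theorem row_conj_invariant {G : Type*} [Group G] (p : ℕ) [Fact p.Prime]
    (x : G) (hxp : x ^ p = 1) (f : G → ℂ) (hf : IsClassFunction G f)
    (r : (ZMod p)ˣ) (n : G) (hn : n * x * n⁻¹ = x ^ ((r : ZMod p).val)) (b : (ZMod p)ˣ) :
    rowC p x f (b * r) = rowC p x f b := by
  rw [rowC_eq, rowC_eq]
  congr 1
  rw [← Fintype.sum_equiv (Equiv.mulLeft r)
    (fun u => f (x ^ ((r * u : (ZMod p)ˣ) : ZMod p).val) *
      ((eZ p ((b : ZMod p) * ((r * u : (ZMod p)ˣ) : ZMod p)))⁻¹ - 1))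
    (fun u => f (x ^ (u : ZMod p).val) * ((eZ p ((b : ZMod p) * (u : ZMod p)))⁻¹ - 1))
    (fun u => rfl)]
  refine Finset.sum_congr rfl fun u _ => ?_
  have h1 : x ^ ((r * u : (ZMod p)ˣ) : ZMod p).val = n * x ^ (u : ZMod p).val * n⁻¹ := by
    rw [Units.val_mul, ZMod.val_mul, ← pow_eq_pow_mod _ hxp, pow_mul, ← hn, conj_pow]
  rw [h1, hf]
  simp only [Units.val_mul, mul_assoc]

/-- PIECE R3b. -/
theorem row_regular {G : Type*} [Group G] (p : ℕ) [Fact p.Prime] {I : Type*} [Fintype I]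
    (x : G) (F : I → G → ℂ) (g : G)
    (horth : ∀ u : (ZMod p)ˣ, ∑ i : I, F i (x ^ (u : ZMod p).val) *
        (starRingEnd ℂ) (F i g) = 0)
    (b : (ZMod p)ˣ) :
    ∑ i : I, rowC p x (F i) b * (starRingEnd ℂ) (F i g) = 0 := by
  simp_rw [rowC_eq]
  have h1 : ∀ i : I, ((p : ℂ)⁻¹ * ∑ u : (ZMod p)ˣ,
        F i (x ^ (u : ZMod p).val) * ((eZ p ((b : ZMod p) * (u : ZMod p)))⁻¹ - 1)) * conj (F i g)
      = (p : ℂ)⁻¹ * ∑ u : (ZMod p)ˣ, ((eZ p ((b : ZMod p) * (u : ZMod p)))⁻¹ - 1) *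
          (F i (x ^ (u : ZMod p).val) * conj (F i g)) := by
    intro i
    rw [mul_assoc, Finset.sum_mul]
    congr 1
    refine Finset.sum_congr rfl fun u _ => ?_
    ring
  simp_rw [h1]
  rw [← Finset.mul_sum, Finset.sum_comm]
  simp_rw [← Finset.mul_sum, horth, mul_zero]
  simp

theorem row_gram_inner (p : ℕ) [Fact p.Prime] (c d : ZMod p) (hc : c ≠ 0) (hd : d ≠ 0) :
    ∑ v : (ZMod p)ˣ, ((eZ p (c * (v : ZMod p)))⁻¹ - 1) * (eZ p (d * (v : ZMod p)) - 1)
      = (p : ℂ) * (1 + if d = c then 1 else 0) := by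
  have hp : p.Prime := Fact.out
  have h1 : ∀ v : (ZMod p)ˣ,
      ((eZ p (c * (v : ZMod p)))⁻¹ - 1) * (eZ p (d * (v : ZMod p)) - 1)
      = eZ p ((d - c) * (v : ZMod p)) - eZ p ((-c) * (v : ZMod p)) - eZ p (d * (v : ZMod p)) + 1 := by
    intro v
    have h2 : (d - c) * (v : ZMod p) = -(c * (v : ZMod p)) + d * (v : ZMod p) := by ring
    have h3 : (-c) * (v : ZMod p) = -(c * (v : ZMod p)) := by ring
    rw [h2, h3, eZ_add, eZ_neg]
    ring
  simp_rw [h1]
  rw [Finset.sum_add_distrib, Finset.sum_sub_distrib, Finset.sum_sub_distrib,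
    sum_units_eZ', sum_units_eZ', sum_units_eZ', if_neg (neg_ne_zero.mpr hc), if_neg hd]
  have hcard : ∑ v : (ZMod p)ˣ, (1 : ℂ) = (p : ℂ) - 1 := by
    rw [Finset.sum_const, Finset.card_univ, ZMod.card_units, nsmul_eq_mul, mul_one,
      Nat.cast_sub hp.one_lt.le, Nat.cast_one]
  rw [hcard]
  by_cases hdc : d = c
  · rw [if_pos (sub_eq_zero.mpr hdc), if_pos hdc]
    ring
  · rw [if_neg (fun h => hdc (sub_eq_zero.mp h)), if_neg hdc]
    ring

/-- PIECE R3a : the Gram matrix of the rows. -/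
theorem row_gram {G : Type*} [Group G] (p : ℕ) [Fact p.Prime] {I : Type*} [Fintype I]
    (x : G) (hxp : x ^ p = 1) (F : I → G → ℂ) (H : Subgroup (ZMod p)ˣ)
    (horth : ∀ u v : (ZMod p)ˣ,
      (u * v⁻¹ ∈ H → ∑ i : I, F i (x ^ (u : ZMod p).val) *
        (starRingEnd ℂ) (F i (x ^ (v : ZMod p).val)) = (p : ℂ)) ∧
      (u * v⁻¹ ∉ H → ∑ i : I, F i (x ^ (u : ZMod p).val) *
        (starRingEnd ℂ) (F i (x ^ (v : ZMod p).val)) = 0))
    (b b' : (ZMod p)ˣ) :
    (b⁻¹ * b' ∈ H → ∑ i : I, rowC p x (F i) b * (starRingEnd ℂ) (rowC p x (F i) b')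
        = (Nat.card H : ℂ) + 1) ∧
    (b⁻¹ * b' ∉ H → ∑ i : I, rowC p x (F i) b * (starRingEnd ℂ) (rowC p x (F i) b')
        = (Nat.card H : ℂ)) := by
  classical
  have hp : p.Prime := Fact.out
  have hpc : (p : ℂ) ≠ 0 := by exact_mod_cast hp.ne_zero
  have key : ∑ i : I, rowC p x (F i) b * conj (rowC p x (F i) b')
      = (Nat.card H : ℂ) + if b⁻¹ * b' ∈ H then 1 else 0 := by
    have hG : ∀ u v : (ZMod p)ˣ,
        ∑ i : I, F i (x ^ (u : ZMod p).val) * conj (F i (x ^ (v : ZMod p).val))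
        = if u * v⁻¹ ∈ H then (p : ℂ) else 0 := by
      intro u v
      split_ifs with h
      · exact (horth u v).1 h
      · exact (horth u v).2 h
    have hconj : ∀ i, conj (rowC p x (F i) b') = (p : ℂ)⁻¹ * ∑ v : (ZMod p)ˣ,
        conj (F i (x ^ (v : ZMod p).val)) * (eZ p ((b' : ZMod p) * (v : ZMod p)) - 1) := by
      intro i
      rw [rowC_eq, map_mul, map_inv₀, Complex.conj_natCast, map_sum]
      congr 1
      refine Finset.sum_congr rfl fun v _ => ?_
      rw [map_mul, map_sub, map_inv₀, eZ_conj, inv_inv, map_one]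
    have step1 : ∑ i : I, rowC p x (F i) b * conj (rowC p x (F i) b')
        = (p : ℂ)⁻¹ * (p : ℂ)⁻¹ * ∑ u : (ZMod p)ˣ, ∑ v : (ZMod p)ˣ,
            (((eZ p ((b : ZMod p) * (u : ZMod p)))⁻¹ - 1) *
              (eZ p ((b' : ZMod p) * (v : ZMod p)) - 1)) *
            (if u * v⁻¹ ∈ H then (p : ℂ) else 0) := by
      simp_rw [hconj, rowC_eq, ← hG]
      have h1 : ∀ i : I,
          ((p : ℂ)⁻¹ * ∑ u : (ZMod p)ˣ, F i (x ^ (u : ZMod p).val) *
              ((eZ p ((b : ZMod p) * (u : ZMod p)))⁻¹ - 1)) *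
            ((p : ℂ)⁻¹ * ∑ v : (ZMod p)ˣ, conj (F i (x ^ (v : ZMod p).val)) *
              (eZ p ((b' : ZMod p) * (v : ZMod p)) - 1))
          = (p : ℂ)⁻¹ * (p : ℂ)⁻¹ * ∑ u : (ZMod p)ˣ, ∑ v : (ZMod p)ˣ,
              (((eZ p ((b : ZMod p) * (u : ZMod p)))⁻¹ - 1) *
                (eZ p ((b' : ZMod p) * (v : ZMod p)) - 1)) *
              (F i (x ^ (u : ZMod p).val) * conj (F i (x ^ (v : ZMod p).val))) := by
        intro i
        rw [mul_mul_mul_comm, Finset.sum_mul_sum]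
        congr 1
        refine Finset.sum_congr rfl fun u _ => Finset.sum_congr rfl fun v _ => ?_
        ring
      simp_rw [h1]
      rw [← Finset.mul_sum, Finset.sum_comm]
      congr 1
      refine Finset.sum_congr rfl fun u _ => ?_
      rw [Finset.sum_comm]
      refine Finset.sum_congr rfl fun v _ => ?_
      rw [Finset.mul_sum]
    have step2 : ∑ u : (ZMod p)ˣ, ∑ v : (ZMod p)ˣ,
            (((eZ p ((b : ZMod p) * (u : ZMod p)))⁻¹ - 1) *
              (eZ p ((b' : ZMod p) * (v : ZMod p)) - 1)) *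
            (if u * v⁻¹ ∈ H then (p : ℂ) else 0)
        = ∑ h : (ZMod p)ˣ, (if h ∈ H then (p : ℂ) else 0) *
            ((p : ℂ) * (1 + if (b' : ZMod p) = (b : ZMod p) * (h : ZMod p) then 1 else 0)) := by
      rw [Finset.sum_comm]
      have h2 : ∀ v : (ZMod p)ˣ, ∑ u : (ZMod p)ˣ,
            (((eZ p ((b : ZMod p) * (u : ZMod p)))⁻¹ - 1) *
              (eZ p ((b' : ZMod p) * (v : ZMod p)) - 1)) *
            (if u * v⁻¹ ∈ H then (p : ℂ) else 0)
          = ∑ h : (ZMod p)ˣ, (((eZ p ((b : ZMod p) * (h : ZMod p) * (v : ZMod p)))⁻¹ - 1) *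
              (eZ p ((b' : ZMod p) * (v : ZMod p)) - 1)) *
            (if h ∈ H then (p : ℂ) else 0) := by
        intro v
        refine (Fintype.sum_equiv (Equiv.mulRight v) _ _ fun h => ?_).symm
        show _ = (((eZ p ((b : ZMod p) * ((h * v : (ZMod p)ˣ) : ZMod p)))⁻¹ - 1) *
              (eZ p ((b' : ZMod p) * (v : ZMod p)) - 1)) *
            (if h * v * v⁻¹ ∈ H then (p : ℂ) else 0)
        rw [mul_inv_cancel_right, Units.val_mul, ← mul_assoc (b : ZMod p)]
      simp_rw [h2]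
      rw [Finset.sum_comm]
      refine Finset.sum_congr rfl fun h _ => ?_
      rw [← Finset.sum_mul, mul_comm]
      congr 1
      have h3 := row_gram_inner p ((b : ZMod p) * (h : ZMod p)) (b' : ZMod p)
        (mul_ne_zero b.ne_zero h.ne_zero) b'.ne_zero
      exact h3
    have step3 : ∑ h : (ZMod p)ˣ, (if h ∈ H then (p : ℂ) else 0) *
            ((p : ℂ) * (1 + if (b' : ZMod p) = (b : ZMod p) * (h : ZMod p) then 1 else 0))
        = (p : ℂ) * (p : ℂ) * ((Nat.card H : ℂ) + if b⁻¹ * b' ∈ H then 1 else 0) := by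
      have h4 : ∀ h : (ZMod p)ˣ, (if h ∈ H then (p : ℂ) else 0) *
            ((p : ℂ) * (1 + if (b' : ZMod p) = (b : ZMod p) * (h : ZMod p) then 1 else 0))
          = (p : ℂ) * (p : ℂ) * ((if h ∈ H then (1 : ℂ) else 0) +
              (if h ∈ H then (if (b' : ZMod p) = (b : ZMod p) * (h : ZMod p) then (1 : ℂ) else 0)
                else 0)) := by
        intro h
        split_ifs <;> ring
      simp_rw [h4]
      rw [← Finset.mul_sum, Finset.sum_add_distrib]
      congr 2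
      · rw [Finset.sum_boole]
        congr 1
        exact (Nat.subtype_card _ (fun h => by simp)).symm
      · rw [Finset.sum_eq_single (b⁻¹ * b')]
        · have h5 : (b' : ZMod p) = (b : ZMod p) * ((b⁻¹ * b' : (ZMod p)ˣ) : ZMod p) := by
            rw [← Units.val_mul, mul_inv_cancel_left]
          rw [if_pos h5]
        · intro h _ hne
          have h6 : ¬ ((b' : ZMod p) = (b : ZMod p) * (h : ZMod p)) := by
            intro h7
            apply hne
            have h8 : b' = b * h := Units.ext (by rw [Units.val_mul]; exact h7)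
            rw [h8, inv_mul_cancel_left]
          rw [if_neg h6]
          simp
        · intro h
          exact absurd (Finset.mem_univ _) h
    rw [step1, step2, step3]
    field_simp
  constructor
  · intro h
    rw [key, if_pos h]
  · intro h
    rw [key, if_neg h, add_zero]

end Cfsg.Agent.Lib.helper83.D1E
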