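import Mathlib

/-!
# S5239 split (architect helper79): racer copies of the small leaves ZC, NA, EXPO
Statements verbatim from tools/S5239_Skel.lean.txt, under prefixed names.
-/

set_option autoImplicit false

namespace Cfsg.Agent.Lib.helper79.P3

/-- NA (racer copy). `G` is not abelian. -/
theorem h83_p3_nonab {G : Type*} [Group G] [Finite G] (n : ℕ) (hn : 3 ≤ n) (hG : Nat.card G = 3 ^ n) (x : G)
    (hC : Nat.card (Subgroup.centralizer ({x} : Set G)) = 3 ^ 2) : ∃ a b : G, a * b ≠ b * a := by
  by_contra hcon
  push_neg at hcon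
  have htop : Subgroup.centralizer ({x} : Set G) = ⊤ := by
    rw [eq_top_iff]
    intro g _
    rw [Subgroup.mem_centralizer_iff]
    intro y hy
    rw [Set.mem_singleton_iff.mp hy]
    exact hcon x g
  rw [htop, Subgroup.card_top, hG] at hC
  have hn2 : n = 2 := Nat.pow_right_injective (le_refl 3 |>.trans' (by norm_num)) hC
  omega

/-- ZC (racer copy). The centre has order 3. -/
theorem h83_p3_center_card {G : Type*} [Group G] [Finite G] (n : ℕ) (hn : 3 ≤ n) (hG : Nat.card G = 3 ^ n) (x : G)
    (hC : Nat.card (Subgroup.centralizer ({x} : Set G)) = 3 ^ 2) : Nat.card (Subgroup.center G) = 3 := by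
  haveI : Fact (Nat.Prime 3) := ⟨by norm_num⟩
  obtain ⟨k, hk0, hk⟩ := IsPGroup.card_center_eq_prime_pow (p := 3) hG (by omega)
  have hle : Subgroup.center G ≤ Subgroup.centralizer ({x} : Set G) :=
    Subgroup.center_le_centralizer _
  have hdvd : Nat.card (Subgroup.center G) ∣ Nat.card (Subgroup.centralizer ({x} : Set G)) :=
    Subgroup.card_dvd_of_le hle
  rw [hk, hC] at hdvd
  have hk2 : k ≤ 2 := (Nat.pow_dvd_pow_iff_le_right (by norm_num)).mp hdvd
  have hk' : k ≠ 2 := by
    intro h2
    subst h2
    have heq : Subgroup.center G = Subgroup.centralizer ({x} : Set G) :=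
      Subgroup.eq_of_le_of_card_ge hle (by rw [hk, hC])
    have hx : x ∈ Subgroup.center G := by
      rw [heq]
      exact Subgroup.mem_centralizer_iff.mpr (fun y hy => by rw [Set.mem_singleton_iff.mp hy])
    have htop : Subgroup.centralizer ({x} : Set G) = ⊤ := by
      rw [eq_top_iff]
      intro g _
      rw [Subgroup.mem_centralizer_iff]
      intro y hy
      rw [Set.mem_singleton_iff.mp hy]
      exact (Subgroup.mem_center_iff.mp hx g).symm
    rw [htop, Subgroup.card_top, hG] at hC
    have hn2 : n = 2 := Nat.pow_right_injective (le_refl 3 |>.trans' (by norm_num)) hC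
    omega
  have hk1 : k = 1 := by omega
  rw [hk, hk1]
  norm_num

/-- EXPO (racer copy). -/
theorem h83_p3_exponent {G : Type*} [Group G] [Finite G] (hG : Nat.card G = 27) (hexp : ∀ g : G, g ^ 3 = 1) :
    Monoid.exponent G = 3 := by
  have hd : Monoid.exponent G ∣ 3 := Monoid.exponent_dvd_of_forall_pow_eq_one hexp
  rcases (Nat.dvd_prime (by norm_num : Nat.Prime 3)).mp hd with h1 | h3
  · exfalso
    haveI : Subsingleton G := ⟨fun a b => by
      have ha := Monoid.pow_exponent_eq_one a
      have hb := Monoid.pow_exponent_eq_one b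
      rw [h1, pow_one] at ha hb
      rw [ha, hb]⟩
    have hle : Nat.card G ≤ 1 := Finite.card_le_one_iff_subsingleton.mpr inferInstance
    omega
  · exact h3

end Cfsg.Agent.Lib.helper79.P3
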