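import Mathlib
import Cfsg.Prelude.Def_Characters
import Cfsg.Prelude.Def_Blocks
import Cfsg.Agent.S0948
import Cfsg.Agent.S4479
import Cfsg.Agent.S4480
import Cfsg.Agent.Lib.helper76.KazCore
import Cfsg.Agent.Lib.helper81.CharOrtho

/-!
S4501 piece SET (`k4_setup`), insurance copy by helper83: the principal 2-block `{1, ζ₂, ζ₃, ζ₄}`
(landed S0948) and Brauer's order formulas (landed S4479, S4480), in `ℕ`.
-/

set_option autoImplicit false
set_option linter.unusedVariables false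
set_option linter.unusedSectionVars false
set_option maxHeartbeats 800000

namespace Cfsg.Agent.Lib.helper83.BW

open Cfsg

universe u

variable {G : Type u} [Group G] [Finite G]

/-- A Klein four Sylow subgroup contains an involution. -/
theorem k4_exists_inv_h83 (P : Sylow 2 G) (hP : IsKleinFour (P : Subgroup G)) :
    ∃ J : G, J ∈ (P : Subgroup G) ∧ orderOf J = 2 := by
  have hcard : Nat.card (P : Subgroup G) = 4 := hP.card_four
  have hnt : Nontrivial (P : Subgroup G) := by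
    apply (Finite.one_lt_card_iff_nontrivial).mp
    rw [hcard]; norm_num
  obtain ⟨j, hj⟩ := exists_ne (1 : (P : Subgroup G))
  refine ⟨j.1, j.2, ?_⟩
  have h2 : j * j = 1 := IsKleinFour.mul_self j
  have h3 : orderOf j = 2 := by
    apply orderOf_eq_prime
    · rw [pow_two]; exact h2
    · exact hj
  exact (Subgroup.orderOf_coe j).trans h3

/-- A Klein four Sylow subgroup lies in its centralizer. -/
theorem k4_le_centralizer_h83 (P : Sylow 2 G) (hP : IsKleinFour (P : Subgroup G)) :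
    (P : Subgroup G) ≤ Subgroup.centralizer ((P : Subgroup G) : Set G) := by
  intro x hx
  rw [Subgroup.mem_centralizer_iff]
  intro y hy
  have hc : IsMulCommutative (P : Subgroup G) := IsKleinFour.isMulCommutative
  have h := hc.is_comm.comm (⟨y, hy⟩ : (P : Subgroup G)) ⟨x, hx⟩
  exact congrArg Subtype.val h

/-- SET : the principal 2-block `{1, ζ₂, ζ₃, ζ₄}` (landed S0948) and Brauer's order formulas
(landed S4479, S4480), in `ℕ`; `cJ = |C(J)|`, `cP = |C(P)|`. -/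
theorem k4_setup [IsSimpleGroup G] (hna : ∃ x y : G, x * y ≠ y * x) (g₀ : ℕ) (hodd : Odd g₀)
    (hG : Nat.card G = 4 * g₀) (P : Sylow 2 G) (hP : IsKleinFour (P : Subgroup G))
    (hone : ∀ s t : G, orderOf s = 2 → orderOf t = 2 → IsConj s t) :
    ∃ (ζ₂ ζ₃ ζ₄ : IrrCharacter G) (cJ cP : ℕ),
      (ζ₂ : G → ℂ) ≠ (fun _ => 1) ∧ (ζ₃ : G → ℂ) ≠ (fun _ => 1) ∧
      (ζ₄ : G → ℂ) ≠ (fun _ => 1) ∧ cJ ∣ 4 * g₀ ∧ 4 ∣ cP ∧
      ((charDegree (ζ₂ : G → ℂ) % 4 = 1 ∧ charDegree (ζ₃ : G → ℂ) % 4 = 1 ∧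
          charDegree (ζ₄ : G → ℂ) % 4 = 3 ∧
          charDegree (ζ₄ : G → ℂ) = 1 + charDegree (ζ₂ : G → ℂ) + charDegree (ζ₃ : G → ℂ) ∧
          ∃ m : ℕ, 4 * cJ = m * cP * (charDegree (ζ₄ : G → ℂ) + 1) ∧
            8 * (4 * g₀) = m ^ 3 * cP *
              (charDegree (ζ₄ : G → ℂ) ^ 3 - charDegree (ζ₄ : G → ℂ))) ∨
        (charDegree (ζ₂ : G → ℂ) % 4 = 1 ∧ charDegree (ζ₃ : G → ℂ) % 4 = 3 ∧
          charDegree (ζ₄ : G → ℂ) % 4 = 3 ∧
          1 + charDegree (ζ₂ : G → ℂ) = charDegree (ζ₃ : G → ℂ) + charDegree (ζ₄ : G → ℂ) ∧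
          (4 * g₀) * ((charDegree (ζ₂ : G → ℂ) + 1) * (charDegree (ζ₃ : G → ℂ) - 1) *
              (charDegree (ζ₄ : G → ℂ) - 1)) * cP ^ 2
            = 8 * (charDegree (ζ₂ : G → ℂ) * charDegree (ζ₃ : G → ℂ) *
              charDegree (ζ₄ : G → ℂ)) * cJ ^ 3)) := by
  obtain ⟨M, hM⟩ := Cfsg.Agent.Lib.helper76.exists_isPModular 2 Nat.prime_two
  obtain ⟨ζ₂, ζ₃, ζ₄, ε, hε, h2ne, h3ne, h23, h24, h34, hB, hval, hd2, hd3, hd4, hrel⟩ :=
    Cfsg.Agent.S0948.result M hM P hP hone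
  obtain ⟨J, hJP, hJ2⟩ := k4_exists_inv_h83 P hP
  obtain ⟨hv2, hv3, hv4⟩ := hval J hJ2
  have h4ne : (ζ₄ : G → ℂ) ≠ (fun _ => 1) := by
    intro h
    rw [h] at hv4
    norm_num at hv4
  -- no normal 2-complement
  have hg0pos : 0 < g₀ := by
    rcases hodd with ⟨k, hk⟩; omega
  have hnc : ¬ ∃ N : Subgroup G, N.Normal ∧ Nat.card N = g₀ := by
    rintro ⟨N, hN, hNc⟩
    rcases hN.eq_bot_or_eq_top with h | h
    · rw [h, Subgroup.card_bot] at hNc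
      -- |G| = 4: abelian
      have hG4 : Nat.card G = 2 ^ 2 := by rw [hG, ← hNc]; norm_num
      obtain ⟨x, y, hxy⟩ := hna
      have hf2 : Fact (Nat.Prime 2) := ⟨Nat.prime_two⟩
      have hc : IsMulCommutative G := IsPGroup.isMulCommutative_of_card_eq_prime_sq (p := 2) hG4
      exact hxy (hc.is_comm.comm x y)
    · rw [h, Subgroup.card_top, hG] at hNc
      omega
  -- the centralizer orders
  have hcJ : Nat.card (Subgroup.centralizer ({J} : Set G)) ∣ 4 * g₀ := by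
    rw [← hG]; exact Subgroup.card_subgroup_dvd_card _
  have hcP : 4 ∣ Nat.card (Subgroup.centralizer ((P : Subgroup G) : Set G)) := by
    have h1 := Subgroup.card_dvd_of_le (k4_le_centralizer_h83 P hP)
    have h2 : Nat.card (P : Subgroup G) = 4 := hP.card_four
    rw [h2] at h1
    exact h1
  have hdist : (ζ₂ : G → ℂ) ≠ (fun _ => 1) ∧ (ζ₃ : G → ℂ) ≠ (fun _ => 1) ∧
      (ζ₄ : G → ℂ) ≠ (fun _ => 1) ∧ ζ₂ ≠ ζ₃ ∧ ζ₂ ≠ ζ₄ ∧ ζ₃ ≠ ζ₄ := ⟨h2ne, h3ne, h4ne, h23, h24, h34⟩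
  -- the relation at 1
  have hrel1 := hrel 1 (by rw [orderOf_one]; exact odd_one)
  rw [Cfsg.Agent.Lib.helper81.irr_one_eq_charDegree, Cfsg.Agent.Lib.helper81.irr_one_eq_charDegree,
    Cfsg.Agent.Lib.helper81.irr_one_eq_charDegree] at hrel1
  have hA : charDegree (ζ₂ : G → ℂ) % 4 = 1 := by
    obtain ⟨k, hk⟩ := hd2; omega
  have hC : charDegree (ζ₄ : G → ℂ) % 4 = 3 := by
    obtain ⟨k, hk⟩ := hd4; omega
  refine ⟨ζ₂, ζ₃, ζ₄, Nat.card (Subgroup.centralizer ({J} : Set G)),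
    Nat.card (Subgroup.centralizer ((P : Subgroup G) : Set G)), h2ne, h3ne, h4ne, hcJ, hcP, ?_⟩
  rcases hε with hε1 | hε1
  · -- ε = 1
    left
    have hBm : charDegree (ζ₃ : G → ℂ) % 4 = 1 := by
      obtain ⟨k, hk⟩ := hd3; rw [hε1] at hk; omega
    have hsum : charDegree (ζ₄ : G → ℂ) = 1 + charDegree (ζ₂ : G → ℂ) + charDegree (ζ₃ : G → ℂ) := by
      rw [hε1] at hrel1
      have h : ((1 + charDegree (ζ₂ : G → ℂ) + charDegree (ζ₃ : G → ℂ) : ℕ) : ℂ) =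
          ((charDegree (ζ₄ : G → ℂ) : ℕ) : ℂ) := by
        push_cast
        push_cast at hrel1
        linear_combination hrel1
      exact (Nat.cast_injective h).symm
    have hvals : (ζ₂ : G → ℂ) J = ((1 : ℤ) : ℂ) ∧ (ζ₃ : G → ℂ) J = ((1 : ℤ) : ℂ) ∧
        (ζ₄ : G → ℂ) J = ((-1 : ℤ) : ℂ) := by
      refine ⟨?_, ?_, ?_⟩
      · rw [hv2]; norm_num
      · rw [hv3, hε1]
      · rw [hv4]; norm_num
    obtain ⟨m, hm1, hm2⟩ := Cfsg.Agent.S4480.result M hM g₀ hodd hG hnc P J hJP hJ2 ζ₂ ζ₃ ζ₄ 1 1 (-1)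
      hB hdist ⟨Or.inl rfl, Or.inl rfl, Or.inr rfl⟩ hvals (by norm_num) rfl
    refine ⟨hA, hBm, hC, hsum, m, hm1, ?_⟩
    rw [← hG]; exact hm2
  · -- ε = -1
    right
    have hBm : charDegree (ζ₃ : G → ℂ) % 4 = 3 := by
      obtain ⟨k, hk⟩ := hd3; rw [hε1] at hk; omega
    have hsum : 1 + charDegree (ζ₂ : G → ℂ) = charDegree (ζ₃ : G → ℂ) + charDegree (ζ₄ : G → ℂ) := by
      rw [hε1] at hrel1
      have h : ((1 + charDegree (ζ₂ : G → ℂ) : ℕ) : ℂ) =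
          ((charDegree (ζ₃ : G → ℂ) + charDegree (ζ₄ : G → ℂ) : ℕ) : ℂ) := by
        push_cast
        push_cast at hrel1
        linear_combination hrel1
      exact Nat.cast_injective h
    have hvals : (ζ₂ : G → ℂ) J = ((1 : ℤ) : ℂ) ∧ (ζ₃ : G → ℂ) J = ((-1 : ℤ) : ℂ) ∧
        (ζ₄ : G → ℂ) J = ((-1 : ℤ) : ℂ) := by
      refine ⟨?_, ?_, ?_⟩
      · rw [hv2]; norm_num
      · rw [hv3, hε1]
      · rw [hv4]; norm_num
    have hform := Cfsg.Agent.S4479.result M hM g₀ hodd hG hnc P J hJP hJ2 ζ₂ ζ₃ ζ₄ 1 (-1) (-1)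
      hB hdist ⟨Or.inl rfl, Or.inr rfl, Or.inr rfl⟩ hvals
    refine ⟨hA, hBm, hC, hsum, ?_⟩
    have hB1 : 1 ≤ charDegree (ζ₃ : G → ℂ) := by omega
    have hC1 : 1 ≤ charDegree (ζ₄ : G → ℂ) := by omega
    have hB3 : 3 ≤ charDegree (ζ₃ : G → ℂ) := by omega
    have hC3 : 3 ≤ charDegree (ζ₄ : G → ℂ) := by omega
    have hcPpos : 0 < Nat.card (Subgroup.centralizer ((P : Subgroup G) : Set G)) := Nat.card_pos
    have hcPne : (Nat.card (Subgroup.centralizer ((P : Subgroup G) : Set G)) : ℚ) ≠ 0 := by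
      exact_mod_cast hcPpos.ne'
    have hBq : ((charDegree (ζ₃ : G → ℂ) : ℕ) : ℚ) - 1 ≠ 0 := by
      have : (3 : ℚ) ≤ (charDegree (ζ₃ : G → ℂ) : ℚ) := by exact_mod_cast hB3
      intro h; linarith
    have hCq : ((charDegree (ζ₄ : G → ℂ) : ℕ) : ℚ) - 1 ≠ 0 := by
      have : (3 : ℚ) ≤ (charDegree (ζ₄ : G → ℂ) : ℚ) := by exact_mod_cast hC3
      intro h; linarith
    have hAq : ((charDegree (ζ₂ : G → ℂ) : ℕ) : ℚ) + 1 ≠ 0 := by
      have : (0 : ℚ) ≤ (charDegree (ζ₂ : G → ℂ) : ℚ) := by exact_mod_cast Nat.zero_le _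
      intro h; linarith
    rw [hG] at hform
    have key : ∀ (N a b c j t : ℚ), a + 1 ≠ 0 → b - 1 ≠ 0 → c - 1 ≠ 0 → t ≠ 0 →
        N = 8 * (a * b * c / ((a + ((1 : ℤ) : ℚ)) * (b + ((-1 : ℤ) : ℚ)) * (c + ((-1 : ℤ) : ℚ)))) *
          j ^ 3 / t ^ 2 →
        N * ((a + 1) * (b - 1) * (c - 1)) * t ^ 2 = 8 * (a * b * c) * j ^ 3 := by
      intro N a b c j t ha hb hc ht h
      have h1 : (a + ((1 : ℤ) : ℚ)) * (b + ((-1 : ℤ) : ℚ)) * (c + ((-1 : ℤ) : ℚ)) =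
          (a + 1) * (b - 1) * (c - 1) := by
        push_cast; ring
      rw [h1] at h
      have hD : (a + 1) * (b - 1) * (c - 1) ≠ 0 := mul_ne_zero (mul_ne_zero ha hb) hc
      rw [h]
      field_simp
    have hq : ((4 * g₀ : ℕ) : ℚ) * (((charDegree (ζ₂ : G → ℂ) : ℚ) + 1) *
        ((charDegree (ζ₃ : G → ℂ) : ℚ) - 1) * ((charDegree (ζ₄ : G → ℂ) : ℚ) - 1)) *
        (Nat.card (Subgroup.centralizer ((P : Subgroup G) : Set G)) : ℚ) ^ 2 =
        8 * ((charDegree (ζ₂ : G → ℂ) : ℚ) * charDegree (ζ₃ : G → ℂ) * charDegree (ζ₄ : G → ℂ)) *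
          (Nat.card (Subgroup.centralizer ({J} : Set G)) : ℚ) ^ 3 :=
      key _ _ _ _ _ _ hAq hBq hCq hcPne hform
    have hnat : ((4 * g₀ * ((charDegree (ζ₂ : G → ℂ) + 1) * (charDegree (ζ₃ : G → ℂ) - 1) *
        (charDegree (ζ₄ : G → ℂ) - 1)) *
        Nat.card (Subgroup.centralizer ((P : Subgroup G) : Set G)) ^ 2 : ℕ) : ℚ) =
        ((8 * (charDegree (ζ₂ : G → ℂ) * charDegree (ζ₃ : G → ℂ) * charDegree (ζ₄ : G → ℂ)) *
          Nat.card (Subgroup.centralizer ({J} : Set G)) ^ 3 : ℕ) : ℚ) := by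
      push_cast [Nat.cast_sub hB1, Nat.cast_sub hC1]
      push_cast at hq
      linarith
    exact Nat.cast_injective hnat

end Cfsg.Agent.Lib.helper83.BW
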