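import Mathlib
import Cfsg.Agent.Lib.helper24.SfoDefs
import Cfsg.Agent.Lib.helper57.SfoBINCNT
import Cfsg.Agent.Lib.helper61.SfoCNTDOcore

/-!
# S5981, piece CNTDE: the number of solutions of a diagonal quadratic equation in an even number
of variables (on top of the binary count BINCNT and the two-variable recursion).
-/

set_option autoImplicit false
set_option linter.unusedVariables false
set_option linter.style.longLine false

namespace Cfsg.Agent.Lib.helper24

open Module Matrix Cfsg.Geo

theorem h83_sfo_count_diag_even_aux {F : Type*} [Field F] [Fintype F] [DecidableEq F]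
    (h2 : (2 : F) ≠ 0) :
    ∀ (k n : ℕ) (_ : n = 2 * k) (d : Fin n → F) (_ : ∀ j, d j ≠ 0),
    ∃ ε : ℤ, (ε = 1 ∨ ε = -1) ∧ ∀ c : F, c ≠ 0 →
      ((Finset.univ.filter (fun x : Fin n → F => ∑ j, d j * x j ^ 2 = c)).card : ℤ) =
        (Fintype.card F : ℤ) ^ (k - 1) * ((Fintype.card F : ℤ) ^ k - ε) := by
  intro k
  induction k with
  | zero =>
    intro n hn d hd
    have hn0 : n = 0 := by omega
    subst hn0
    refine ⟨1, Or.inl rfl, fun c hc => ?_⟩
    have hemp : (Finset.univ.filter (fun x : Fin 0 → F => ∑ j, d j * x j ^ 2 = c)) = ∅ := by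
      rw [Finset.filter_eq_empty_iff]
      intro x _
      rw [Finset.univ_eq_empty, Finset.sum_empty]
      exact fun h => hc h.symm
    rw [hemp]
    simp
  | succ k ih =>
    intro n hn d hd
    obtain ⟨m, rfl⟩ : ∃ m, n = m + 2 := ⟨2 * k, by omega⟩
    have hm : m = 2 * k := by omega
    obtain ⟨e, he, hM, hM0⟩ := sfo_bin_count h2 (d 0) (d 1) (hd 0) (hd 1)
    obtain ⟨E, hE, ih1⟩ := ih m hm (fun j => d j.succ.succ) (fun j => hd _)
    rcases Nat.eq_zero_or_pos k with hk | hk
    · subst hk
      have hm0 : m = 0 := by omega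
      subst hm0
      refine ⟨e, he, fun c hc => ?_⟩
      rw [h61_sfo_diag_rec 0 (d 0) (d 1) e hM hM0 d rfl rfl c]
      have hemp : (Finset.univ.filter
          (fun x : Fin 0 → F => ∑ j, d j.succ.succ * x j ^ 2 = c)) = ∅ := by
        rw [Finset.filter_eq_empty_iff]
        intro x _
        rw [Finset.univ_eq_empty, Finset.sum_empty]
        exact fun h => hc h.symm
      rw [hemp]
      simp
    · refine ⟨e * E, ?_, fun c hc => ?_⟩
      · rcases he with rfl | rfl <;> rcases hE with rfl | rfl <;> simp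
      · rw [h61_sfo_diag_rec m (d 0) (d 1) e hM hM0 d rfl rfl c, ih1 c hc, hm]
        have hq : (Fintype.card F : ℤ) * (Fintype.card F : ℤ) ^ (k - 1) =
            (Fintype.card F : ℤ) ^ k := by
          rw [← pow_succ']
          congr 1
          omega
        have hk1 : k + 1 - 1 = k := by omega
        rw [hk1]
        have h3 : (Fintype.card F : ℤ) * e *
            ((Fintype.card F : ℤ) ^ (k - 1) * ((Fintype.card F : ℤ) ^ k - E)) =
            e * ((Fintype.card F : ℤ) ^ k * ((Fintype.card F : ℤ) ^ k - E)) := by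
          rw [← hq]
          ring
        rw [h3]
        ring

/-- CNTDE (racing copy, verbatim statement). -/
theorem h83_sfo_count_diag_even {F : Type*} [Field F] [Fintype F] [DecidableEq F] (h2 : (2 : F) ≠ 0)
    (k : ℕ) (d : Fin (2 * k) → F) (hd : ∀ j, d j ≠ 0) :
    ∃ ε : ℤ, (ε = 1 ∨ ε = -1) ∧ ∀ c : F, c ≠ 0 →
      ((Finset.univ.filter (fun x : Fin (2 * k) → F => ∑ j, d j * x j ^ 2 = c)).card : ℤ) =
        (Fintype.card F : ℤ) ^ (k - 1) * ((Fintype.card F : ℤ) ^ k - ε) :=
  h83_sfo_count_diag_even_aux h2 k (2 * k) rfl d hd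

end Cfsg.Agent.Lib.helper24
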