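import Mathlib
import Cfsg.Prelude.Def_Characters
import Cfsg.Prelude.Def_Blocks
import Cfsg.Agent.Lib.helper79.RealDegB
import Cfsg.Agent.Lib.helper82.Clifford
import Cfsg.Agent.Lib.helper82.GlaubReal
import Cfsg.Agent.Lib.helper4.Induction

/-!
# Real classes and Sylow normalizers (Isaacs–Navarro), part A

Group-theoretic facts on real elements, a parity lemma, and the character theory:
over a real-valued irreducible character of a normal subgroup of odd index lies a real-valued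
irreducible character of the whole group.
-/

set_option autoImplicit false
set_option linter.unusedSectionVars false
set_option linter.style.haveILetI false

namespace Cfsg.Agent.Lib.helper83.RealNorm

open Cfsg
open Cfsg.Agent.Lib Cfsg.Agent.Lib.helper83 Cfsg.Agent.Lib.helper79 Cfsg.Agent.Lib.helper82
open scoped ComplexConjugate

universe u

section Grp

variable {G : Type u} [Group G]

/-- If `g` inverts `x` then so does every odd power of `g`. -/
theorem odd_pow_conj {g x : G} (h : g * x * g⁻¹ = x⁻¹) (i : ℕ) :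
    g ^ (2 * i + 1) * x * (g ^ (2 * i + 1))⁻¹ = x⁻¹ := by
  have h1 : g * x = x⁻¹ * g := by rw [← h]; group
  have h2 : g * x⁻¹ = x * g := by
    have h3 : g * x⁻¹ = x * (x⁻¹ * g) * x⁻¹ := by group
    rw [h3, ← h1]; group
  have hc : Commute (g * g) x := by
    show g * g * x = x * (g * g)
    rw [mul_assoc, h1, ← mul_assoc, h2, mul_assoc]
  have hc' : Commute ((g * g) ^ i) x⁻¹ := (hc.pow_left i).inv_right
  have e : g ^ (2 * i + 1) = (g * g) ^ i * g := by rw [pow_succ, pow_mul, pow_two]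
  rw [e]
  obtain ⟨A, hA⟩ : ∃ A : G, A = (g * g) ^ i := ⟨_, rfl⟩
  rw [← hA] at hc' ⊢
  calc A * g * x * (A * g)⁻¹ = A * (g * x * g⁻¹) * A⁻¹ := by group
    _ = A * x⁻¹ * A⁻¹ := by rw [h]
    _ = x⁻¹ := by rw [hc'.eq, mul_inv_cancel_right]

/-- A real element is inverted by a `2`-element. -/
theorem exists_two_elt_inverting [Finite G] {x : G} (hx : IsConj x x⁻¹) :
    ∃ t : G, (∃ k : ℕ, orderOf t = 2 ^ k) ∧ t * x * t⁻¹ = x⁻¹ := by
  obtain ⟨g, hg⟩ := isConj_iff.mp hx
  have hn : 0 < orderOf g := orderOf_pos g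
  set m := ordCompl[2] (orderOf g) with hm
  have hm0 : m ≠ 0 := by
    rw [hm]
    exact (Nat.ordCompl_pos 2 hn.ne').ne'
  have hgm : orderOf (g ^ m) = 2 ^ (orderOf g).factorization 2 := by
    rw [orderOf_pow' g hm0, Nat.gcd_eq_right (Nat.ordCompl_dvd (orderOf g) 2)]
    exact Nat.div_eq_of_eq_mul_left (Nat.pos_of_ne_zero hm0)
      (Nat.ordProj_mul_ordCompl_eq_self (orderOf g) 2).symm
  have hodd : ¬ 2 ∣ m := by
    rw [hm]
    exact Nat.not_dvd_ordCompl Nat.prime_two hn.ne'
  obtain ⟨i, hi⟩ : ∃ i, m = 2 * i + 1 := ⟨m / 2, by omega⟩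
  refine ⟨g ^ m, ⟨_, hgm⟩, ?_⟩
  rw [hi]
  exact odd_pow_conj hg i

/-- A real element lies in the subgroup generated by the `2`-elements. -/
theorem real_mem_pGen_two [Finite G] {x : G} (hx : IsConj x x⁻¹) : x ∈ pGen 2 G := by
  obtain ⟨t, ⟨k, hk⟩, ht⟩ := exists_two_elt_inverting hx
  have hKn := pGen_normal (G := G) 2
  have htK : t ∈ pGen 2 G := mem_pGen_of_orderOf hk
  have h2 : t * x⁻¹ * t⁻¹ = x := by
    have h := congrArg (fun y => y⁻¹) ht
    simpa [mul_assoc] using h
  have h3 : x⁻¹ * t⁻¹ = t⁻¹ * x := by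
    calc x⁻¹ * t⁻¹ = t⁻¹ * (t * x⁻¹ * t⁻¹) := by group
      _ = t⁻¹ * x := by rw [h2]
  have hxx : x * x = x * t * x⁻¹ * t⁻¹ := by
    rw [mul_assoc (x * t), h3]; group
  have hxxK : x * x ∈ pGen 2 G := by
    rw [hxx]
    exact (pGen 2 G).mul_mem (hKn.conj_mem t htK x) ((pGen 2 G).inv_mem htK)
  have hn : 0 < orderOf x := orderOf_pos x
  set m := ordCompl[2] (orderOf x) with hm
  have hm0 : m ≠ 0 := by
    rw [hm]
    exact (Nat.ordCompl_pos 2 hn.ne').ne'
  have hgm : orderOf (x ^ m) = 2 ^ (orderOf x).factorization 2 := by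
    rw [orderOf_pow' x hm0, Nat.gcd_eq_right (Nat.ordCompl_dvd (orderOf x) 2)]
    exact Nat.div_eq_of_eq_mul_left (Nat.pos_of_ne_zero hm0)
      (Nat.ordProj_mul_ordCompl_eq_self (orderOf x) 2).symm
  have hodd : ¬ 2 ∣ m := by
    rw [hm]
    exact Nat.not_dvd_ordCompl Nat.prime_two hn.ne'
  obtain ⟨i, hi⟩ : ∃ i, m = 2 * i + 1 := ⟨m / 2, by omega⟩
  have hxm : x ^ m ∈ pGen 2 G := mem_pGen_of_orderOf hgm
  have hxe : x = ((x * x) ^ i)⁻¹ * x ^ m := by
    rw [hi, pow_succ, pow_mul, pow_two, inv_mul_cancel_left]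
  rw [hxe]
  exact (pGen 2 G).mul_mem ((pGen 2 G).inv_mem ((pGen 2 G).pow_mem hxxK i)) hxm

/-- A subgroup containing all `2`-elements has odd index. -/
theorem odd_index_of_pGen_two_le [Finite G] (M : Subgroup G) (hKM : pGen 2 G ≤ M) :
    Odd M.index := by
  haveI : Fact (Nat.Prime 2) := ⟨Nat.prime_two⟩
  obtain ⟨P⟩ : Nonempty (Sylow 2 G) := inferInstance
  have hPK : (P : Subgroup G) ≤ M :=
    (le_pGen_of_isPGroup (P : Subgroup G) P.isPGroup').trans hKM
  have h1 : ¬ 2 ∣ (P : Subgroup G).index := P.not_dvd_index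
  have h2 : M.index ∣ (P : Subgroup G).index := Subgroup.index_dvd_of_le hPK
  rw [← Nat.not_even_iff_odd, even_iff_two_dvd]
  exact fun h => h1 (h.trans h2)

end Grp

/-- An involution on a finite type preserving a weight of odd total has a fixed point of odd
weight. -/
theorem exists_fixed_odd {X : Type*} [Fintype X] (σ : X → X) (hσ : ∀ x, σ (σ x) = x)
    (f : X → ℕ) (hf : ∀ x, f (σ x) = f x) (hodd : Odd (∑ x, f x)) :
    ∃ x, σ x = x ∧ Odd (f x) := by
  classical
  by_contra hcon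
  push Not at hcon
  have h0 : (∑ x, (f x : ZMod 2)) = 0 := by
    apply Finset.sum_involution (fun a _ => σ a)
    · intro a _
      rw [hf a]
      exact CharTwo.add_self_eq_zero _
    · intro a _ hne hfix
      apply hne
      have h1 := hcon a hfix
      rw [Nat.not_odd_iff_even] at h1
      exact ZMod.natCast_eq_zero_iff_even.mpr h1
    · intro a _
      exact Finset.mem_univ _
    · intro a _
      exact hσ a
  have h1 : ((∑ x, f x : ℕ) : ZMod 2) = 0 := by
    rw [Nat.cast_sum]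
    exact h0
  rw [ZMod.natCast_eq_zero_iff_even] at h1
  exact (Nat.not_even_iff_odd.mpr hodd) h1

section Chars

variable {G : Type u} [Group G] [Fintype G]

/-- A function induced from a real-valued function on a normal subgroup is real-valued. -/
theorem indFun_real (M : Subgroup G) [hM : M.Normal] (θ : M → ℂ) (hθ : ∀ m, (θ m).im = 0)
    (g : G) : conj (indFun M θ g) = indFun M θ g := by
  by_cases hg : g ∈ M
  · have h := indFun_apply_mem M θ ⟨g, hg⟩
    change indFun M θ g = _ at h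
    rw [h, map_mul, map_inv₀, Complex.conj_natCast, map_sum]
    congr 1
    refine Finset.sum_congr rfl fun x _ => ?_
    rw [cconj_def]
    exact Complex.conj_eq_iff_im.mpr (hθ _)
  · rw [indFun_apply_not_mem M θ hg, map_zero]

/-- Over a real-valued irreducible character `θ` of a normal subgroup of odd index lies a
real-valued irreducible character `χ`, with `χ 1 = e * |G : I_G(θ)| * θ 1`. -/
theorem exists_real_over (M : Subgroup G) [hM : M.Normal] [Fintype M] (hodd : Odd M.index)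
    (θ : IrrCharacter M) (hθ : ∀ m, ((θ : M → ℂ) m).im = 0) :
    ∃ χ : IrrCharacter G, (∀ g, ((χ : G → ℂ) g).im = 0) ∧ ∃ e : ℕ, e ≠ 0 ∧
      classInner (fun n : M => (χ : G → ℂ) n) (θ : M → ℂ) = e ∧
      charDegree (χ : G → ℂ) =
        e * (inertia M (θ : M → ℂ)).index * charDegree (θ : M → ℂ) := by
  classical
  letI : Fintype (IrrCharacter G) := Fintype.ofFinite _
  letI : Fintype (IrrCharacter M) := Fintype.ofFinite _
  have hΘ : IsCharacter G (indFun M (θ : M → ℂ)) :=
    helper4.isCharacter_indFun M (isCharacter_of_irr θ.2)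
  obtain ⟨N, hN, hNg, hN1⟩ := exists_nat_decomp hΘ
  have hres : ∀ χ : IrrCharacter G,
      classInner (fun n : M => (χ : G → ℂ) n) (θ : M → ℂ) = N χ := by
    intro χ
    have h3 := helper4.frobenius_reciprocity M (θ : M → ℂ)
      (helper4.isClassFunction_of_isIrrCharacter χ.2)
    rw [hN χ] at h3
    rw [← helper4.classInner_conj_symm, ← h3, Complex.conj_natCast]
  have hstar : ∀ χ : IrrCharacter G, N (starIrr χ) = N χ := by
    intro χ
    have h1 := hN (starIrr χ)
    have h2 := hN χ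
    have h3 : classInner (indFun M (θ : M → ℂ)) (starIrr χ : G → ℂ) =
        conj (classInner (indFun M (θ : M → ℂ)) (χ : G → ℂ)) := by
      rw [classInner_def, classInner_def, map_mul, map_inv₀, Complex.conj_natCast, map_sum]
      congr 1
      refine Finset.sum_congr rfl fun g _ => ?_
      rw [map_mul, indFun_real M _ hθ g, starIrr_apply]
    rw [h3, h2, Complex.conj_natCast] at h1
    exact_mod_cast h1.symm
  obtain ⟨t, ht⟩ : ∃ t, t = (inertia M (θ : M → ℂ)).index := ⟨_, rfl⟩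
  have hdeg : ∀ χ : IrrCharacter G, N χ ≠ 0 →
      charDegree (χ : G → ℂ) = N χ * t * charDegree (θ : M → ℂ) := by
    intro χ h0
    have h1 := clifford_degree M χ.2 θ.2 (N χ) (hres χ) h0
    rw [irr_one_eq_charDegree χ, irr_one_eq_charDegree θ, ← ht] at h1
    exact_mod_cast h1
  have hd0 : 0 < charDegree (θ : M → ℂ) := charDegree_pos θ
  have hsum : M.index * charDegree (θ : M → ℂ) =
      (∑ ψ : IrrCharacter G, N ψ * N ψ) * t * charDegree (θ : M → ℂ) := by
    have h1 := helper4.indFun_one M (θ : M → ℂ)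
    rw [hN1, irr_one_eq_charDegree θ] at h1
    have h2 : (∑ ψ : IrrCharacter G, N ψ * charDegree (ψ : G → ℂ)) =
        M.index * charDegree (θ : M → ℂ) := by
      exact_mod_cast h1
    rw [← h2, Finset.sum_mul, Finset.sum_mul]
    refine Finset.sum_congr rfl fun ψ _ => ?_
    by_cases h0 : N ψ = 0
    · rw [h0]; simp
    · rw [hdeg ψ h0]; ring
  have hidx : M.index = (∑ ψ : IrrCharacter G, N ψ * N ψ) * t :=
    Nat.eq_of_mul_eq_mul_right hd0 hsum
  have hoddS : Odd (∑ ψ : IrrCharacter G, N ψ * N ψ) := by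
    rw [hidx] at hodd
    exact (Nat.odd_mul.mp hodd).1
  obtain ⟨χ, hfix, hoddχ⟩ := exists_fixed_odd (fun ψ : IrrCharacter G => starIrr ψ)
    (fun ψ => starIrr_starIrr ψ) (fun ψ => N ψ * N ψ)
    (fun ψ => by show N (starIrr ψ) * N (starIrr ψ) = N ψ * N ψ; rw [hstar ψ]) hoddS
  have h0 : N χ ≠ 0 := by
    intro h
    simp [h] at hoddχ
  exact ⟨χ, (starIrr_eq_iff χ).mp hfix, N χ, h0, hres χ, by rw [hdeg χ h0, ht]⟩

end Chars

section Fin

variable {G : Type u} [Group G] [Finite G]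

/-- The hypothesis "real-valued irreducible characters have degree prime to `p`" passes to
normal subgroups of odd index. -/
theorem hreal_of_odd_normal (p : ℕ) (M : Subgroup G) [hM : M.Normal] (hodd : Odd M.index)
    (hreal : ∀ χ : IrrCharacter G, (∀ g, ((χ : G → ℂ) g).im = 0) →
      ¬ p ∣ charDegree (χ : G → ℂ)) :
    ∀ θ : IrrCharacter M, (∀ m, ((θ : M → ℂ) m).im = 0) → ¬ p ∣ charDegree (θ : M → ℂ) := by
  intro θ hθ hdvd
  letI : Fintype G := Fintype.ofFinite G
  letI : Fintype M := Fintype.ofFinite M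
  obtain ⟨χ, hχ, e, he0, he, hdeg⟩ := exists_real_over M hodd θ hθ
  apply hreal χ hχ
  rw [hdeg]
  exact Dvd.dvd.mul_left hdvd _

/-- If `M` is normal of odd `p`-power index and real-valued irreducible characters of `G` have
degree prime to `p`, then `M` has at most as many real-valued irreducible characters as `G`. -/
theorem card_realIrr_le_of_ppow_index (p : ℕ) [hp : Fact p.Prime] (M : Subgroup G)
    [hM : M.Normal] (hodd : Odd M.index) (k : ℕ) (hidx : M.index = p ^ k)
    (hreal : ∀ χ : IrrCharacter G, (∀ g, ((χ : G → ℂ) g).im = 0) →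
      ¬ p ∣ charDegree (χ : G → ℂ)) :
    Nat.card (RealIrr M) ≤ Nat.card (RealIrr G) := by
  classical
  letI : Fintype G := Fintype.ofFinite G
  letI : Fintype M := Fintype.ofFinite M
  letI : Fintype (IrrCharacter M) := Fintype.ofFinite _
  have hex : ∀ θ : RealIrr M, ∃ χ : RealIrr G, ∃ e : ℕ, e ≠ 0 ∧
      classInner (fun n : M => (χ.1 : G → ℂ) n) (θ.1 : M → ℂ) = e ∧
      inertia M (θ.1 : M → ℂ) = ⊤ := by
    intro θ
    obtain ⟨χ, hχ, e, he0, he, hdeg⟩ := exists_real_over M hodd θ.1 θ.2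
    refine ⟨⟨χ, hχ⟩, e, he0, he, ?_⟩
    have h1 : ¬ p ∣ (inertia M (θ.1 : M → ℂ)).index := by
      intro hdvd
      apply hreal χ hχ
      rw [hdeg]
      exact (hdvd.mul_left e).mul_right _
    have h2 : (inertia M (θ.1 : M → ℂ)).index ∣ p ^ k := by
      rw [← hidx]
      exact Subgroup.index_dvd_of_le (le_inertia M (isClassFunction_irr θ.1))
    obtain ⟨j, -, hj⟩ := (Nat.dvd_prime_pow hp.out).mp h2
    have hj0 : j = 0 := by
      by_contra hj0
      apply h1
      rw [hj]
      exact dvd_pow_self p hj0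
    rw [hj0, pow_zero] at hj
    exact Subgroup.index_eq_one.mp hj
  choose F hF using hex
  apply Nat.card_le_card_of_injective F
  intro θ₁ θ₂ h12
  obtain ⟨e₁, he₁0, he₁, hT₁⟩ := hF θ₁
  obtain ⟨e₂, he₂0, he₂, hT₂⟩ := hF θ₂
  rw [h12] at he₁
  have h1 : classInner (fun n : M => ((F θ₂).1 : G → ℂ) n) (θ₁.1 : M → ℂ) ≠ 0 := by
    rw [he₁]; exact_mod_cast he₁0
  have h2 : classInner (fun n : M => ((F θ₂).1 : G → ℂ) n) (θ₂.1 : M → ℂ) ≠ 0 := by
    rw [he₂]; exact_mod_cast he₂0
  obtain ⟨x, hx⟩ := clifford_conj M (F θ₂).1.2 θ₁.1.2 θ₂.1.2 h1 h2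
  have hx1 : cconj M x (θ₁.1 : M → ℂ) = θ₁.1 := by
    rw [← mem_inertia, hT₁]; exact Subgroup.mem_top x
  rw [hx1] at hx
  apply Subtype.ext
  apply Subtype.ext
  exact hx.symm

/-- If `M ⊇ pGen 2 G` is normal and has at most as many real classes as `G`, then `G`-conjugate
real elements are `M`-conjugate. -/
theorem conj_in_of_card_le (M : Subgroup G) [M.Normal] (hKM : pGen 2 G ≤ M)
    (hcard : Nat.card (RealCl M) ≤ Nat.card (RealCl G))
    {x : G} (hx : IsConj x x⁻¹) (g : G) : ∃ m ∈ M, g * x * g⁻¹ = m * x * m⁻¹ := by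
  classical
  have hlift : ∀ y : G, IsConj y y⁻¹ →
      ∃ (hy : y ∈ M), IsConj (⟨y, hy⟩ : M) (⟨y, hy⟩ : M)⁻¹ := by
    intro y hy
    obtain ⟨t, ⟨k, hk⟩, ht⟩ := exists_two_elt_inverting hy
    have hyM : y ∈ M := hKM (real_mem_pGen_two hy)
    have htM : t ∈ M := hKM (mem_pGen_of_orderOf hk)
    refine ⟨hyM, isConj_iff.mpr ⟨⟨t, htM⟩, ?_⟩⟩
    apply Subtype.ext
    simpa using ht
  have hsurj : Function.Surjective (realClMap (M.subtype) : RealCl M → RealCl G) := by
    intro K
    obtain ⟨y, hy, rfl⟩ := exists_realClMk K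
    obtain ⟨hyM, hyr⟩ := hlift y hy
    exact ⟨realClMk (⟨y, hyM⟩ : M) hyr, realClMap_mk M.subtype (⟨y, hyM⟩ : M) hyr hy⟩
  have hinj : Function.Injective (realClMap (M.subtype) : RealCl M → RealCl G) :=
    ((Nat.bijective_iff_surjective_and_card (realClMap M.subtype)).mpr
      ⟨hsurj, le_antisymm hcard (Nat.card_le_card_of_surjective _ hsurj)⟩).1
  obtain ⟨hxM, hxr⟩ := hlift x hx
  have hx' : IsConj (g * x * g⁻¹) (g * x * g⁻¹)⁻¹ := by
    have h1 : IsConj x (g * x * g⁻¹) := isConj_iff.mpr ⟨g, rfl⟩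
    exact h1.symm.trans (hx.trans (isConj_inv_of_isConj h1))
  obtain ⟨hyM, hyr⟩ := hlift (g * x * g⁻¹) hx'
  have heq : realClMap M.subtype (realClMk (⟨x, hxM⟩ : M) hxr) =
      realClMap M.subtype (realClMk (⟨g * x * g⁻¹, hyM⟩ : M) hyr) := by
    rw [realClMap_mk M.subtype _ hxr hx, realClMap_mk M.subtype _ hyr hx']
    exact (realClMk_eq_iff hx hx').mpr (isConj_iff.mpr ⟨g, rfl⟩)
  have h2 := (realClMk_eq_iff hxr hyr).mp (hinj heq)
  obtain ⟨m, hm⟩ := isConj_iff.mp h2
  refine ⟨(m : G), m.2, ?_⟩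
  have h3 := congrArg Subtype.val hm
  simpa using h3.symm

end Fin

end Cfsg.Agent.Lib.helper83.RealNorm
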