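import Mathlib
import Cfsg.Agent.Lib.helper83.RealNormA

/-!
# Real classes and Sylow normalizers (Isaacs–Navarro), part B

The group-theoretic core and the induction: if the subgroup generated by the `p`-elements is
solvable and real-valued irreducible characters have degree prime to `p`, then every real
class meets the normalizer of a Sylow `p`-subgroup.
-/

set_option autoImplicit false
set_option linter.unusedSectionVars false
set_option linter.style.haveILetI false

namespace Cfsg.Agent.Lib.helper83.RealNorm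

open Cfsg
open Cfsg.Agent.Lib Cfsg.Agent.Lib.helper83 Cfsg.Agent.Lib.helper79 Cfsg.Agent.Lib.helper82
open scoped ComplexConjugate
open scoped commutatorElement

universe u

section Core

variable {G : Type u} [Group G]

/-- The subgroup of the elements whose commutator with `x` lies in the normal subgroup `Q`. -/
def commSub (Q : Subgroup G) [hQ : Q.Normal] (x : G) : Subgroup G where
  carrier := {g | g * x * g⁻¹ * x⁻¹ ∈ Q}
  one_mem' := by
    show (1 : G) * x * 1⁻¹ * x⁻¹ ∈ Q
    simp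
  mul_mem' := by
    intro g h hg hh
    have h1 : g * h * x * (g * h)⁻¹ * x⁻¹ =
        g * (h * x * h⁻¹ * x⁻¹) * g⁻¹ * (g * x * g⁻¹ * x⁻¹) := by group
    show g * h * x * (g * h)⁻¹ * x⁻¹ ∈ Q
    rw [h1]
    exact Q.mul_mem (hQ.conj_mem _ hh g) hg
  inv_mem' := by
    intro g hg
    have h1 : g⁻¹ * x * g⁻¹⁻¹ * x⁻¹ = g⁻¹ * (g * x * g⁻¹ * x⁻¹)⁻¹ * g⁻¹⁻¹ := by group
    show g⁻¹ * x * g⁻¹⁻¹ * x⁻¹ ∈ Q
    rw [h1]
    exact hQ.conj_mem _ (Q.inv_mem hg) g⁻¹

theorem mem_commSub (Q : Subgroup G) [hQ : Q.Normal] (x g : G) :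
    g ∈ commSub Q x ↔ g * x * g⁻¹ * x⁻¹ ∈ Q := Iff.rfl

variable [Finite G]

/-- A normal `p`-subgroup of `p'`-index in `K` contains every `p`-subgroup of `K`. -/
theorem le_of_isPGroup_of_relIndex (p : ℕ) [hp : Fact p.Prime] (Q K H : Subgroup G)
    [hQ : Q.Normal] (hQK : Q ≤ K) (hQp : IsPGroup p Q) (hQidx : ¬ p ∣ Q.relIndex K)
    (hHK : H ≤ K) (hHp : IsPGroup p H) : H ≤ Q := by
  have hsup : IsPGroup p (H ⊔ Q : Subgroup G) := hHp.to_sup_of_normal_right hQp
  obtain ⟨n, hn⟩ := hsup.index (Q.subgroupOf (H ⊔ Q))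
  have h2 : Q.relIndex (H ⊔ Q) = p ^ n := hn
  have h3 : Q.relIndex (H ⊔ Q) ∣ Q.relIndex K :=
    Dvd.intro _ (Subgroup.relIndex_mul_relIndex Q (H ⊔ Q) K le_sup_right (sup_le hHK hQK))
  have hn0 : n = 0 := by
    by_contra hn0
    apply hQidx
    refine (dvd_pow_self p hn0).trans ?_
    rw [← h2]
    exact h3
  rw [hn0, pow_zero] at h2
  exact le_sup_left.trans (Subgroup.relIndex_eq_one.mp h2)

/-- The key group-theoretic step: `Q` a normal Sylow `p`-subgroup of the normal subgroup `K`,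
`R` a Sylow `p`-subgroup of the normal subgroup `M ⊇ K` normalized by `x ∈ K`, and the
`G`-class of `x` equal to its `M`-class. Then `x` normalizes a Sylow `p`-subgroup of `G`. -/
theorem exists_sylow_normalized (p : ℕ) [hp : Fact p.Prime] (M K Q R : Subgroup G)
    [hM : M.Normal] [hK : K.Normal] [hQ : Q.Normal]
    (hQK : Q ≤ K) (hQp : IsPGroup p Q) (hQidx : ¬ p ∣ Q.relIndex K)
    (hRp : IsPGroup p R) (hRidx : ¬ p ∣ R.relIndex M)
    (x : G) (hxK : x ∈ K) (hxR : ∀ r ∈ R, x * r * x⁻¹ ∈ R)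
    (hfus : ∀ g : G, ∃ m ∈ M, g * x * g⁻¹ = m * x * m⁻¹) :
    ∃ P : Sylow p G, x ∈ Subgroup.normalizer ((P : Subgroup G) : Set G) := by
  classical
  obtain ⟨D, hD⟩ : ∃ D : Subgroup G, D = commSub Q x := ⟨_, rfl⟩
  have hmemD : ∀ g, g ∈ D ↔ g * x * g⁻¹ * x⁻¹ ∈ Q := by
    intro g
    rw [hD]
    exact Iff.rfl
  have hRD : R ≤ D := by
    intro r hr
    rw [hmemD]
    have h1 : r * x * r⁻¹ * x⁻¹ ∈ R := by
      have h2 : r * x * r⁻¹ * x⁻¹ = r * (x * r⁻¹ * x⁻¹) := by group
      rw [h2]
      exact R.mul_mem hr (hxR _ (R.inv_mem hr))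
    have h3 : r * x * r⁻¹ * x⁻¹ ∈ K := K.mul_mem (hK.conj_mem x hxK r) (K.inv_mem hxK)
    exact le_of_isPGroup_of_relIndex p Q K (R ⊓ K) hQK hQp hQidx inf_le_right
      (hRp.to_le inf_le_left) ⟨h1, h3⟩
  have hDM : D ⊔ M = ⊤ := by
    rw [sup_comm, eq_top_iff]
    intro g _
    obtain ⟨m, hm, hgm⟩ := hfus g
    have h1 : m⁻¹ * g ∈ D := by
      rw [hmemD]
      have h2 : m⁻¹ * g * x * (m⁻¹ * g)⁻¹ * x⁻¹ = m⁻¹ * (g * x * g⁻¹) * m * x⁻¹ := by group
      rw [h2, hgm]
      have h3 : m⁻¹ * (m * x * m⁻¹) * m * x⁻¹ = 1 := by group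
      rw [h3]
      exact Q.one_mem
    have h4 : g = m * (m⁻¹ * g) := by group
    rw [h4]
    exact Subgroup.mul_mem_sup hm h1
  have hidx : D.index = D.relIndex M := by
    have hG1 := D.card_mul_index
    have hG2 := M.card_mul_index
    have hMi : M.index = M.relIndex D := by
      rw [← Subgroup.relIndex_top_right, ← hDM, Subgroup.relIndex_sup_right]
    have hD2 : Nat.card ↥(M ⊓ D) * M.relIndex D = Nat.card D := by
      have h := Subgroup.relIndex_mul_relIndex ⊥ (M ⊓ D) D bot_le inf_le_right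
      rwa [Subgroup.relIndex_bot_left, Subgroup.relIndex_bot_left,
        Subgroup.inf_relIndex_right] at h
    have hM2 : Nat.card ↥(M ⊓ D) * D.relIndex M = Nat.card M := by
      have h := Subgroup.relIndex_mul_relIndex ⊥ (M ⊓ D) M bot_le inf_le_left
      rwa [Subgroup.relIndex_bot_left, Subgroup.relIndex_bot_left,
        Subgroup.inf_relIndex_left] at h
    have hpos : 0 < Nat.card ↥(M ⊓ D) * M.relIndex D := by
      rw [hD2]
      exact Nat.card_pos
    have h : Nat.card ↥(M ⊓ D) * M.relIndex D * D.index =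
        Nat.card ↥(M ⊓ D) * M.relIndex D * D.relIndex M := by
      calc Nat.card ↥(M ⊓ D) * M.relIndex D * D.index = Nat.card D * D.index := by rw [hD2]
        _ = Nat.card G := hG1
        _ = Nat.card M * M.index := hG2.symm
        _ = Nat.card ↥(M ⊓ D) * D.relIndex M * M.relIndex D := by rw [hM2, hMi]
        _ = Nat.card ↥(M ⊓ D) * M.relIndex D * D.relIndex M := by ring
    exact Nat.eq_of_mul_eq_mul_left hpos h
  have hpD : ¬ p ∣ D.index := by
    rw [hidx]
    exact fun h => hRidx (h.trans (Subgroup.relIndex_dvd_of_le_left M hRD))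
  obtain ⟨PD⟩ : Nonempty (Sylow p D) := inferInstance
  obtain ⟨S, hS⟩ : ∃ S : Subgroup G, S = (PD : Subgroup D).map D.subtype := ⟨_, rfl⟩
  have hSp : IsPGroup p S := by
    rw [hS]
    exact PD.isPGroup'.map D.subtype
  have hSidx : ¬ p ∣ S.index := by
    rw [hS, Subgroup.index_map_subtype]
    intro h
    rcases (Nat.Prime.dvd_mul hp.out).mp h with h | h
    · exact PD.not_dvd_index h
    · exact hpD h
  have hSD : S ≤ D := by
    rw [hS]
    exact Subgroup.map_subtype_le _
  obtain ⟨P, hP⟩ : ∃ P : Sylow p G, (P : Subgroup G) = S := ⟨hSp.toSylow hSidx, rfl⟩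
  have hQS : Q ≤ S := by
    have h1 : IsPGroup p (S ⊔ Q : Subgroup G) := hSp.to_sup_of_normal_right hQp
    have h2 := P.is_maximal' h1 (by rw [hP]; exact le_sup_left)
    rw [hP] at h2
    exact le_sup_right.trans h2.le
  refine ⟨P, ?_⟩
  apply Subgroup.mem_normalizer_fintype
  intro s hs
  have hsS : s ∈ S := by
    rw [← hP]
    exact hs
  have h1 := (hmemD s).mp (hSD hsS)
  have h2 : x * s * x⁻¹ = (s * x * s⁻¹ * x⁻¹)⁻¹ * s := by group
  show x * s * x⁻¹ ∈ (P : Subgroup G)
  rw [hP, h2]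
  exact S.mul_mem (hQS (Q.inv_mem h1)) hsS

omit [Finite G] in
/-- The subgroup generated by the `p`-elements of a subgroup is solvable if the one of the
group is. -/
theorem solvable_pGen_subgroup (p : ℕ) (M : Subgroup G)
    (hsolv : Group.IsSolvable ↥(pGen p G)) : Group.IsSolvable ↥(pGen p ↥M) := by
  have hle : (pGen p ↥M).map M.subtype ≤ pGen p G := by
    rw [Subgroup.map_le_iff_le_comap]
    unfold pGen
    rw [Subgroup.closure_le]
    rintro m ⟨k, hk⟩
    show (M.subtype m) ∈ Subgroup.closure {g : G | ∃ k : ℕ, orderOf g = p ^ k}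
    apply Subgroup.subset_closure
    refine ⟨k, ?_⟩
    rw [← hk]
    exact Subgroup.orderOf_coe m
  let f : ↥(pGen p ↥M) →* ↥(pGen p G) :=
    (M.subtype.comp (pGen p ↥M).subtype).codRestrict (pGen p G)
      (fun y => hle ⟨y.1, y.2, rfl⟩)
  have hf : Function.Injective f := by
    intro a b hab
    have h1 := congrArg Subtype.val hab
    apply Subtype.ext
    apply Subtype.ext
    exact h1
  exact Group.isSolvable_of_isSolvable_injective hf

/-- A maximal normal subgroup `M` with `M * pGen p G = G`, where `pGen p G` is solvable, has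
`p`-power index. -/
theorem index_eq_ppow_of_maximal (p : ℕ) [hp : Fact p.Prime] (M : Subgroup G) [hM : M.Normal]
    (hmax : ∀ N : Subgroup G, N.Normal → M ≤ N → N = M ∨ N = ⊤)
    (hsolv : Group.IsSolvable ↥(pGen p G)) (hML : M ⊔ pGen p G = ⊤) :
    ∃ k : ℕ, M.index = p ^ k := by
  classical
  obtain ⟨π, hπ⟩ : ∃ π : G →* G ⧸ M, π = QuotientGroup.mk' M := ⟨_, rfl⟩
  have hπs : Function.Surjective π := by
    rw [hπ]
    exact QuotientGroup.mk'_surjective M
  have hker : ∀ g, π g = 1 ↔ g ∈ M := by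
    intro g
    rw [hπ]
    exact QuotientGroup.eq_one_iff g
  have hL : ∀ h : G ⧸ M, ∃ z ∈ pGen p G, π z = h := by
    intro h
    obtain ⟨g, rfl⟩ := hπs h
    have hg : g ∈ M ⊔ pGen p G := by
      rw [hML]
      exact Subgroup.mem_top g
    obtain ⟨y, hy, z, hz, rfl⟩ := Subgroup.mem_sup_of_normal_left.mp hg
    refine ⟨z, hz, ?_⟩
    rw [map_mul, (hker y).mpr hy, one_mul]
  haveI hsolvQ : Group.IsSolvable (G ⧸ M) := by
    have hsurj : Function.Surjective (π.comp (pGen p G).subtype) := by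
      intro h
      obtain ⟨z, hz, rfl⟩ := hL h
      exact ⟨⟨z, hz⟩, rfl⟩
    exact Group.isSolvable_of_surjective hsurj
  have hcomm : ∀ a b : G ⧸ M, Commute a b := by
    by_cases hnt : Nontrivial (G ⧸ M)
    · have hlt := Group.IsSolvable.commutator_lt_top_of_nontrivial (G ⧸ M)
      have hN : ((commutator (G ⧸ M)).comap π).Normal := inferInstance
      have hMN : M ≤ (commutator (G ⧸ M)).comap π := by
        intro m hm
        rw [Subgroup.mem_comap, (hker m).mpr hm]
        exact Subgroup.one_mem _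
      rcases hmax _ hN hMN with h | h
      · have h1 : commutator (G ⧸ M) = ⊥ := by
          rw [← Subgroup.map_comap_eq_self_of_surjective hπs (commutator (G ⧸ M)), h, hπ]
          exact QuotientGroup.map_mk'_self M
        intro a b
        have h2 : ⁅a, b⁆ ∈ commutator (G ⧸ M) :=
          Subgroup.commutator_mem_commutator (Subgroup.mem_top a) (Subgroup.mem_top b)
        rw [h1, Subgroup.mem_bot, commutatorElement_eq_one_iff_commute] at h2
        exact h2
      · exfalso
        have h1 : commutator (G ⧸ M) = ⊤ := by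
          rw [← Subgroup.map_comap_eq_self_of_surjective hπs (commutator (G ⧸ M)), h]
          exact Subgroup.map_top_of_surjective π hπs
        exact hlt.ne h1
    · rw [not_nontrivial_iff_subsingleton] at hnt
      intro a b
      have hab : a = b := Subsingleton.elim a b
      rw [hab]
  have hpg : IsPGroup p (G ⧸ M) := by
    intro h
    obtain ⟨z, hz, rfl⟩ := hL h
    have key : ∀ z ∈ Subgroup.closure {g : G | ∃ k : ℕ, orderOf g = p ^ k},
        ∃ k : ℕ, (π z) ^ p ^ k = 1 := by
      intro z hz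
      induction hz using Subgroup.closure_induction with
      | mem x hx =>
        obtain ⟨k, hk⟩ := hx
        exact ⟨k, by rw [← map_pow, ← hk, pow_orderOf_eq_one, map_one]⟩
      | one => exact ⟨0, by simp⟩
      | mul x y _ _ ihx ihy =>
        obtain ⟨k, hk⟩ := ihx
        obtain ⟨l, hl⟩ := ihy
        refine ⟨k + l, ?_⟩
        rw [map_mul, (hcomm _ _).mul_pow, pow_add, pow_mul, hk, one_pow,
          mul_comm (p ^ k) (p ^ l), pow_mul, hl, one_pow, mul_one]
      | inv x _ ih =>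
        obtain ⟨k, hk⟩ := ih
        exact ⟨k, by rw [map_inv, inv_pow, hk, inv_one]⟩
    exact key z hz
  obtain ⟨n, hn⟩ := IsPGroup.iff_card.mp hpg
  exact ⟨n, by rw [Subgroup.index_eq_card]; exact hn⟩

end Core

/-- **Isaacs–Navarro**: if the subgroup generated by the `p`-elements is solvable and every
real-valued irreducible character has degree prime to `p`, then every real element is conjugate
to an element normalizing some Sylow `p`-subgroup. -/
theorem main : ∀ (n : ℕ) (G : Type u) [Group G] [Finite G], Nat.card G = n →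
    ∀ (p : ℕ) [Fact p.Prime], Group.IsSolvable ↥(pGen p G) →
    (∀ χ : IrrCharacter G, (∀ g, ((χ : G → ℂ) g).im = 0) → ¬ p ∣ charDegree (χ : G → ℂ)) →
    ∀ x : G, IsConj x x⁻¹ →
    ∃ P : Sylow p G, ∃ y ∈ Subgroup.normalizer ((P : Subgroup G) : Set G), IsConj x y := by
  intro n
  induction n using Nat.strong_induction_on with
  | _ n ih =>
  intro G _ _ hn p hp hsolv hreal x hx
  classical
  haveI hKn := pGen_normal (G := G) 2
  obtain ⟨Q, hQn, hQK, hQp, hQidx⟩ := exists_normal_sylow_pGen_two n G hn p hsolv hreal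
  haveI := hQn
  by_cases hKtop : pGen 2 G = ⊤
  · have hidx : ¬ p ∣ Q.index := by
      rw [← Subgroup.relIndex_top_right, ← hKtop]
      exact hQidx
    refine ⟨hQp.toSylow hidx, x, ?_, IsConj.refl x⟩
    show x ∈ Subgroup.normalizer ((Q : Subgroup G) : Set G)
    rw [Subgroup.normalizer_eq_top]
    exact Subgroup.mem_top x
  have hfin : {N : Subgroup G | N.Normal ∧ pGen 2 G ≤ N ∧ N ≠ ⊤}.Finite := Set.toFinite _
  obtain ⟨M, hMmax⟩ := hfin.exists_maximal ⟨pGen 2 G, hKn, le_rfl, hKtop⟩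
  obtain ⟨⟨hMn, hKM, hMtop⟩, hMmax'⟩ := hMmax
  haveI := hMn
  have hmax : ∀ N : Subgroup G, N.Normal → M ≤ N → N = M ∨ N = ⊤ := by
    intro N hN hMN
    by_cases hNt : N = ⊤
    · exact Or.inr hNt
    · have hNs : N ∈ {N : Subgroup G | N.Normal ∧ pGen 2 G ≤ N ∧ N ≠ ⊤} :=
        ⟨hN, hKM.trans hMN, hNt⟩
      exact Or.inl (le_antisymm (hMmax' hNs hMN) hMN)
  have hodd : Odd M.index := odd_index_of_pGen_two_le M hKM
  obtain ⟨t, ⟨kt, hkt⟩, ht⟩ := exists_two_elt_inverting hx
  have hxM : x ∈ M := hKM (real_mem_pGen_two hx)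
  have htM : t ∈ M := hKM (mem_pGen_of_orderOf hkt)
  have hxM' : IsConj (⟨x, hxM⟩ : M) (⟨x, hxM⟩ : M)⁻¹ := by
    refine isConj_iff.mpr ⟨⟨t, htM⟩, ?_⟩
    apply Subtype.ext
    simpa using ht
  have hcardM : Nat.card M < n := by
    have h1 := M.card_mul_index
    have h2 : M.index ≠ 1 := fun h => hMtop (Subgroup.index_eq_one.mp h)
    have h3 : M.index ≠ 0 := Subgroup.index_ne_zero_of_finite
    have h4 : 0 < Nat.card M := Nat.card_pos
    have h5 : 2 ≤ M.index := by omega
    rw [← hn, ← h1]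
    calc Nat.card M < Nat.card M * 2 := by omega
      _ ≤ Nat.card M * M.index := Nat.mul_le_mul_left _ h5
  obtain ⟨PM, yM, hyM, hxy⟩ := ih (Nat.card M) hcardM ↥M rfl p (solvable_pGen_subgroup p M hsolv)
    (hreal_of_odd_normal p M hodd hreal) ⟨x, hxM⟩ hxM'
  obtain ⟨R, hR⟩ : ∃ R : Subgroup G, R = (PM : Subgroup M).map M.subtype := ⟨_, rfl⟩
  have hRM : R ≤ M := by
    rw [hR]
    exact Subgroup.map_subtype_le _
  have hRp : IsPGroup p R := by
    rw [hR]
    exact PM.isPGroup'.map M.subtype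
  have hRidx : ¬ p ∣ R.relIndex M := by
    have h1 : R.relIndex M * M.index = R.index := Subgroup.relIndex_mul_index hRM
    have h2 : R.index = (PM : Subgroup M).index * M.index := by
      rw [hR]
      exact Subgroup.index_map_subtype _
    have h3 : R.relIndex M = (PM : Subgroup M).index := by
      have h4 : M.index ≠ 0 := Subgroup.index_ne_zero_of_finite
      exact Nat.eq_of_mul_eq_mul_right (Nat.pos_of_ne_zero h4) (h1.trans h2)
    rw [h3]
    exact PM.not_dvd_index
  obtain ⟨y, hy⟩ : ∃ y : G, y = (yM : G) := ⟨_, rfl⟩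
  have hxy' : IsConj x y := by
    obtain ⟨c, hc⟩ := isConj_iff.mp hxy
    refine isConj_iff.mpr ⟨(c : G), ?_⟩
    have h1 := congrArg Subtype.val hc
    rw [hy]
    simpa using h1
  have hyreal : IsConj y y⁻¹ := hxy'.symm.trans (hx.trans (isConj_inv_of_isConj hxy'))
  have hyR : ∀ r ∈ R, y * r * y⁻¹ ∈ R := by
    intro r hr
    rw [hR] at hr ⊢
    obtain ⟨r', hr', rfl⟩ := hr
    refine ⟨yM * r' * yM⁻¹, ?_, by rw [hy]; simp⟩
    exact (Subgroup.mem_normalizer_iff.mp hyM r').mp hr'
  have hLn := pGen_normal (G := G) p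
  by_cases hLM : pGen p G ≤ M
  · have hMidx : ¬ p ∣ M.index := by
      obtain ⟨P0⟩ : Nonempty (Sylow p G) := inferInstance
      have h1 : (P0 : Subgroup G) ≤ M :=
        (le_pGen_of_isPGroup (P0 : Subgroup G) P0.isPGroup').trans hLM
      exact fun h => P0.not_dvd_index (h.trans (Subgroup.index_dvd_of_le h1))
    have hRi : ¬ p ∣ R.index := by
      rw [← Subgroup.relIndex_mul_index hRM]
      intro h
      rcases (Nat.Prime.dvd_mul hp.out).mp h with h | h
      · exact hRidx h
      · exact hMidx h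
    refine ⟨hRp.toSylow hRi, y, ?_, hxy'⟩
    apply Subgroup.mem_normalizer_fintype
    intro r hr
    exact hyR r hr
  · have hML : M ⊔ pGen p G = ⊤ := by
      haveI := hLn
      rcases hmax (M ⊔ pGen p G) inferInstance le_sup_left with h | h
      · exfalso
        apply hLM
        rw [← h]
        exact le_sup_right
      · exact h
    obtain ⟨k, hk⟩ := index_eq_ppow_of_maximal p M hmax hsolv hML
    have hcardIrr : Nat.card (RealIrr M) ≤ Nat.card (RealIrr G) :=
      card_realIrr_le_of_ppow_index p M hodd k hk hreal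
    have hcardCl : Nat.card (RealCl M) ≤ Nat.card (RealCl G) := by
      rw [← card_realIrr_eq_card_realCl (G := ↥M), ← card_realIrr_eq_card_realCl (G := G)]
      exact hcardIrr
    have hfus : ∀ g : G, ∃ m ∈ M, g * y * g⁻¹ = m * y * m⁻¹ :=
      fun g => conj_in_of_card_le M hKM hcardCl hyreal g
    obtain ⟨P, hP⟩ := exists_sylow_normalized p M (pGen 2 G) Q R hQK hQp hQidx hRp hRidx y
      (real_mem_pGen_two hyreal) hyR hfus
    exact ⟨P, y, hP, hxy'⟩

end Cfsg.Agent.Lib.helper83.RealNorm
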