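import Mathlib
import Cfsg.Agent.Lib.helper83.RealNormB

/-!
# Group-theoretic lemmas for the real McKay correspondence

* `index_modEq_normalizer`: for a Sylow `p`-subgroup `P ≤ I`, `|G : I| ≡ |N_G(P) : N_I(P)|` mod `p`.
* `exists_normalizer_cconj`: `P`-invariant conjugates of a `P`-invariant function on a normal
  subgroup are conjugate under `N_G(P)`.
* `mem_inf_normalizer_iff`: for `K` normal with normal Sylow `p`-subgroup `Q`, `N_K(P)` is the
  subgroup of the `k ∈ K` with `[P, k] ⊆ Q`.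
-/

set_option autoImplicit false
set_option linter.unusedSectionVars false
set_option linter.style.haveILetI false

namespace Cfsg.Agent.Lib.helper83.RealMcKay

open Cfsg
open Cfsg.Agent.Lib Cfsg.Agent.Lib.helper83 Cfsg.Agent.Lib.helper79 Cfsg.Agent.Lib.helper82

universe u

variable {G : Type u} [Group G] [Finite G]

/-- For a Sylow `p`-subgroup `P` contained in `I`, the index of `I` is congruent mod `p` to the
index of `I ∩ N_G(P)` in `N_G(P)`. -/
theorem index_modEq_normalizer (p : ℕ) [hp : Fact p.Prime] (P : Sylow p G) (I : Subgroup G)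
    (hPI : (P : Subgroup G) ≤ I) :
    I.index ≡ I.relIndex (Subgroup.normalizer ((P : Subgroup G) : Set G)) [MOD p] := by
  obtain ⟨N, hN⟩ : ∃ N : Subgroup G, N = Subgroup.normalizer ((P : Subgroup G) : Set G) :=
    ⟨_, rfl⟩
  rw [← hN]
  obtain ⟨n, hn⟩ := IsPGroup.iff_card.mp P.isPGroup'
  have hPN : (P : Subgroup G) ≤ N := by
    rw [hN]
    exact Subgroup.le_normalizer
  -- first congruence, in `G`
  have h1 : (P : Subgroup G).relIndex N ≡ (P : Subgroup G).index [MOD p] := by
    have h := Sylow.card_quotient_normalizer_modEq_card_quotient (G := G) (p := p)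
      (H := (P : Subgroup G)) hn
    rw [hN]
    exact h
  -- second congruence, in `I`
  have h2 : (P : Subgroup G).relIndex (N ⊓ I) ≡ (P : Subgroup G).relIndex I [MOD p] := by
    have hcard : Nat.card ↥((P : Subgroup G).subgroupOf I) = p ^ n := by
      rw [Nat.card_congr (Subgroup.subgroupOfEquivOfLe hPI).toEquiv]
      exact hn
    have h := Sylow.card_quotient_normalizer_modEq_card_quotient (G := ↥I) (p := p)
      (H := (P : Subgroup G).subgroupOf I) hcard
    have h3 : ((P : Subgroup G).subgroupOf I).relIndex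
        (Subgroup.normalizer (((P : Subgroup G).subgroupOf I : Subgroup ↥I) : Set ↥I)) =
        (P : Subgroup G).relIndex (N ⊓ I) := by
      rw [← Subgroup.subgroupOf_normalizer_eq hPI, ← hN, ← Subgroup.inf_subgroupOf_right N I,
        Subgroup.relIndex_subgroupOf inf_le_right]
    rw [← h3]
    exact h
  have e1 : (P : Subgroup G).relIndex I * I.index = (P : Subgroup G).index :=
    Subgroup.relIndex_mul_index hPI
  have e2 : (P : Subgroup G).relIndex (N ⊓ I) * (N ⊓ I).relIndex N =
      (P : Subgroup G).relIndex N :=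
    Subgroup.relIndex_mul_relIndex _ _ _ (le_inf hPN hPI) inf_le_left
  have e3 : (N ⊓ I).relIndex N = I.relIndex N := Subgroup.inf_relIndex_left N I
  have hcop : Nat.gcd p ((P : Subgroup G).relIndex I) = 1 := by
    rw [← Nat.coprime_iff_gcd_eq_one, Nat.Prime.coprime_iff_not_dvd hp.out]
    intro hdvd
    apply P.not_dvd_index
    rw [← e1]
    exact Dvd.dvd.mul_right hdvd _
  have h4 : I.index * (P : Subgroup G).relIndex I ≡
      I.relIndex N * (P : Subgroup G).relIndex I [MOD p] := by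
    calc I.index * (P : Subgroup G).relIndex I = (P : Subgroup G).index := by
          rw [mul_comm]; exact e1
      _ ≡ (P : Subgroup G).relIndex N [MOD p] := h1.symm
      _ = (P : Subgroup G).relIndex (N ⊓ I) * I.relIndex N := by rw [← e2, e3]
      _ ≡ (P : Subgroup G).relIndex I * I.relIndex N [MOD p] := Nat.ModEq.mul_right _ h2
      _ = I.relIndex N * (P : Subgroup G).relIndex I := by ring
  exact Nat.ModEq.cancel_right_of_coprime hcop h4

/-- If `θ` and its conjugate `θ^g` are both invariant under the Sylow `p`-subgroup `P`, then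
`θ^g = θ^n` for some `n ∈ N_G(P)`. -/
theorem exists_normalizer_cconj (p : ℕ) [hp : Fact p.Prime] (K : Subgroup G) [hK : K.Normal]
    (P : Sylow p G) (θ : K → ℂ) (hθ : (P : Subgroup G) ≤ inertia K θ) (g : G)
    (hg : (P : Subgroup G) ≤ inertia K (cconj K g θ)) :
    ∃ n ∈ Subgroup.normalizer ((P : Subgroup G) : Set G), cconj K n θ = cconj K g θ := by
  obtain ⟨I, hI⟩ : ∃ I : Subgroup G, I = inertia K θ := ⟨_, rfl⟩
  have hPI : (P : Subgroup G) ≤ I := by rw [hI]; exact hθ
  have hP2 : ((g⁻¹ • P : Sylow p G) : Subgroup G) ≤ I := by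
    intro y hy
    rw [Sylow.coe_subgroup_smul, Subgroup.mem_pointwise_smul_iff_inv_smul_mem] at hy
    have hy' : g * y * g⁻¹ ∈ (P : Subgroup G) := by
      simpa [MulAut.smul_def] using hy
    have h1 := hg hy'
    rw [mem_inertia, ← cconj_mul, cconj_eq_cconj_iff] at h1
    have h2 : g⁻¹ * (g * y * g⁻¹ * g) = y := by group
    rw [h2] at h1
    rw [hI]
    exact h1
  obtain ⟨i, hi⟩ := MulAction.exists_smul_eq ↥I (P.subtype hPI) ((g⁻¹ • P).subtype hP2)
  rw [Sylow.smul_subtype hPI i] at hi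
  have hi2 : (i • P : Sylow p G) = g⁻¹ • P := Sylow.subtype_injective hi
  have hi3 : ((g * (i : G)) • P : Sylow p G) = P := by
    rw [mul_smul]
    have : ((i : G) • P : Sylow p G) = g⁻¹ • P := hi2
    rw [this, smul_inv_smul]
  have hn : g * (i : G) ∈ Subgroup.normalizer ((P : Subgroup G) : Set G) :=
    Sylow.smul_eq_iff_mem_normalizer.mp hi3
  refine ⟨g * (i : G), hn, ?_⟩
  rw [cconj_mul]
  have h3 : cconj K (i : G) θ = θ := by
    rw [← mem_inertia, ← hI]
    exact i.2
  rw [h3]

/-- For `K` normal with normal Sylow `p`-subgroup `Q` and `P` a Sylow `p`-subgroup of `G`: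
`K ∩ N_G(P)` consists of the `k ∈ K` with `[x, k] ∈ Q` for all `x ∈ P`. -/
theorem mem_inf_normalizer_iff (p : ℕ) [hp : Fact p.Prime] (K Q : Subgroup G) [hK : K.Normal]
    [hQ : Q.Normal] (hQK : Q ≤ K) (hQp : IsPGroup p Q) (hQidx : ¬ p ∣ Q.relIndex K)
    (P : Sylow p G) (k : G) :
    k ∈ K ⊓ Subgroup.normalizer ((P : Subgroup G) : Set G) ↔
      (k ∈ K ∧ ∀ x ∈ (P : Subgroup G), x * k * x⁻¹ * k⁻¹ ∈ Q) := by
  have hQP : Q ≤ (P : Subgroup G) := by
    have h1 : IsPGroup p ((P : Subgroup G) ⊔ Q : Subgroup G) :=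
      P.isPGroup'.to_sup_of_normal_right hQp
    have h2 := P.is_maximal' h1 le_sup_left
    exact le_sup_right.trans h2.le
  constructor
  · rintro ⟨hkK, hkN⟩
    refine ⟨hkK, fun x hx => ?_⟩
    have h1 : x * k * x⁻¹ * k⁻¹ ∈ (P : Subgroup G) := by
      have h2 : x * k * x⁻¹ * k⁻¹ = x * (k * x⁻¹ * k⁻¹) := by group
      rw [h2]
      exact (P : Subgroup G).mul_mem hx
        ((Subgroup.mem_normalizer_iff.mp hkN x⁻¹).mp ((P : Subgroup G).inv_mem hx))
    have h3 : x * k * x⁻¹ * k⁻¹ ∈ K := K.mul_mem (hK.conj_mem k hkK x) (K.inv_mem hkK)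
    exact RealNorm.le_of_isPGroup_of_relIndex p Q K ((P : Subgroup G) ⊓ K) hQK hQp hQidx
      inf_le_right (P.isPGroup'.to_le inf_le_left) ⟨h1, h3⟩
  · rintro ⟨hkK, h⟩
    refine ⟨hkK, ?_⟩
    apply Subgroup.mem_normalizer_fintype
    intro n hn
    have h1 := h n⁻¹ ((P : Subgroup G).inv_mem hn)
    rw [inv_inv] at h1
    have h2 : k * n * k⁻¹ = n * (n⁻¹ * k * n * k⁻¹) := by group
    show k * n * k⁻¹ ∈ (P : Subgroup G)
    rw [h2]
    exact (P : Subgroup G).mul_mem hn (hQP h1)

end Cfsg.Agent.Lib.helper83.RealMcKay
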