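import Mathlib
import Cfsg.Agent.Lib.helper24.SfoDefs

/-!
# S5981, piece ODET: the determinant of an isometry of a nondegenerate quadratic form squares to 1
-/

set_option autoImplicit false
set_option linter.unusedVariables false
set_option linter.style.longLine false

namespace Cfsg.Agent.Lib.helper24

open Module Matrix Cfsg.Geo

theorem h83_sfo_polar_isom {F : Type*} [Field F] {n : ℕ} (Q : (Fin n → F) → F)
    (g : Matrix (Fin n) (Fin n) F) (hg : ∀ v, Q (g *ᵥ v) = Q v) (u v : Fin n → F) :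
    QuadraticMap.polar Q (g *ᵥ u) (g *ᵥ v) = QuadraticMap.polar Q u v := by
  unfold QuadraticMap.polar
  rw [← Matrix.mulVec_add, hg, hg, hg]

/-- ODET -/
theorem sfo_det_sq {F : Type*} [Field F] {n : ℕ} (h2 : (2 : F) ≠ 0) (Q : (Fin n → F) → F)
    (hQ : IsNondegenerateQuadraticForm Q) (g : GL (Fin n) F) (hg : g ∈ sfoIsom Q) :
    (g : Matrix (Fin n) (Fin n) F).det ^ 2 = 1 := by
  classical
  have hB := hQ.polar_bilinear
  obtain ⟨B₀, hB₀⟩ : ∃ B₀ : (Fin n → F) →ₗ[F] (Fin n → F) →ₗ[F] F,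
      ∀ u v, B₀ u v = QuadraticMap.polar Q u v :=
    ⟨LinearMap.mk₂ F (QuadraticMap.polar Q) hB.add_left (fun c x v => hB.smul_left c x v)
      hB.add_right (fun c v x => hB.smul_right c v x), fun u v => rfl⟩
  obtain ⟨M, hM⟩ : ∃ M : Matrix (Fin n) (Fin n) F, M = LinearMap.toMatrix₂' F B₀ := ⟨_, rfl⟩
  have hdet : M.det ≠ 0 := by
    intro h0
    obtain ⟨v, hv, hMv⟩ := Matrix.exists_mulVec_eq_zero_iff.2 h0
    obtain ⟨x, hx⟩ := (hQ.nondegenerate v hv).1
    apply hx
    rw [← hB₀, ← Matrix.toLinearMap₂'_toMatrix' (R := F) B₀, ← hM, Matrix.toLinearMap₂'_apply',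
      hMv, dotProduct_zero]
  have hcomp : B₀.compl₁₂ (Matrix.toLin' (g : Matrix (Fin n) (Fin n) F))
      (Matrix.toLin' (g : Matrix (Fin n) (Fin n) F)) = B₀ := by
    refine LinearMap.ext₂ (fun u v => ?_)
    rw [LinearMap.compl₁₂_apply, Matrix.toLin'_apply, Matrix.toLin'_apply, hB₀, hB₀]
    exact h83_sfo_polar_isom Q _ hg u v
  have hmat : (g : Matrix (Fin n) (Fin n) F)ᵀ * M * (g : Matrix (Fin n) (Fin n) F) = M := by
    have h := LinearMap.toMatrix₂'_compl₁₂ B₀ (Matrix.toLin' (g : Matrix (Fin n) (Fin n) F))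
      (Matrix.toLin' (g : Matrix (Fin n) (Fin n) F))
    rw [hcomp, LinearMap.toMatrix'_toLin', ← hM] at h
    exact h.symm
  have hd := congrArg Matrix.det hmat
  rw [Matrix.det_mul, Matrix.det_mul, Matrix.det_transpose] at hd
  have h0 : ((g : Matrix (Fin n) (Fin n) F).det ^ 2 - 1) * M.det = 0 := by
    linear_combination hd
  rcases mul_eq_zero.1 h0 with h | h
  · exact sub_eq_zero.1 h
  · exact absurd h hdet

end Cfsg.Agent.Lib.helper24
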