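import Mathlib

set_option autoImplicit false
set_option linter.unusedSectionVars false
set_option linter.style.haveILetI false
set_option linter.unusedVariables false

namespace Cfsg.Agent.Lib.helper83.Hup

/-- One step: centraliser of `a` in `K` has index `r`. -/
theorem idx_step {G : Type*} [Group G] [Finite G] (r : ℕ) (hr : r.Prime)
    (M N : Subgroup G) (hMcyc : IsCyclic M)
    (hcent : ∀ g ∈ N, ∀ z ∈ M, g * z = z * g)
    (hcomm : ∀ g ∈ N, ∀ h ∈ N, g * h * g⁻¹ * h⁻¹ ∈ M)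
    (hexp : ∀ g ∈ N, g ^ r ∈ M)
    (K : Subgroup G) (hK : K ≤ N) (a : G) (ha : a ∈ N) (b : G) (hb : b ∈ K)
    (hab : a * b ≠ b * a) :
    ∃ K' : Subgroup G, (∀ y, y ∈ K' ↔ y ∈ K ∧ a * y = y * a) ∧
      Nat.card K = r * Nat.card K' ∧ ∀ y ∈ K, ∃ k : ℤ, (b ^ k)⁻¹ * y ∈ K' := by
  haveI : Fact r.Prime := ⟨hr⟩
  let f : K →* M :=
    { toFun := fun y => ⟨a * y * a⁻¹ * (y:G)⁻¹, hcomm a ha y (hK y.2)⟩
      map_one' := by ext; simp
      map_mul' := fun y₁ y₂ => by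
        ext
        simp only [Subgroup.coe_mul]
        have h1 := hcent (y₁:G)⁻¹ (N.inv_mem (hK y₁.2)) _ (hcomm a ha y₂ (hK y₂.2))
        calc a * ((y₁:G) * y₂) * a⁻¹ * ((y₁:G) * y₂)⁻¹
            = a * y₁ * a⁻¹ * ((a * y₂ * a⁻¹ * (y₂:G)⁻¹) * (y₁:G)⁻¹) := by group
          _ = a * y₁ * a⁻¹ * ((y₁:G)⁻¹ * (a * y₂ * a⁻¹ * (y₂:G)⁻¹)) := by rw [h1]
          _ = _ := by group }
  have hfval : ∀ y : K, ((f y : M) : G) = a * y * a⁻¹ * (y:G)⁻¹ := fun y => rfl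
  have hf1 : ∀ y : K, f y = 1 ↔ a * (y:G) = y * a := by
    intro y
    constructor
    · intro h
      have h2 : a * y * a⁻¹ * (y:G)⁻¹ = 1 := by rw [← hfval, h]; rfl
      have h3 : a * (y:G) = (a * y * a⁻¹ * (y:G)⁻¹) * (y * a) := by group
      rw [h3, h2, one_mul]
    · intro h
      apply Subtype.ext
      rw [hfval, h]
      simp
  have hfr : ∀ y : K, (f y) ^ r = 1 := by
    intro y
    rw [← map_pow, hf1]
    have := hcent a ha ((y:G) ^ r) (hexp y (hK y.2))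
    simpa using this
  have hfb : f ⟨b, hb⟩ ≠ 1 := by
    intro h
    exact hab ((hf1 _).mp h)
  have hord : orderOf (f ⟨b, hb⟩) = r := orderOf_eq_prime (hfr _) hfb
  have hrange : f.range = Subgroup.zpowers (f ⟨b, hb⟩) := by
    symm
    apply Subgroup.eq_of_le_of_card_ge
    · rw [Subgroup.zpowers_le]; exact ⟨_, rfl⟩
    · rw [Nat.card_zpowers, hord]
      haveI : IsCyclic f.range := Subgroup.isCyclic _
      have h1 : Monoid.exponent f.range ∣ r := by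
        apply Monoid.exponent_dvd_of_forall_pow_eq_one
        rintro ⟨w, y, rfl⟩
        apply Subtype.ext
        simp only [SubmonoidClass.coe_pow, OneMemClass.coe_one]
        exact hfr y
      rw [IsCyclic.exponent_eq_card] at h1
      exact Nat.le_of_dvd hr.pos h1
  have hcr : Nat.card f.range = r := by rw [hrange, Nat.card_zpowers, hord]
  refine ⟨f.ker.map K.subtype, ?_, ?_, ?_⟩
  · intro y
    constructor
    · rintro ⟨x, hx, rfl⟩
      exact ⟨x.2, (hf1 x).mp (MonoidHom.mem_ker.mp hx)⟩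
    · rintro ⟨hy, hay⟩
      exact ⟨⟨y, hy⟩, MonoidHom.mem_ker.mpr ((hf1 _).mpr hay), rfl⟩
  · rw [Subgroup.card_map_of_injective K.subtype_injective, ← Subgroup.card_mul_index f.ker,
      Subgroup.index_ker, hcr, mul_comm]
  · intro y hy
    have hy2 : f ⟨y, hy⟩ ∈ Subgroup.zpowers (f ⟨b, hb⟩) := by
      rw [← hrange]; exact ⟨_, rfl⟩
    obtain ⟨k, hk⟩ := Subgroup.mem_zpowers_iff.mp hy2
    refine ⟨k, ⟨(⟨b, hb⟩ ^ k)⁻¹ * ⟨y, hy⟩, ?_, ?_⟩⟩
    · show (⟨b, hb⟩ ^ k)⁻¹ * ⟨y, hy⟩ ∈ f.ker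
      rw [MonoidHom.mem_ker, map_mul, map_inv, map_zpow, hk, inv_mul_cancel]
    · simp

theorem card_eq_mul_sq {G : Type*} [Group G] [Finite G] (r : ℕ) (hr : r.Prime)
    (M N : Subgroup G) (hMN : M ≤ N) (hMcyc : IsCyclic M)
    (hcent : ∀ g ∈ N, ∀ z ∈ M, g * z = z * g)
    (hcomm : ∀ g ∈ N, ∀ h ∈ N, g * h * g⁻¹ * h⁻¹ ∈ M)
    (hexp : ∀ g ∈ N, g ^ r ∈ M)
    (hZ : ∀ g ∈ N, (∀ h ∈ N, g * h = h * g) → g ∈ M) :
    ∃ m : ℕ, Nat.card N = Nat.card M * r ^ (2 * m) := by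
  obtain ⟨n, hn⟩ : ∃ n, Nat.card N = n := ⟨_, rfl⟩
  induction n using Nat.strong_induction_on generalizing N with
  | _ n ih =>
    by_cases hNM : N ≤ M
    · have hNeq : N = M := le_antisymm hNM hMN
      exact ⟨0, by rw [hNeq]; simp⟩
    · obtain ⟨g, hgN, hgM⟩ := SetLike.not_le_iff_exists.mp hNM
      have hex : ∃ h ∈ N, g * h ≠ h * g := by
        by_contra hcon
        push Not at hcon
        exact hgM (hZ g hgN hcon)
      obtain ⟨h, hhN, hgh⟩ := hex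
      obtain ⟨N₀, hN₀mem, hN₀card, hN₀dec⟩ :=
        idx_step r hr M N hMcyc hcent hcomm hexp N le_rfl g hgN h hhN hgh
      have hN₀le : N₀ ≤ N := fun y hy => ((hN₀mem y).mp hy).1
      have hgN₀ : g ∈ N₀ := (hN₀mem g).mpr ⟨hgN, rfl⟩
      obtain ⟨N₁, hN₁mem, hN₁card, hN₁dec⟩ :=
        idx_step r hr M N hMcyc hcent hcomm hexp N₀ hN₀le h hhN g hgN₀ (fun e => hgh e.symm)
      have hN₁le : N₁ ≤ N := fun y hy => hN₀le ((hN₁mem y).mp hy).1
      have hMN₁ : M ≤ N₁ := fun z hz =>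
        (hN₁mem z).mpr ⟨(hN₀mem z).mpr ⟨hMN hz, hcent g hgN z hz⟩, hcent h hhN z hz⟩
      have hcard : Nat.card N = r ^ 2 * Nat.card N₁ := by rw [hN₀card, hN₁card]; ring
      have hlt : Nat.card N₁ < n := by
        rw [← hn, hcard]
        have h1 : 0 < Nat.card N₁ := Nat.card_pos
        have h2 : 2 ≤ r := hr.two_le
        nlinarith
      have hZ₁ : ∀ y ∈ N₁, (∀ x ∈ N₁, y * x = x * y) → y ∈ M := by
        intro y hy hyc
        apply hZ y (hN₁le hy)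
        intro x hx
        obtain ⟨k, hk⟩ := hN₀dec x hx
        obtain ⟨l, hl⟩ := hN₁dec _ hk
        have hy1 := (hN₁mem y).mp hy
        have hy0 := (hN₀mem y).mp hy1.1
        have c1 : Commute y h := hy1.2.symm
        have c2 : Commute y g := hy0.2.symm
        have c3 : Commute y ((g ^ l)⁻¹ * ((h ^ k)⁻¹ * x)) := hyc _ hl
        have e : x = h ^ k * (g ^ l * ((g ^ l)⁻¹ * ((h ^ k)⁻¹ * x))) := by group
        have hfin : Commute y x := by
          rw [e]; exact (c1.zpow_right k).mul_right ((c2.zpow_right l).mul_right c3)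
        exact hfin
      obtain ⟨m, hm⟩ := ih (Nat.card N₁) hlt N₁ hMN₁ (fun g hg => hcent g (hN₁le hg))
        (fun g hg h hh => hcomm g (hN₁le hg) h (hN₁le hh)) (fun g hg => hexp g (hN₁le hg)) hZ₁ rfl
      exact ⟨m + 1, by rw [hcard, hm]; ring⟩

end Cfsg.Agent.Lib.helper83.Hup
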