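import Mathlib
import Cfsg.Agent.Lib.helper26.S4409Defs
import Cfsg.Agent.Lib.helper59.PairOrderP

/-!
S4409 split (helper26): racer copy of the piece KFN1 (prefixed name).
-/

set_option autoImplicit false
set_option linter.unusedVariables false
set_option linter.unusedSectionVars false
set_option linter.style.longLine false

namespace Cfsg.Agent.Lib.helper26.S4409

theorem h83_kfn1 {P : Type*} [Group P] [Finite P] (hP : IsPGroup 2 P)
    (hN : ∀ A : Subgroup P, IsMulCommutative ↥A → Nat.card ↥A = 8 → IsCyclic ↥A)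
    (t z : P) (ht : orderOf t = 2) (hz : orderOf z = 2) (hzc : z ∈ Subgroup.center P)
    (htz : t ∉ Subgroup.zpowers z) : Nat.card ↥(Subgroup.centralizer ({t} : Set P)) = 4 := by
  haveI : Fact (Nat.Prime 2) := ⟨Nat.prime_two⟩
  have htzc : t * z = z * t := Subgroup.mem_center_iff.mp hzc t
  obtain ⟨B, hB4, hBc, hBe, htB, hzB⟩ :=
    Cfsg.Agent.Lib.helper59.exists_rank_two_of_commuting ht hz htzc htz
  -- every element of `B` is central in `C(t)`
  have hBcent : ∀ x ∈ B, ∀ c ∈ Subgroup.centralizer ({t} : Set P), c * x = x * c := by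
    have hZ' : B ⊓ Subgroup.centralizer ((Subgroup.centralizer ({t} : Set P) : Subgroup P) : Set P) = B := by
      have hle : B ⊓ Subgroup.centralizer ((Subgroup.centralizer ({t} : Set P) : Subgroup P) : Set P) ≤ B :=
        inf_le_left
      refine Subgroup.eq_of_le_of_card_ge hle ?_
      have hzin : z ∈ B ⊓ Subgroup.centralizer ((Subgroup.centralizer ({t} : Set P) : Subgroup P) : Set P) := by
        refine Subgroup.mem_inf.mpr ⟨hzB, ?_⟩
        rw [Subgroup.mem_centralizer_iff]
        intro c _
        exact Subgroup.mem_center_iff.mp hzc c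
      have htin : t ∈ B ⊓ Subgroup.centralizer ((Subgroup.centralizer ({t} : Set P) : Subgroup P) : Set P) := by
        refine Subgroup.mem_inf.mpr ⟨htB, ?_⟩
        rw [Subgroup.mem_centralizer_iff]
        intro c hc
        exact (Subgroup.mem_centralizer_singleton_iff.mp hc)
      have hzle : Subgroup.zpowers z ≤
          B ⊓ Subgroup.centralizer ((Subgroup.centralizer ({t} : Set P) : Subgroup P) : Set P) := by
        rw [Subgroup.zpowers_le]; exact hzin
      have hd1 : Nat.card ↥(B ⊓ Subgroup.centralizer ((Subgroup.centralizer ({t} : Set P) : Subgroup P) : Set P)) ∣ 4 := by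
        have := Subgroup.card_dvd_of_le hle
        rw [hB4] at this
        exact this
      have hd2 : 2 ∣ Nat.card ↥(B ⊓ Subgroup.centralizer ((Subgroup.centralizer ({t} : Set P) : Subgroup P) : Set P)) := by
        have := Subgroup.card_dvd_of_le hzle
        rw [Nat.card_zpowers, hz] at this
        exact this
      have hne2 : Nat.card ↥(B ⊓ Subgroup.centralizer ((Subgroup.centralizer ({t} : Set P) : Subgroup P) : Set P)) ≠ 2 := by
        intro h2
        have := Subgroup.eq_of_le_of_card_ge hzle (by rw [Nat.card_zpowers, hz, h2])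
        exact htz (this ▸ htin)
      have hpos : 0 < Nat.card ↥(B ⊓ Subgroup.centralizer ((Subgroup.centralizer ({t} : Set P) : Subgroup P) : Set P)) :=
        Nat.card_pos
      rw [hB4]
      have hle4 := Nat.le_of_dvd (by norm_num) hd1
      obtain ⟨m, hm⟩ := hd2
      obtain ⟨n, hn⟩ := hd1
      have : m = 2 := by
        have h1 : m ≤ 2 := by omega
        have h2 : m ≠ 1 := by omega
        have h0 : m ≠ 0 := by omega
        omega
      omega
    intro x hx c hc
    have hx' : x ∈ B ⊓ Subgroup.centralizer ((Subgroup.centralizer ({t} : Set P) : Subgroup P) : Set P) := by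
      rw [hZ']; exact hx
    exact Subgroup.mem_centralizer_iff.mp (Subgroup.mem_inf.mp hx').2 c hc
  have hBC : B ≤ Subgroup.centralizer ({t} : Set P) := by
    intro x hx
    rw [Subgroup.mem_centralizer_singleton_iff]
    exact hBc x hx t htB
  obtain ⟨k, hk⟩ := IsPGroup.iff_card.mp (hP.to_subgroup (Subgroup.centralizer ({t} : Set P)))
  have h4 : 4 ∣ Nat.card ↥(Subgroup.centralizer ({t} : Set P)) := by
    have := Subgroup.card_dvd_of_le hBC
    rw [hB4] at this
    exact this
  by_contra hne
  have hk3 : 3 ≤ k := by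
    rw [hk] at h4 hne
    by_contra hk3
    have hk' : k = 0 ∨ k = 1 ∨ k = 2 := by omega
    rcases hk' with rfl | rfl | rfl
    · norm_num at h4
    · norm_num at h4
    · exact hne (by norm_num)
  have h8 : 2 ^ (2 + 1) ∣ Nat.card ↥(Subgroup.centralizer ({t} : Set P)) := by
    rw [hk]; exact pow_dvd_pow 2 hk3
  have hB' : Nat.card ↥(B.subgroupOf (Subgroup.centralizer ({t} : Set P))) = 2 ^ 2 := by
    rw [Nat.card_congr (Subgroup.subgroupOfEquivOfLe hBC).toEquiv]; exact hB4
  obtain ⟨K, hK8, hBK⟩ := Sylow.exists_subgroup_card_pow_succ h8 hB'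
  have hD4 : Nat.card ↥((B.subgroupOf (Subgroup.centralizer ({t} : Set P))).subgroupOf K) = 4 := by
    rw [Nat.card_congr (Subgroup.subgroupOfEquivOfLe hBK).toEquiv, hB']; norm_num
  have hidx : ((B.subgroupOf (Subgroup.centralizer ({t} : Set P))).subgroupOf K).index = 2 := by
    have := Subgroup.card_mul_index ((B.subgroupOf (Subgroup.centralizer ({t} : Set P))).subgroupOf K)
    rw [hD4, hK8] at this
    omega
  have hmemD : ∀ x : ↥K, x ∈ (B.subgroupOf (Subgroup.centralizer ({t} : Set P))).subgroupOf K ↔
      ((x : ↥(Subgroup.centralizer ({t} : Set P))) : P) ∈ B := by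
    intro x
    rw [Subgroup.mem_subgroupOf, Subgroup.mem_subgroupOf]
  have hKcomm : ∀ x y : ↥K, x * y = y * x := by
    intro x y
    have hxC : ((x : ↥(Subgroup.centralizer ({t} : Set P))) : P) ∈ Subgroup.centralizer ({t} : Set P) :=
      (x : ↥(Subgroup.centralizer ({t} : Set P))).2
    have hyC : ((y : ↥(Subgroup.centralizer ({t} : Set P))) : P) ∈ Subgroup.centralizer ({t} : Set P) :=
      (y : ↥(Subgroup.centralizer ({t} : Set P))).2
    apply Subtype.ext
    apply Subtype.ext
    show ((x : ↥(Subgroup.centralizer ({t} : Set P))) : P) * ((y : ↥(Subgroup.centralizer ({t} : Set P))) : P)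
      = ((y : ↥(Subgroup.centralizer ({t} : Set P))) : P) * ((x : ↥(Subgroup.centralizer ({t} : Set P))) : P)
    by_cases hx : x ∈ (B.subgroupOf (Subgroup.centralizer ({t} : Set P))).subgroupOf K
    · exact (hBcent _ ((hmemD x).mp hx) _ hyC).symm
    · by_cases hy : y ∈ (B.subgroupOf (Subgroup.centralizer ({t} : Set P))).subgroupOf K
      · exact hBcent _ ((hmemD y).mp hy) _ hxC
      · have hv : x⁻¹ * y ∈ (B.subgroupOf (Subgroup.centralizer ({t} : Set P))).subgroupOf K := by
          rw [Subgroup.mul_mem_iff_of_index_two hidx, inv_mem_iff]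
          exact ⟨fun h => absurd h hx, fun h => absurd h hy⟩
        have hvB := (hmemD _).mp hv
        have hcomm := hBcent _ hvB _ hxC
        simp only [Subgroup.coe_mul, Subgroup.coe_inv] at hcomm hvB
        -- hcomm : x * (x⁻¹ * y) = x⁻¹ * y * x
        have h1 : ((x : ↥(Subgroup.centralizer ({t} : Set P))) : P) * ((y : ↥(Subgroup.centralizer ({t} : Set P))) : P)
            = ((x : ↥(Subgroup.centralizer ({t} : Set P))) : P) *
              (((x : ↥(Subgroup.centralizer ({t} : Set P))) : P) *
                ((((x : ↥(Subgroup.centralizer ({t} : Set P))) : P))⁻¹ * ((y : ↥(Subgroup.centralizer ({t} : Set P))) : P))) := by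
          group
        rw [h1, hcomm]
        group
  -- transport to a subgroup of `P`
  have e : ↥K ≃* ↥(K.map (Subgroup.centralizer ({t} : Set P)).subtype) :=
    K.equivMapOfInjective _ (Subgroup.subtype_injective _)
  have hWcomm : IsMulCommutative ↥(K.map (Subgroup.centralizer ({t} : Set P)).subtype) := by
    refine ⟨⟨fun a b => ?_⟩⟩
    have h := hKcomm (e.symm a) (e.symm b)
    have h' := congrArg e h
    simpa using h'
  have hW8 : Nat.card ↥(K.map (Subgroup.centralizer ({t} : Set P)).subtype) = 8 := by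
    rw [← Nat.card_congr e.toEquiv, hK8]; norm_num
  have hBW : B ≤ K.map (Subgroup.centralizer ({t} : Set P)).subtype := by
    intro x hx
    refine ⟨⟨x, hBC hx⟩, ?_, rfl⟩
    exact hBK (Subgroup.mem_subgroupOf.mpr hx)
  haveI := hN _ hWcomm hW8
  exact Cfsg.Agent.Lib.helper59.not_isCyclic_of_card_sq_of_exp B hB4 hBe (Subgroup.isCyclic_of_le hBW)

end Cfsg.Agent.Lib.helper26.S4409
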