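import Mathlib
import Cfsg.Agent.Lib.helper26.S4409Defs
import Cfsg.Agent.Lib.helper59.PairOrderP
import Cfsg.Agent.S3224
import Cfsg.Agent.S3116

/-!
S4409 split (helper26), piece KFN: core assembly, with the pieces KFN1-5 taken as hypotheses.
-/

set_option autoImplicit false
set_option linter.unusedVariables false
set_option linter.unusedSectionVars false
set_option linter.style.longLine false

namespace Cfsg.Agent.Lib.helper26.S4409

variable {G : Type*} [Group G]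

theorem h83_kfn_core [Finite G] (Y : Subgroup G) (hY : IsPGroup 2 ↥Y) (hN : NoP Y)
    (hU : ¬ Cfsg.Agent.Lib.helper59.UniqueOrderP 2 ↥Y) (g : G)
    (hg : g ∈ Subgroup.normalizer (Y : Set G)) (hodd : Odd (orderOf g))
    (hnc : g ∉ Subgroup.centralizer (Y : Set G))
    (k1 : (∀ A : Subgroup ↥Y, IsMulCommutative ↥A → Nat.card ↥A = 8 → IsCyclic ↥A) →
      ∀ t z : ↥Y, orderOf t = 2 → orderOf z = 2 → z ∈ Subgroup.center ↥Y →
        t ∉ Subgroup.zpowers z → Nat.card ↥(Subgroup.centralizer ({t} : Set ↥Y)) = 4)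
    (k2 : ∀ n : ℕ, Nonempty (↥Y ≃* DihedralGroup n) → 4 < Nat.card ↥Y → 4 ≤ n)
    (k3 : IsPGroup 2 (MulAut ↥Y) → g ∈ Subgroup.centralizer (Y : Set G))
    (k4 : ∀ A : Subgroup ↥Y, IsMulCommutative ↥A → Nat.card ↥A = 8 → IsCyclic ↥A)
    (k5 : ∀ t z : ↥Y, orderOf t = 2 → orderOf z = 2 → z ∈ Subgroup.center ↥Y →
      t ∉ Subgroup.zpowers z → Nat.card ↥Y = 4 → ∀ y : ↥Y, y * y = 1) : IsV4 Y := by
  haveI : Fact (Nat.Prime 2) := ⟨Nat.prime_two⟩
  obtain ⟨t, z, ht, hz, hzc, htz⟩ :=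
    Cfsg.Agent.Lib.helper59.exists_commuting_pair_of_not_uniqueOrderP hY hU
  have hC : Nat.card ↥(Subgroup.centralizer ({t} : Set ↥Y)) = 4 := k1 k4 t z ht hz hzc htz
  have hfour : Nat.card ↥Y = 4 → IsV4 Y := by
    intro h4
    refine ⟨h4, ?_⟩
    intro y hy
    have h := k5 t z ht hz hzc htz h4 ⟨y, hy⟩
    exact congrArg Subtype.val h
  have hdvd : 4 ∣ Nat.card ↥Y := by
    rw [← hC]; exact Subgroup.card_subgroup_dvd_card _
  have hpos : 0 < Nat.card ↥Y := Nat.card_pos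
  by_cases h4 : Nat.card ↥Y = 4
  · exact hfour h4
  · have hgt : 4 < Nat.card ↥Y := by
      have := Nat.le_of_dvd hpos hdvd
      omega
    exfalso
    rcases Cfsg.Agent.S3224.result hY t ht hC with ⟨n, e⟩ | hQ | h4'
    · exact hnc (k3 (Cfsg.Agent.S3116.result hY (Or.inl ⟨n, k2 n e hgt, e⟩)))
    · exact hnc (k3 (Cfsg.Agent.S3116.result hY (Or.inr hQ)))
    · exact h4 h4'

end Cfsg.Agent.Lib.helper26.S4409
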