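import Mathlib
import Cfsg.Agent.Lib.helper26.S4409Defs
import Cfsg.Agent.Lib.helper83.S4409_KFNCore
import Cfsg.Agent.Lib.helper83.S4409_KFN1
import Cfsg.Agent.Lib.helper33.S4409_KFN2
import Cfsg.Agent.Lib.helper58.S4409_KFN3
import Cfsg.Agent.Lib.helper16.S4409_KFN4
import Cfsg.Agent.Lib.helper33.S4409_KFN5

/-!
S4409 split (helper26), piece KFN: assembly of KFN1-5 with the landed S3224 and S3116.
-/

set_option autoImplicit false
set_option linter.unusedVariables false
set_option linter.unusedSectionVars false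
set_option linter.style.longLine false

namespace Cfsg.Agent.Lib.helper26.S4409

variable {G : Type*} [Group G]

theorem kfn [Finite G] (Y : Subgroup G) (hY : IsPGroup 2 ↥Y) (hN : NoP Y)
    (hU : ¬ Cfsg.Agent.Lib.helper59.UniqueOrderP 2 ↥Y) (g : G)
    (hg : g ∈ Subgroup.normalizer (Y : Set G)) (hodd : Odd (orderOf g))
    (hnc : g ∉ Subgroup.centralizer (Y : Set G)) : IsV4 Y :=
  h83_kfn_core Y hY hN hU g hg hodd hnc
    (fun hA t z ht hz hzc htz => h83_kfn1 hY hA t z ht hz hzc htz)
    (fun n e h => kfn2 hY n e h)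
    (fun h2 => kfn3 Y h2 g hg hodd)
    (kfn4 Y hN)
    (fun t z ht hz hzc htz h4 => kfn5 t z ht hz hzc htz h4)

end Cfsg.Agent.Lib.helper26.S4409
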