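import Mathlib
import Cfsg.Agent.Lib.helper69.SNDefs

set_option autoImplicit false
set_option linter.unusedVariables false
set_option linter.unusedSimpArgs false
set_option linter.style.longLine false
set_option linter.unusedSectionVars false
set_option linter.style.haveILetI false

open Cfsg.Agent.Lib.helper69.SNG

namespace Cfsg.Agent.Lib.helper83.SNG

universe u

/-- The `m`-torsion of an abelian subgroup. -/
def h83_tors {C : Type u} [Group C] (K : Subgroup C) (hK : ∀ a ∈ K, ∀ b ∈ K, a * b = b * a)
    (m : ℕ) : Subgroup C where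
  carrier := {a | a ∈ K ∧ a ^ m = 1}
  one_mem' := ⟨K.one_mem, one_pow m⟩
  mul_mem' := by
    rintro a b ⟨ha, ha'⟩ ⟨hb, hb'⟩
    refine ⟨K.mul_mem ha hb, ?_⟩
    have hc : Commute a b := hK a ha b hb
    rw [hc.mul_pow, ha', hb', one_mul]
  inv_mem' := by
    rintro a ⟨ha, ha'⟩
    exact ⟨K.inv_mem ha, by rw [inv_pow, ha', inv_one]⟩

theorem h83_mem_tors {C : Type u} [Group C] (K : Subgroup C)
    (hK : ∀ a ∈ K, ∀ b ∈ K, a * b = b * a) (m : ℕ) (a : C) :
    a ∈ h83_tors K hK m ↔ a ∈ K ∧ a ^ m = 1 := Iff.rfl

theorem h83_tors_normal {C : Type u} [Group C] (K : Subgroup C) [hKn : K.Normal]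
    (hK : ∀ a ∈ K, ∀ b ∈ K, a * b = b * a) (m : ℕ) : (h83_tors K hK m).Normal := by
  refine ⟨fun a ha g => ?_⟩
  rw [h83_mem_tors] at ha ⊢
  refine ⟨hKn.conj_mem a ha.1 g, ?_⟩
  rw [conj_pow, ha.2, mul_one, mul_inv_cancel]

/-- Core of E2-ABS, with an arbitrary homomorphism in place of the transfer. -/
theorem h83_sn_core {C : Type u} [Group C] [Finite C] (h : SN C) (S : Sylow 2 C)
    (hS : IsMulCommutative S) (hcyc : ¬ IsCyclic S) {T : Type*} [Group T] (V : C →* T)
    (hT : ∀ x : T, x ^ Nat.card S = 1) (t : C) (hVt : V t ≠ 1) : IsMulCommutative C := by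
  haveI : Fact (Nat.Prime 2) := ⟨Nat.prime_two⟩
  have hSc : ∀ a ∈ (S : Subgroup C), ∀ b ∈ (S : Subgroup C), a * b = b * a :=
    (comm_iff (S : Subgroup C)).mp hS
  -- the kernel is a proper normal subgroup, hence abelian
  have hKtop : V.ker ≠ ⊤ := by
    intro e
    apply hVt
    have : t ∈ V.ker := by rw [e]; exact Subgroup.mem_top t
    exact MonoidHom.mem_ker.mp this
  have hKc : IsMulCommutative V.ker := h.normal_comm V.ker hKtop
  have hKc' : ∀ a ∈ V.ker, ∀ b ∈ V.ker, a * b = b * a := (comm_iff V.ker).mp hKc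
  -- the odd part
  have hm : ¬ 2 ∣ (S : Subgroup C).index := S.not_dvd_index
  obtain ⟨k, hk⟩ : ∃ k, Nat.card S = 2 ^ k := IsPGroup.iff_card.mp S.isPGroup'
  have hcop : Nat.Coprime (2 ^ k) (S : Subgroup C).index :=
    Nat.Coprime.pow_left k ((Nat.Prime.coprime_iff_not_dvd Nat.prime_two).mpr hm)
  haveI hOn : (h83_tors V.ker hKc' (S : Subgroup C).index).Normal :=
    h83_tors_normal V.ker hKc' _
  -- step 3: powers land in the odd part
  have hpow : ∀ g : C, g ^ Nat.card S ∈ h83_tors V.ker hKc' (S : Subgroup C).index := by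
    intro g
    rw [h83_mem_tors]
    constructor
    · rw [MonoidHom.mem_ker, map_pow]
      exact hT (V g)
    · rw [← pow_mul]
      have : Nat.card S * (S : Subgroup C).index = Nat.card C :=
        Subgroup.card_mul_index (S : Subgroup C)
      rw [this]
      exact pow_card_eq_one'
  -- step 4: the odd part meets S trivially
  have hOS : ∀ a ∈ h83_tors V.ker hKc' (S : Subgroup C).index, a ∈ (S : Subgroup C) → a = 1 := by
    intro a ha haS
    rw [h83_mem_tors] at ha
    have h1 : a ^ Nat.card S = 1 := by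
      have : (⟨a, haS⟩ : (S : Subgroup C)) ^ Nat.card S = 1 := pow_card_eq_one'
      exact congrArg Subtype.val this
    rw [hk] at h1
    have h2 : a ^ Nat.gcd (2 ^ k) (S : Subgroup C).index = 1 := pow_gcd_eq_one.mpr ⟨h1, ha.2⟩
    have h3 : Nat.gcd (2 ^ k) (S : Subgroup C).index = 1 := hcop
    rw [h3, pow_one] at h2
    exact h2
  -- step 5: the quotient by the odd part is a 2-group, so O ⊔ S = ⊤
  have hquot : IsPGroup 2 (C ⧸ h83_tors V.ker hKc' (S : Subgroup C).index) := by
    intro x
    obtain ⟨g, rfl⟩ := QuotientGroup.mk_surjective x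
    refine ⟨k, ?_⟩
    rw [← QuotientGroup.mk_pow, QuotientGroup.eq_one_iff, ← hk]
    exact hpow g
  have hsup : h83_tors V.ker hKc' (S : Subgroup C).index ⊔ (S : Subgroup C) = ⊤ := by
    obtain ⟨j, hj⟩ := IsPGroup.iff_card.mp hquot
    have h1 : (h83_tors V.ker hKc' (S : Subgroup C).index ⊔ (S : Subgroup C)).index ∣ 2 ^ j := by
      rw [← hj, ← Subgroup.index_eq_card]
      exact Subgroup.index_dvd_of_le le_sup_left
    have h2 : (h83_tors V.ker hKc' (S : Subgroup C).index ⊔ (S : Subgroup C)).index ∣
        (S : Subgroup C).index := Subgroup.index_dvd_of_le le_sup_right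
    obtain ⟨i, hi, hi'⟩ := (Nat.dvd_prime_pow Nat.prime_two).mp h1
    rcases Nat.eq_zero_or_pos i with h0 | hpos
    · rw [h0, pow_zero] at hi'
      exact Subgroup.index_eq_one.mp hi'
    · exfalso
      apply hm
      refine dvd_trans ?_ h2
      rw [hi']
      exact dvd_pow_self 2 (by omega)
  -- the quotient is commutative
  have hmapS : ∀ x : C ⧸ h83_tors V.ker hKc' (S : Subgroup C).index,
      ∃ s ∈ (S : Subgroup C), (QuotientGroup.mk s : C ⧸ h83_tors V.ker hKc' (S : Subgroup C).index) = x := by
    intro x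
    have h1 : Subgroup.map (QuotientGroup.mk' (h83_tors V.ker hKc' (S : Subgroup C).index))
        (h83_tors V.ker hKc' (S : Subgroup C).index ⊔ (S : Subgroup C)) = ⊤ := by
      rw [hsup]
      exact Subgroup.map_top_of_surjective _ (QuotientGroup.mk'_surjective _)
    rw [Subgroup.map_sup, QuotientGroup.map_mk'_self, bot_sup_eq] at h1
    have h2 : x ∈ Subgroup.map (QuotientGroup.mk' (h83_tors V.ker hKc' (S : Subgroup C).index))
        (S : Subgroup C) := by rw [h1]; exact Subgroup.mem_top x
    obtain ⟨s, hs, hsx⟩ := h2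
    exact ⟨s, hs, hsx⟩
  have hqc : ∀ x y : C ⧸ h83_tors V.ker hKc' (S : Subgroup C).index, x * y = y * x := by
    intro x y
    obtain ⟨s, hs, rfl⟩ := hmapS x
    obtain ⟨s', hs', rfl⟩ := hmapS y
    rw [← QuotientGroup.mk_mul, ← QuotientGroup.mk_mul, hSc s hs s' hs']
  -- step 6: S centralizes the odd part
  have hcomm : ∀ s ∈ (S : Subgroup C), ∀ a ∈ h83_tors V.ker hKc' (S : Subgroup C).index,
      s * a = a * s := by
    intro s hs a ha
    have hZn : (Subgroup.zpowers
        (QuotientGroup.mk s : C ⧸ h83_tors V.ker hKc' (S : Subgroup C).index)).Normal := by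
      refine ⟨fun n hn g => ?_⟩
      have : g * n * g⁻¹ = n := by rw [hqc g n, mul_inv_cancel_right]
      rw [this]; exact hn
    haveI hHn : ((Subgroup.zpowers
        (QuotientGroup.mk s : C ⧸ h83_tors V.ker hKc' (S : Subgroup C).index)).comap
        (QuotientGroup.mk' (h83_tors V.ker hKc' (S : Subgroup C).index))).Normal :=
      hZn.comap _
    have hHtop : ((Subgroup.zpowers
        (QuotientGroup.mk s : C ⧸ h83_tors V.ker hKc' (S : Subgroup C).index)).comap
        (QuotientGroup.mk' (h83_tors V.ker hKc' (S : Subgroup C).index))) ≠ ⊤ := by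
      intro e
      apply hcyc
      have hz : Subgroup.zpowers
          (QuotientGroup.mk s : C ⧸ h83_tors V.ker hKc' (S : Subgroup C).index) = ⊤ := by
        rw [eq_top_iff]
        intro x _
        obtain ⟨g, rfl⟩ := QuotientGroup.mk_surjective x
        have : g ∈ ((Subgroup.zpowers
          (QuotientGroup.mk s : C ⧸ h83_tors V.ker hKc' (S : Subgroup C).index)).comap
          (QuotientGroup.mk' (h83_tors V.ker hKc' (S : Subgroup C).index))) := by
          rw [e]; exact Subgroup.mem_top g
        exact this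
      haveI : IsCyclic (C ⧸ h83_tors V.ker hKc' (S : Subgroup C).index) :=
        isCyclic_iff_exists_zpowers_eq_top.mpr ⟨_, hz⟩
      apply isCyclic_of_injective
        ((QuotientGroup.mk' (h83_tors V.ker hKc' (S : Subgroup C).index)).comp
          (S : Subgroup C).subtype)
      rw [injective_iff_map_eq_one]
      intro b hb
      have hb' : (b : C) ∈ h83_tors V.ker hKc' (S : Subgroup C).index := by
        rw [← QuotientGroup.eq_one_iff]
        exact hb
      exact Subtype.ext (hOS (b : C) hb' b.2)
    have hHc := h.normal_comm _ hHtop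
    rw [comm_iff] at hHc
    apply hHc
    · rw [Subgroup.mem_comap]
      exact Subgroup.mem_zpowers _
    · rw [Subgroup.mem_comap]
      have : (QuotientGroup.mk' (h83_tors V.ker hKc' (S : Subgroup C).index)) a = 1 :=
        (QuotientGroup.eq_one_iff a).mpr ha
      rw [this]
      exact Subgroup.one_mem _
  -- step 7: both parts are central
  have hOK : ∀ a ∈ h83_tors V.ker hKc' (S : Subgroup C).index, a ∈ V.ker := fun a ha =>
    ((h83_mem_tors _ _ _ a).mp ha).1
  have hcenO : ∀ a ∈ h83_tors V.ker hKc' (S : Subgroup C).index, ∀ g : C, a * g = g * a := by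
    intro a ha g
    have hle : h83_tors V.ker hKc' (S : Subgroup C).index ⊔ (S : Subgroup C) ≤
        Subgroup.centralizer ({a} : Set C) := by
      apply sup_le
      · intro b hb
        rw [Subgroup.mem_centralizer_iff]
        intro x hx
        rw [Set.mem_singleton_iff] at hx
        rw [hx]
        exact hKc' a (hOK a ha) b (hOK b hb)
      · intro s hs
        rw [Subgroup.mem_centralizer_iff]
        intro x hx
        rw [Set.mem_singleton_iff] at hx
        rw [hx]
        exact (hcomm s hs a ha).symm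
    have hg : g ∈ Subgroup.centralizer ({a} : Set C) := hle (by rw [hsup]; exact Subgroup.mem_top g)
    rw [Subgroup.mem_centralizer_iff] at hg
    exact hg a (Set.mem_singleton a)
  have hcenS : ∀ s ∈ (S : Subgroup C), ∀ g : C, s * g = g * s := by
    intro s hs g
    have hle : h83_tors V.ker hKc' (S : Subgroup C).index ⊔ (S : Subgroup C) ≤
        Subgroup.centralizer ({s} : Set C) := by
      apply sup_le
      · intro b hb
        rw [Subgroup.mem_centralizer_iff]
        intro x hx
        rw [Set.mem_singleton_iff] at hx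
        rw [hx]
        exact hcomm s hs b hb
      · intro s' hs'
        rw [Subgroup.mem_centralizer_iff]
        intro x hx
        rw [Set.mem_singleton_iff] at hx
        rw [hx]
        exact hSc s hs s' hs'
    have hg : g ∈ Subgroup.centralizer ({s} : Set C) := hle (by rw [hsup]; exact Subgroup.mem_top g)
    rw [Subgroup.mem_centralizer_iff] at hg
    exact hg s (Set.mem_singleton s)
  rw [comm_iff_top]
  intro a b
  have hle : h83_tors V.ker hKc' (S : Subgroup C).index ⊔ (S : Subgroup C) ≤
      Subgroup.centralizer ({b} : Set C) := by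
    apply sup_le
    · intro o ho
      rw [Subgroup.mem_centralizer_iff]
      intro x hx
      rw [Set.mem_singleton_iff] at hx
      rw [hx]
      exact (hcenO o ho b).symm
    · intro s hs
      rw [Subgroup.mem_centralizer_iff]
      intro x hx
      rw [Set.mem_singleton_iff] at hx
      rw [hx]
      exact (hcenS s hs b).symm
  have ha : a ∈ Subgroup.centralizer ({b} : Set C) := hle (by rw [hsup]; exact Subgroup.mem_top a)
  rw [Subgroup.mem_centralizer_iff] at ha
  exact (ha b (Set.mem_singleton b)).symm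

open scoped IsMulCommutative in
/-- **[E2-ABS]** -/
theorem sn_central_invol_comm {C : Type u} [Group C] [Finite C] (h : SN C) (S : Sylow 2 C)
    (hS : IsMulCommutative S) (hcyc : ¬ IsCyclic S) (t : C) (ht : orderOf t = 2)
    (htc : t ∈ Subgroup.center C) : IsMulCommutative C := by
  haveI : Fact (Nat.Prime 2) := ⟨Nat.prime_two⟩
  haveI := hS
  have key : ∀ (k : ℕ) (g₀ : C), g₀⁻¹ * t ^ k * g₀ ∈ (S : Subgroup C) →
      g₀⁻¹ * t ^ k * g₀ = t ^ k := by
    intro k g₀ _
    have := Subgroup.mem_center_iff.mp ((Subgroup.center C).pow_mem htc k) g₀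
    rw [mul_assoc, ← this, inv_mul_cancel_left]
  have hV := MonoidHom.transfer_eq_pow (MonoidHom.id (S : Subgroup C)) t key
  refine h83_sn_core h S hS hcyc (MonoidHom.transfer (MonoidHom.id (S : Subgroup C)))
    (fun x => pow_card_eq_one') t ?_
  rw [hV]
  intro h1
  have h2 : t ^ (S : Subgroup C).index = 1 := congrArg Subtype.val h1
  have h3 : orderOf t ∣ (S : Subgroup C).index := orderOf_dvd_of_pow_eq_one h2
  rw [ht] at h3
  exact S.not_dvd_index h3

end Cfsg.Agent.Lib.helper83.SNG
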