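import Mathlib
import Cfsg.Prelude.Def_Characters
import Cfsg.Prelude.Def_Blocks
import Cfsg.Agent.Lib.helper83.CharBasic2
import Cfsg.Agent.Lib.helper4.Induction
import Cfsg.Agent.Lib.helper84.Brauer

/-!
# Induction from the stabilizer of an irreducible character of a normal subgroup (helper83)

* `classInner_le_comp`: pulling two characters back along a homomorphism does not decrease their
  inner product.
* `irr_indFun_of_extends`: if `ψ ∈ Irr(I)` extends `φ ∈ Irr(N)` and `I` is the stabilizer of `φ`,
  then the induced function `indFun I ψ` is an irreducible character of `G`.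
* `classInner_indFun_restrict_self`: its restriction to `N` has norm `[G : I]`.
-/

set_option autoImplicit false

namespace Cfsg.Agent.Lib.helper83

open Cfsg.Agent.Lib.helper4
open scoped ComplexConjugate

universe u v

/-- A nonzero value at one point forces a nonzero norm. -/
theorem classInner_self_ne_zero {A : Type v} [Group A] [Fintype A] (g : A → ℂ) (a : A)
    (ha : g a ≠ 0) : classInner g g ≠ 0 := by
  intro h
  rw [classInner_def] at h
  have hA : (Nat.card A : ℂ)⁻¹ ≠ 0 := inv_ne_zero (by exact_mod_cast Nat.card_pos.ne')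
  have h1 : ∑ x : A, g x * conj (g x) = 0 := by
    rcases mul_eq_zero.mp h with h' | h'
    · exact absurd h' hA
    · exact h'
  have h2 : ∀ x : A, g x * conj (g x) = ((Complex.normSq (g x) : ℝ) : ℂ) := fun x =>
    Complex.mul_conj (g x)
  rw [Finset.sum_congr rfl (fun x _ => h2 x), ← Complex.ofReal_sum] at h1
  have h3 : ∑ x : A, Complex.normSq (g x) = 0 := by exact_mod_cast h1
  have h4 := (Finset.sum_eq_zero_iff_of_nonneg (fun x _ => Complex.normSq_nonneg (g x))).mp h3 a
    (Finset.mem_univ a)
  exact ha (Complex.normSq_eq_zero.mp h4)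

/-- Pulling two characters back along a homomorphism does not decrease their inner product
(both inner products are natural numbers). -/
theorem classInner_le_comp {A : Type v} {B : Type u} [Group A] [Group B] [Fintype A] [Fintype B]
    (f : A →* B) {α β : B → ℂ} (hα : IsCharacter B α) (hβ : IsCharacter B β) :
    ∃ m m' : ℕ, classInner α β = m ∧
      classInner (fun a => α (f a)) (fun a => β (f a)) = m' ∧ m ≤ m' := by
  classical
  have := Fintype.ofFinite (IrrCharacter B)
  choose a ha using fun ξ : IrrCharacter B => exists_nat_classInner_irr hα ξ.2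
  choose b hb using fun ξ : IrrCharacter B => exists_nat_classInner_irr hβ ξ.2
  choose c hc using fun ξ η : IrrCharacter B =>
    exists_nat_classInner (isCharacter_comp f (isCharacter_of_irr ξ.2))
      (isCharacter_comp f (isCharacter_of_irr η.2))
  have hc1 : ∀ ξ : IrrCharacter B, 1 ≤ c ξ ξ := by
    intro ξ
    rcases Nat.eq_zero_or_pos (c ξ ξ) with h0 | h0
    · exfalso
      have h := hc ξ ξ
      rw [h0, Nat.cast_zero] at h
      refine classInner_self_ne_zero (fun x => (ξ : B → ℂ) (f x)) 1 ?_ h
      rw [map_one]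
      exact irr_one_ne_zero ξ
    · exact h0
  have hαe : α = ∑ ξ : IrrCharacter B, (a ξ : ℂ) • (ξ : B → ℂ) := by
    have h := classFunction_eq_sum_irr (Cfsg.Agent.Lib.helper4.isClassFunction_of_isCharacter hα)
    rw [h]
    exact Finset.sum_congr rfl fun ξ _ => by
      rw [ha ξ]
  have hβe : β = ∑ ξ : IrrCharacter B, (b ξ : ℂ) • (ξ : B → ℂ) := by
    have h := classFunction_eq_sum_irr (Cfsg.Agent.Lib.helper4.isClassFunction_of_isCharacter hβ)
    rw [h]
    exact Finset.sum_congr rfl fun ξ _ => by
      rw [hb ξ]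
  refine ⟨∑ ξ : IrrCharacter B, a ξ * b ξ, ∑ ξ : IrrCharacter B, ∑ η : IrrCharacter B,
    a ξ * b η * c ξ η, ?_, ?_, ?_⟩
  · -- inner product on `B`
    have hβξ : ∀ ξ : IrrCharacter B, classInner (ξ : B → ℂ) β = (b ξ : ℂ) := by
      intro ξ
      rw [← Cfsg.Agent.Lib.helper4.classInner_conj_symm, hb ξ, Complex.conj_natCast]
    conv_lhs => rw [hαe]
    rw [classInner_sum_left]
    push_cast
    apply Finset.sum_congr rfl
    intro ξ _
    rw [classInner_smul_left, hβξ]
  · -- inner product on `A`
    have hαf : (fun x => α (f x)) =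
        ∑ ξ : IrrCharacter B, (a ξ : ℂ) • (fun x => (ξ : B → ℂ) (f x)) := by
      funext x
      conv_lhs => rw [hαe]
      simp only [Finset.sum_apply, Pi.smul_apply]
    have hβf : (fun x => β (f x)) =
        ∑ ξ : IrrCharacter B, (b ξ : ℂ) • (fun x => (ξ : B → ℂ) (f x)) := by
      funext x
      conv_lhs => rw [hβe]
      simp only [Finset.sum_apply, Pi.smul_apply]
    rw [hαf, hβf, classInner_sum_left]
    push_cast
    apply Finset.sum_congr rfl
    intro ξ _
    rw [classInner_smul_left, classInner_sum_right, Finset.mul_sum]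
    apply Finset.sum_congr rfl
    intro η _
    rw [classInner_smul_right, hc ξ η, Complex.conj_natCast]
    ring
  · apply Finset.sum_le_sum
    intro ξ _
    calc a ξ * b ξ ≤ a ξ * b ξ * c ξ ξ := Nat.le_mul_of_pos_right _ (hc1 ξ)
      _ ≤ ∑ η : IrrCharacter B, a ξ * b η * c ξ η :=
        Finset.single_le_sum (f := fun η => a ξ * b η * c ξ η) (fun η _ => Nat.zero_le _)
          (Finset.mem_univ ξ)

section Stab

variable {G : Type u} [Group G]

/-- `φ^x`: the conjugate `n ↦ φ (x⁻¹ n x)` of a function on a normal subgroup. -/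
def conjN (N : Subgroup G) [N.Normal] (φ : N → ℂ) (x : G) : N → ℂ :=
  fun n => φ (MulAut.conjNormal x⁻¹ n)

theorem conjN_apply (N : Subgroup G) [N.Normal] (φ : N → ℂ) (x : G) (n : N) :
    conjN N φ x n = φ (MulAut.conjNormal x⁻¹ n) := rfl

theorem conjN_irr [Finite G] (N : Subgroup G) [N.Normal] (φ : IrrCharacter N) (x : G) :
    IsIrrCharacter N (conjN N (φ : N → ℂ) x) :=
  Cfsg.Agent.Lib.helper84.irr_comp_mulEquiv (MulAut.conjNormal x⁻¹) φ

/-- The stabilizer condition in terms of `MulAut.conjNormal`. -/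
theorem mem_stab_iff (N : Subgroup G) [N.Normal] (φ : N → ℂ) (I : Subgroup G)
    (hI : ∀ g : G, g ∈ I ↔ ∀ n n' : N, (n' : G) = g * (n : G) * g⁻¹ → φ n' = φ n) (g : G) :
    g ∈ I ↔ ∀ n : N, φ (MulAut.conjNormal g n) = φ n := by
  rw [hI]
  constructor
  · intro h n
    exact h n _ (MulAut.conjNormal_apply g n)
  · intro h n n' hn'
    have h1 : n' = MulAut.conjNormal g n := Subtype.ext (by rw [hn', MulAut.conjNormal_apply])
    rw [h1, h]

/-- Two conjugates of `φ` coincide iff the conjugating elements lie in the same coset of the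
stabilizer. -/
theorem conjN_eq_iff (N : Subgroup G) [N.Normal] (φ : N → ℂ) (I : Subgroup G)
    (hI : ∀ g : G, g ∈ I ↔ ∀ n n' : N, (n' : G) = g * (n : G) * g⁻¹ → φ n' = φ n) (x y : G) :
    conjN N φ x = conjN N φ y ↔ x⁻¹ * y ∈ I := by
  rw [mem_stab_iff N φ I hI]
  constructor
  · intro h n
    have h1 := congrFun h (MulAut.conjNormal y n)
    rw [conjN_apply, conjN_apply, ← MulAut.mul_apply, ← MulAut.mul_apply, ← map_mul, ← map_mul,
      inv_mul_cancel, map_one, MulAut.one_apply] at h1
    exact h1
  · intro h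
    funext n
    have h1 := h (MulAut.conjNormal y⁻¹ n)
    rw [← MulAut.mul_apply, ← map_mul, mul_assoc, mul_inv_cancel, mul_one] at h1
    rw [conjN_apply, conjN_apply, h1]

/-- The induced function on the normal subgroup `N`, when `ψ` extends `φ`. -/
theorem indFun_apply_normal [Fintype G] (N : Subgroup G) [N.Normal] (I : Subgroup G)
    (hNI : N ≤ I) (φ : N → ℂ) (ψ : I → ℂ)
    (hext : ∀ n : N, ψ (Subgroup.inclusion hNI n) = φ n) (n : N) :
    Cfsg.indFun I ψ (n : G) = (Nat.card I : ℂ)⁻¹ * ∑ x : G, conjN N φ x n := by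
  rw [indFun_apply]
  congr 1
  apply Finset.sum_congr rfl
  intro x _
  have hmem : x⁻¹ * (n : G) * x ∈ I := by
    have h := (MulAut.conjNormal x⁻¹ n).2
    rw [MulAut.conjNormal_apply, inv_inv] at h
    exact hNI h
  rw [extendByZero_apply_mem I ψ hmem, conjN_apply, ← hext]
  congr 1
  apply Subtype.ext
  rw [Subgroup.coe_inclusion, MulAut.conjNormal_apply, inv_inv]

end Stab

section Main

variable {G : Type u} [Group G] [Fintype G] (N : Subgroup G) [N.Normal] (I : Subgroup G)
  (hNI : N ≤ I) (φ : IrrCharacter N)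
  (hI : ∀ g : G, g ∈ I ↔ ∀ n n' : N, (n' : G) = g * (n : G) * g⁻¹ →
    (φ : N → ℂ) n' = (φ : N → ℂ) n)
  (ψ : I → ℂ) (hext : ∀ n : N, ψ (Subgroup.inclusion hNI n) = (φ : N → ℂ) n)

include hext in
/-- The restriction to `N` of the induced function, as a combination of conjugates of `φ`. -/
theorem indFun_restrict_eq :
    (fun n : N => Cfsg.indFun I ψ (n : G)) =
      (Nat.card I : ℂ)⁻¹ • ∑ x : G, conjN N (φ : N → ℂ) x := by
  funext n
  rw [indFun_apply_normal N I hNI (φ : N → ℂ) ψ hext n]
  simp only [Pi.smul_apply, Finset.sum_apply, smul_eq_mul]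

include hI in
open Classical in
/-- Orthogonality of the conjugates of `φ`. -/
theorem classInner_conjN [Fintype N] (x y : G) :
    classInner (conjN N (φ : N → ℂ) x) (conjN N (φ : N → ℂ) y) =
      if x⁻¹ * y ∈ I then 1 else 0 := by
  by_cases h : x⁻¹ * y ∈ I
  · rw [if_pos h, (conjN_eq_iff N (φ : N → ℂ) I hI x y).mpr h]
    exact classInner_irr_self (conjN_irr N φ y)
  · rw [if_neg h]
    exact classInner_irr_ne (conjN_irr N φ x) (conjN_irr N φ y)
      (fun h' => h ((conjN_eq_iff N (φ : N → ℂ) I hI x y).mp h'))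

omit [N.Normal] in
open Classical in
/-- Counting a coset of `I`. -/
theorem sum_mem_coset (x : G) :
    ∑ y : G, (if x⁻¹ * y ∈ I then (1 : ℂ) else 0) = (Nat.card I : ℂ) := by
  have h1 : ∑ y : G, (if x⁻¹ * y ∈ I then (1 : ℂ) else 0) =
      ∑ y : G, (if y ∈ I then (1 : ℂ) else 0) := by
    apply Fintype.sum_equiv (Equiv.mulLeft x⁻¹)
    intro y
    rfl
  rw [h1, Finset.sum_boole]
  congr 1
  rw [Nat.card_eq_fintype_card, Fintype.card_subtype]

include hI hext in
/-- The multiplicity of `φ` in the restriction of the induced function is one. -/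
theorem classInner_indFun_restrict [Fintype N] :
    classInner (φ : N → ℂ) (fun n : N => Cfsg.indFun I ψ (n : G)) = 1 := by
  classical
  have hI0 : (Nat.card I : ℂ) ≠ 0 := by exact_mod_cast Nat.card_pos.ne'
  have h1 : (φ : N → ℂ) = conjN N (φ : N → ℂ) 1 := by
    funext n
    rw [conjN_apply, inv_one, map_one, MulAut.one_apply]
  rw [indFun_restrict_eq N I hNI φ ψ hext, classInner_smul_right, classInner_sum_right]
  have h2 : ∀ x : G, classInner (φ : N → ℂ) (conjN N (φ : N → ℂ) x) =
      if (1 : G)⁻¹ * x ∈ I then (1 : ℂ) else 0 := by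
    intro x
    have h3 := classInner_conjN N I φ hI 1 x
    rw [← h1] at h3
    exact h3
  rw [Finset.sum_congr rfl (fun x _ => h2 x), sum_mem_coset I 1, map_inv₀, Complex.conj_natCast,
    inv_mul_cancel₀ hI0]

include hI hext in
/-- The restriction of the induced function to `N` has norm `[G : I]`. -/
theorem classInner_indFun_restrict_self [Fintype N] :
    classInner (fun n : N => Cfsg.indFun I ψ (n : G)) (fun n : N => Cfsg.indFun I ψ (n : G)) =
      (I.index : ℂ) := by
  classical
  have hI0 : (Nat.card I : ℂ) ≠ 0 := by exact_mod_cast Nat.card_pos.ne'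
  rw [indFun_restrict_eq N I hNI φ ψ hext, classInner_smul_left, classInner_smul_right,
    classInner_sum_left]
  have h2 : ∀ x : G, classInner (conjN N (φ : N → ℂ) x) (∑ y : G, conjN N (φ : N → ℂ) y) =
      (Nat.card I : ℂ) := by
    intro x
    rw [classInner_sum_right, Finset.sum_congr rfl (fun y _ => classInner_conjN N I φ hI x y),
      sum_mem_coset I x]
  rw [Finset.sum_congr rfl (fun x _ => h2 x), Finset.sum_const, Finset.card_univ, nsmul_eq_mul,
    map_inv₀, Complex.conj_natCast]
  have h3 : (I.index : ℂ) * (Nat.card I : ℂ) = (Fintype.card G : ℂ) := by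
    rw [← Nat.card_eq_fintype_card]
    exact_mod_cast I.index_mul_card
  rw [← h3]
  field_simp

include hI hext in
/-- **Clifford correspondence, extension case**: if `ψ ∈ Irr(I)` extends `φ ∈ Irr(N)` and `I`
is the stabilizer of `φ`, the induced function `indFun I ψ` is an irreducible character. -/
theorem irr_indFun_of_extends (hψ : IsIrrCharacter I ψ) :
    IsIrrCharacter G (Cfsg.indFun I ψ) := by
  classical
  have : Fintype N := Fintype.ofFinite N
  have : Fintype I := Fintype.ofFinite I
  have hchar : IsCharacter G (Cfsg.indFun I ψ) :=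
    isCharacter_indFun I (isCharacter_of_irr hψ)
  apply isIrrCharacter_of_isCharacter_of_norm_one hchar
  rw [frobenius_reciprocity I ψ (Cfsg.Agent.Lib.helper4.isClassFunction_of_isCharacter hchar)]
  obtain ⟨m, m', hm, hm', hle⟩ := classInner_le_comp (Subgroup.inclusion hNI)
    (isCharacter_of_irr hψ) (isCharacter_restrict I hchar)
  have h1 : (fun a : N => ψ (Subgroup.inclusion hNI a)) = (φ : N → ℂ) := funext hext
  have h2 : (fun a : N => (fun h : I => Cfsg.indFun I ψ (h : G)) (Subgroup.inclusion hNI a)) =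
      fun n : N => Cfsg.indFun I ψ (n : G) := rfl
  rw [h1, h2, classInner_indFun_restrict N I hNI φ hI ψ hext] at hm'
  have hm'1 : m' = 1 := by exact_mod_cast hm'.symm
  have hm0 : m ≠ 0 := by
    intro h0
    rw [h0, Nat.cast_zero,
      ← frobenius_reciprocity I ψ (Cfsg.Agent.Lib.helper4.isClassFunction_of_isCharacter hchar)]
      at hm
    refine classInner_self_ne_zero (Cfsg.indFun I ψ) 1 ?_ hm
    rw [indFun_one]
    have hidx : (I.index : ℂ) ≠ 0 := by
      have : I.index ≠ 0 := Subgroup.index_ne_zero_of_finite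
      exact_mod_cast this
    exact mul_ne_zero hidx (irr_degree_ne_zero hψ)
  rw [hm]
  have : m = 1 := by omega
  rw [this, Nat.cast_one]

end Main

end Cfsg.Agent.Lib.helper83
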