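import Mathlib
import Cfsg.Agent.Lib.helper75.PQDefs
import Cfsg.Agent.Lib.helper75.PQTower
import Cfsg.Agent.Lib.helper1.Coprime

/-!
# Auxiliary group theory for the pieces C1, C2, C3, C9 of the tower theorem
-/

set_option autoImplicit false
set_option linter.unusedVariables false
set_option linter.unusedSectionVars false
set_option linter.style.longLine false

namespace Cfsg.Agent.Lib.helper83.PQ

open Cfsg.Agent.Lib.helper75.PQ
open Pointwise
open scoped commutatorElement

variable {Γ : Type*} [Group Γ]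

/-- an element normalizing `X` and `Y` normalizes `⁅X, Y⁆` -/
theorem aux_mem_normalizer_commutator {X Y : Subgroup Γ} {a : Γ}
    (hX : a ∈ Subgroup.normalizer (X : Set Γ)) (hY : a ∈ Subgroup.normalizer (Y : Set Γ)) :
    a ∈ Subgroup.normalizer ((⁅X, Y⁆ : Subgroup Γ) : Set Γ) := by
  apply Cfsg.Agent.Lib.helper1.mem_normalizer_of_conj_smul_eq
  have h1 : MulAut.conj a • X = X := Cfsg.Agent.Lib.helper1.conj_smul_eq_of_mem_normalizer hX
  have h2 : MulAut.conj a • Y = Y := Cfsg.Agent.Lib.helper1.conj_smul_eq_of_mem_normalizer hY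
  have h3 := Subgroup.map_commutator X Y (MulAut.conj a).toMonoidHom
  calc MulAut.conj a • ⁅X, Y⁆ = ⁅MulAut.conj a • X, MulAut.conj a • Y⁆ := h3
    _ = ⁅X, Y⁆ := by rw [h1, h2]

theorem aux_le_normalizer_commutator {X Y A : Subgroup Γ}
    (hX : A ≤ Subgroup.normalizer (X : Set Γ)) (hY : A ≤ Subgroup.normalizer (Y : Set Γ)) :
    A ≤ Subgroup.normalizer ((⁅X, Y⁆ : Subgroup Γ) : Set Γ) :=
  fun a ha => aux_mem_normalizer_commutator (hX ha) (hY ha)

/-- conjugation by a normalizing element, membership form -/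
theorem aux_conj_mem {X : Subgroup Γ} {a x : Γ}
    (ha : a ∈ Subgroup.normalizer (X : Set Γ)) (hx : x ∈ X) : a * x * a⁻¹ ∈ X :=
  (Subgroup.mem_normalizer_iff.mp ha x).mp hx

theorem aux_conj_mem' {X : Subgroup Γ} {a x : Γ}
    (ha : a ∈ Subgroup.normalizer (X : Set Γ)) (hx : x ∈ X) : a⁻¹ * x * a ∈ X :=
  (Subgroup.mem_normalizer_iff''.mp ha x).mp hx

/-- an element normalizing `X` normalizes its centralizer -/
theorem aux_mem_normalizer_centralizer {X : Subgroup Γ} {a : Γ}
    (hX : a ∈ Subgroup.normalizer (X : Set Γ)) :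
    a ∈ Subgroup.normalizer ((Subgroup.centralizer (X : Set Γ) : Subgroup Γ) : Set Γ) := by
  rw [Subgroup.mem_normalizer_iff]
  intro c
  constructor
  · intro hc
    rw [Subgroup.mem_centralizer_iff] at hc ⊢
    intro x hx
    have h1 := hc (a⁻¹ * x * a) (aux_conj_mem' hX hx)
    have e1 : x * (a * c * a⁻¹) = a * ((a⁻¹ * x * a) * c) * a⁻¹ := by group
    have e2 : a * c * a⁻¹ * x = a * (c * (a⁻¹ * x * a)) * a⁻¹ := by group
    rw [e1, e2, h1]
  · intro hc
    rw [Subgroup.mem_centralizer_iff] at hc ⊢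
    intro x hx
    have h1 := hc (a * x * a⁻¹) (aux_conj_mem hX hx)
    have e1 : x * c = a⁻¹ * ((a * x * a⁻¹) * (a * c * a⁻¹)) * a := by group
    have e2 : c * x = a⁻¹ * ((a * c * a⁻¹) * (a * x * a⁻¹)) * a := by group
    rw [e1, e2, h1]

theorem aux_le_normalizer_centralizer {X A : Subgroup Γ}
    (hX : A ≤ Subgroup.normalizer (X : Set Γ)) :
    A ≤ Subgroup.normalizer ((Subgroup.centralizer (X : Set Γ) : Subgroup Γ) : Set Γ) :=
  fun a ha => aux_mem_normalizer_centralizer (hX ha)

theorem aux_le_normalizer_inf {X Y A : Subgroup Γ}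
    (hX : A ≤ Subgroup.normalizer (X : Set Γ)) (hY : A ≤ Subgroup.normalizer (Y : Set Γ)) :
    A ≤ Subgroup.normalizer ((X ⊓ Y : Subgroup Γ) : Set Γ) := by
  intro a ha
  rw [Subgroup.mem_normalizer_iff]
  intro x
  have h1 := Subgroup.mem_normalizer_iff.mp (hX ha) x
  have h2 := Subgroup.mem_normalizer_iff.mp (hY ha) x
  rw [Subgroup.mem_inf, Subgroup.mem_inf, h1, h2]

/-- a subgroup of a group of prime order containing a nontrivial element is everything -/
theorem aux_prime_le {K K' : Subgroup Γ} {p : ℕ} (hp : p.Prime) (hK : Nat.card K = p)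
    (hle : K' ≤ K) (k : Γ) (hk : k ∈ K') (hk1 : k ≠ 1) : K ≤ K' := by
  haveI : Finite K := Nat.finite_of_card_ne_zero (by rw [hK]; exact hp.ne_zero)
  have hdvd : Nat.card K' ∣ p := hK ▸ Subgroup.card_dvd_of_le hle
  have hne : Nat.card K' ≠ 1 := by
    intro h1
    rw [Subgroup.card_eq_one] at h1
    rw [h1, Subgroup.mem_bot] at hk
    exact hk1 hk
  have hc : Nat.card K' = p := by
    rcases (Nat.dvd_prime hp).mp hdvd with h | h
    · exact absurd h hne
    · exact h
  have := Subgroup.eq_of_le_of_card_ge hle (by rw [hK, hc])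
  exact this.ge

/-- a group of prime order is solvable -/
theorem aux_solvable_of_prime_card {K : Subgroup Γ} {p : ℕ} (hp : p.Prime)
    (hK : Nat.card K = p) : Group.IsSolvable K := by
  haveI : Fact p.Prime := ⟨hp⟩
  haveI : Finite K := Nat.finite_of_card_ne_zero (by rw [hK]; exact hp.ne_zero)
  have hP : IsPGroup p K := IsPGroup.of_card (n := 1) (by rw [hK, pow_one])
  haveI : Group.IsNilpotent K := hP.isNilpotent
  infer_instance

/-- a finite `s`-group is solvable -/
theorem aux_solvable_of_pgroup [Finite Γ] {S : Subgroup Γ} {s : ℕ} (hs : s.Prime)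
    (hS : IsPGroup s S) : Group.IsSolvable S := by
  haveI : Fact s.Prime := ⟨hs⟩
  haveI : Group.IsNilpotent S := hS.isNilpotent
  infer_instance

/-- coprimality of a group of prime order `p` and an `s`-group, `s ≠ p` -/
theorem aux_coprime [Finite Γ] {K S : Subgroup Γ} {p s : ℕ} (hp : p.Prime) (hs : s.Prime)
    (hsp : s ≠ p) (hK : Nat.card K = p) (hS : IsPGroup s S) :
    (Nat.card K).Coprime (Nat.card S) := by
  haveI : Fact s.Prime := ⟨hs⟩
  obtain ⟨n, hn⟩ := hS.exists_card_eq
  rw [hK, hn]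
  exact Nat.Coprime.pow_right n ((Nat.coprime_primes hp hs).mpr (Ne.symm hsp))

theorem aux_card_sup_dvd_mul (H K : Subgroup Γ) [K.Normal] :
    Nat.card (H ⊔ K : Subgroup Γ) ∣ Nat.card H * Nat.card K := by
  have h1 := Subgroup.relIndex_mul_relIndex (⊥ : Subgroup Γ) K (H ⊔ K) bot_le le_sup_right
  rw [Subgroup.relIndex_bot_left, Subgroup.relIndex_bot_left, Subgroup.relIndex_sup_right] at h1
  rw [← h1, mul_comm]
  exact Nat.mul_dvd_mul_right (Subgroup.relIndex_dvd_card K H) _

theorem aux_card_sup_dvd_mul_of_le_normalizer (H K : Subgroup Γ)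
    (h : H ≤ Subgroup.normalizer (K : Set Γ)) :
    Nat.card (H ⊔ K : Subgroup Γ) ∣ Nat.card H * Nat.card K := by
  have hK : K ≤ H ⊔ K := le_sup_right
  have hH : H ≤ H ⊔ K := le_sup_left
  have hn : (K.subgroupOf (H ⊔ K)).Normal := by
    rw [Subgroup.normal_subgroupOf_iff_le_normalizer hK]
    exact sup_le h Subgroup.le_normalizer
  have h1 := aux_card_sup_dvd_mul (H.subgroupOf (H ⊔ K)) (K.subgroupOf (H ⊔ K))
  have h2 : H.subgroupOf (H ⊔ K) ⊔ K.subgroupOf (H ⊔ K) = ⊤ := by
    rw [← Subgroup.subgroupOf_sup hH hK, Subgroup.subgroupOf_self]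
  rw [h2] at h1
  have c1 : Nat.card (H.subgroupOf (H ⊔ K)) = Nat.card H :=
    Nat.card_congr (Subgroup.subgroupOfEquivOfLe hH).toEquiv
  have c2 : Nat.card (K.subgroupOf (H ⊔ K)) = Nat.card K :=
    Nat.card_congr (Subgroup.subgroupOfEquivOfLe hK).toEquiv
  have c3 : Nat.card (⊤ : Subgroup (H ⊔ K : Subgroup Γ)) = Nat.card (H ⊔ K : Subgroup Γ) :=
    Nat.card_congr Subgroup.topEquiv.toEquiv
  rw [c1, c2, c3] at h1
  exact h1

/-- if `⁅S, S⁆ = S` for a finite `s`-group then `S` is trivial -/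
theorem aux_commutator_ne [Finite Γ] {S : Subgroup Γ} {s : ℕ} (hs : s.Prime)
    (hS : IsPGroup s S) (hne : S ≠ ⊥) : (⁅S, S⁆ : Subgroup Γ) ≠ S := by
  intro heq
  haveI : Group.IsSolvable S := aux_solvable_of_pgroup hs hS
  haveI : Nontrivial S := (Subgroup.nontrivial_iff_ne_bot S).mpr hne
  have h1 : commutator S < ⊤ := IsSolvable.commutator_lt_top_of_nontrivial S
  have h2 : (commutator S).map S.subtype = ⁅S, S⁆ := by
    rw [commutator_def, Subgroup.map_commutator, ← MonoidHom.range_eq_map, Subgroup.range_subtype]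
  have h3 : (commutator S).map S.subtype = (⊤ : Subgroup S).map S.subtype := by
    rw [h2, heq, ← MonoidHom.range_eq_map, Subgroup.range_subtype]
  have h4 := Subgroup.map_injective (Subgroup.subtype_injective S) h3
  exact h1.ne h4

/-- the commutator subgroup of a subgroup is contained in it -/
theorem aux_commutator_self_le (S : Subgroup Γ) : (⁅S, S⁆ : Subgroup Γ) ≤ S := by
  rw [Subgroup.commutator_le]
  intro a ha b hb
  rw [commutatorElement_def]
  exact S.mul_mem (S.mul_mem (S.mul_mem ha hb) (S.inv_mem ha)) (S.inv_mem hb)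

end Cfsg.Agent.Lib.helper83.PQ
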