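import Mathlib
import Cfsg.Agent.Lib.helper75.PQDefs
import Cfsg.Agent.Lib.helper75.PQTower
import Cfsg.Agent.Lib.helper83.PQ_Aux

/-!
# S4306 piece C1: `S / C_S(R)` is abelian in a minimal tower
-/

set_option autoImplicit false
set_option linter.unusedVariables false
set_option linter.unusedSectionVars false
set_option linter.style.longLine false

namespace Cfsg.Agent.Lib.helper75.PQ

open Cfsg.Agent.Lib.helper83.PQ
open scoped commutatorElement

variable {Γ : Type*} [Group Γ] [Finite Γ] {F : Type*} [Field F]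
  {W : Type*} [AddCommGroup W] [Module F W]
  {ρ : Γ →* Module.End F W} {K H S R : Subgroup Γ} {p q s r : ℕ}

/-- C1 (MS4): `S / C_S(R)` is abelian. -/
theorem MinTower.comm_S (T : MinTower ρ K H S R p q s r) :
    ∀ y ∈ S, ∀ y' ∈ S, ∀ x ∈ R, ⁅y, y'⁆ * x = x * ⁅y, y'⁆ := by
  intro y hy y' hy' x hx
  have hSne : S ≠ ⊥ := by
    intro h
    apply T.ncz
    intro a ha b hb
    rw [h, Subgroup.mem_bot] at ha
    rw [ha]; simp
  have hne : (⁅S, S⁆ : Subgroup Γ) ≠ S := aux_commutator_ne T.hs T.Sgrp hSne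
  have hcz : Cz ⁅S, S⁆ R := T.minS ⁅S, S⁆ (aux_commutator_self_le S) hne
    (aux_le_normalizer_commutator T.KS T.KS) (aux_le_normalizer_commutator T.HS T.HS)
  exact hcz _ (Subgroup.commutator_mem_commutator hy hy') x hx

end Cfsg.Agent.Lib.helper75.PQ
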