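import Mathlib
import Cfsg.Agent.Lib.helper45.RUDefs

set_option autoImplicit false
set_option linter.unusedVariables false
set_option linter.unusedSimpArgs false
set_option linter.style.longLine false

namespace Cfsg.Agent.Lib.helper45.RU

open Matrix Cfsg.Agent.Lib.helper44

variable {n : ℕ} {F : Type*} [Field F] {S : Set (Matrix (Fin n) (Fin n) F)}

theorem h83_rowv_one (z o : Fin n) (hz : z.val = 0) (ho : o.val = 1) :
    rowv F n 1 = (Pi.single z 1 : Fin n → F) + Pi.single o 1 := by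
  ext j
  rw [rowv_apply, Pi.add_apply, Pi.single_apply, Pi.single_apply]
  by_cases h0 : j = z
  · subst h0
    have hne : j ≠ o := fun e => by rw [e] at hz; omega
    rw [if_pos rfl, if_neg hne, hz, Nat.choose_zero_right, Nat.cast_one, add_zero]
  · by_cases h1 : j = o
    · subst h1
      rw [if_neg h0, if_pos rfl, ho, Nat.choose_self, Nat.cast_one, zero_add]
    · rw [if_neg h0, if_neg h1, add_zero]
      have hj0 : j.val ≠ 0 := fun e => h0 (Fin.ext (by omega))
      have hj1 : j.val ≠ 1 := fun e => h1 (Fin.ext (by omega))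
      rw [Nat.choose_eq_zero_of_lt (by omega), Nat.cast_zero]

theorem h83_alt_apply (i : Fin n) : altVec F n i = (-1) ^ i.val := rfl

theorem h83_alt_dot_alt : altVec F n ⬝ᵥ altVec F n = (n : F) := by
  unfold dotProduct
  have : ∀ i : Fin n, altVec F n i * altVec F n i = 1 := by
    intro i
    rw [h83_alt_apply, ← pow_add, ← two_mul, pow_mul]
    simp
  rw [Finset.sum_congr rfl (fun i _ => this i)]
  simp

/-- PM -/
theorem pairings (hn : 4 ≤ n) (z o l' l : Fin n)
    (hz : z.val = 0) (ho : o.val = 1) (hl' : l'.val + 2 = n) (hl : l.val + 1 = n) :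
    (rowv F n 1 ⬝ᵥ (((-1 : F) ^ (n - 1)) • altVec F n) = 0 ∧
      rowv F n 1 ⬝ᵥ (Pi.single l 1 : Fin n → F) = 0 ∧
      rowv F n 1 ⬝ᵥ ((Pi.single l 1 : Fin n → F) + Pi.single l' 1) = 0) ∧
    ((Pi.single z 1 : Fin n → F) ⬝ᵥ (((-1 : F) ^ (n - 1)) • altVec F n) = (-1) ^ (n - 1) ∧
      (Pi.single z 1 : Fin n → F) ⬝ᵥ (Pi.single l 1 : Fin n → F) = 0 ∧
      (Pi.single z 1 : Fin n → F) ⬝ᵥ ((Pi.single l 1 : Fin n → F) + Pi.single l' 1) = 0) ∧
    (altVec F n ⬝ᵥ (((-1 : F) ^ (n - 1)) • altVec F n) = (-1) ^ (n - 1) * (n : F) ∧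
      altVec F n ⬝ᵥ (Pi.single l 1 : Fin n → F) = (-1) ^ (n - 1) ∧
      altVec F n ⬝ᵥ ((Pi.single l 1 : Fin n → F) + Pi.single l' 1) = 0) := by
  have hzl : z ≠ l := fun e => by rw [e] at hz; omega
  have hzl' : z ≠ l' := fun e => by rw [e] at hz; omega
  have haz : altVec F n z = 1 := by rw [h83_alt_apply, hz, pow_zero]
  have hao : altVec F n o = -1 := by rw [h83_alt_apply, ho, pow_one]
  have hal : altVec F n l = (-1) ^ (n - 1) := by
    rw [h83_alt_apply]
    congr 1
    omega
  have hal' : altVec F n l' = -(-1) ^ (n - 1) := by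
    rw [h83_alt_apply]
    have : n - 1 = l'.val + 1 := by omega
    rw [this, pow_succ]
    ring
  have hr1l : rowv F n 1 l = 0 := rowv_apply_eq_zero 1 l (by omega)
  have hr1l' : rowv F n 1 l' = 0 := rowv_apply_eq_zero 1 l' (by omega)
  refine ⟨⟨?_, ?_, ?_⟩, ⟨?_, ?_, ?_⟩, ⟨?_, ?_, ?_⟩⟩
  · rw [h83_rowv_one z o hz ho, dotProduct_smul, add_dotProduct, single_dotProduct,
      single_dotProduct, haz, hao]
    simp
  · rw [dotProduct_single, hr1l, zero_mul]
  · rw [dotProduct_add, dotProduct_single, dotProduct_single, hr1l, hr1l', zero_mul, add_zero]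
  · rw [dotProduct_smul, single_dotProduct, haz]
    simp
  · rw [dotProduct_single, Pi.single_apply, if_neg (Ne.symm hzl), zero_mul]
  · rw [dotProduct_add, dotProduct_single, dotProduct_single, Pi.single_apply, Pi.single_apply,
      if_neg (Ne.symm hzl), if_neg (Ne.symm hzl'), zero_mul, add_zero]
  · rw [dotProduct_smul, h83_alt_dot_alt, smul_eq_mul]
  · rw [dotProduct_single, hal, mul_one]
  · rw [dotProduct_add, dotProduct_single, dotProduct_single, hal, hal', mul_one, mul_one,
      add_neg_cancel]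

end Cfsg.Agent.Lib.helper45.RU
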