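/-
Piece P7 of the split plan for statement S4025: a group with a normal abelian Sylow
`p`-subgroup `P` identified with a finite field, on which conjugation acts by maps
`x ↦ a σ(x)`, acts on `P` by semi-affine maps with kernel the given complement-like normal
subgroup `K` (where `C(P) = P ⊔ K`, `P ⊓ K = ⊥`, `|K|` prime to `p`).
-/
import Mathlib
import Cfsg.Prelude.Def_Perm
import Cfsg.Prelude.Def_Solvable

set_option autoImplicit false
set_option linter.unusedVariables false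
set_option linter.unusedSimpArgs false
set_option linter.unusedTactic false
set_option linter.unreachableTactic false
set_option linter.style.longLine false

namespace Cfsg.Agent.Lib.helper83.S4025

/-- The action on the cosets of a complement, transported to `F`. -/
theorem exists_action {X : Type*} [Group X] [Finite X] {p : ℕ} [Fact p.Prime]
    (P : Subgroup X) [hPn : P.Normal] (hP : IsPGroup p P) (hidx : ¬ p ∣ P.index)
    (K : Subgroup X) [hKn : K.Normal] (hKP : Subgroup.centralizer (P : Set X) = P ⊔ K)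
    (hK : P ⊓ K = ⊥) (hKc : (Nat.card K).Coprime p)
    (F : Type) [Field F] [Fintype F] (e : P ≃ F) (he : ∀ x y : P, e (x * y) = e x + e y) :
    ∃ Ψ : X →* Equiv.Perm F, (∀ x, Ψ x = 1 ↔ x ∈ K) ∧
      ∀ x : X, ∃ b : F, ∀ (a : F) (σ : F → F),
        (∀ y : P, e ⟨x * y * x⁻¹, hPn.conj_mem y y.2 x⟩ = a * σ (e y)) →
        a ≠ 0 ∧ ∀ t, Ψ x t = a * σ t + b := by
  classical
  have hp : p.Prime := Fact.out
  have hcop : Nat.Coprime (Nat.card P) P.index := by
    obtain ⟨n, hn⟩ := IsPGroup.iff_card.mp hP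
    rw [hn]
    exact Nat.Coprime.pow_left n ((Nat.Prime.coprime_iff_not_dvd hp).mpr hidx)
  obtain ⟨H, hH⟩ := Subgroup.exists_right_complement'_of_coprime hcop
  have hPH : P ⊓ H = ⊥ := hH.disjoint.eq_bot
  have hdec : ∀ x : X, ∃ u ∈ P, ∃ h ∈ H, x = u * h := by
    intro x
    obtain ⟨⟨u, h⟩, hx⟩ := hH.2 x
    exact ⟨u, u.2, h, h.2, hx.symm⟩
  have hHcard : Nat.card H = P.index := (hH.symm.index_eq_card).symm
  have hHcop : Nat.Coprime (Nat.card H) p := by
    rw [hHcard]
    exact ((Nat.Prime.coprime_iff_not_dvd hp).mpr hidx).symm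
  -- `K ≤ H`
  have hKH : K ≤ H := by
    intro k hk
    obtain ⟨u, hu, h, hh, hkuh⟩ := hdec k
    have h2 : h ^ Nat.card H = 1 := by
      have h3 := congrArg Subtype.val (pow_card_eq_one' (G := H) (x := ⟨h, hh⟩))
      rw [SubmonoidClass.coe_pow] at h3
      exact h3
    have hum : u ^ Nat.card H ∈ K := by
      rw [← QuotientGroup.eq_one_iff]
      have h1 : ((u : X) : X ⧸ K) = ((h⁻¹ : X) : X ⧸ K) := by
        have h4 : u = k * h⁻¹ := by
          rw [hkuh]
          group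
        rw [h4, QuotientGroup.mk_mul, (QuotientGroup.eq_one_iff k).mpr hk, one_mul]
      rw [QuotientGroup.mk_pow, h1, ← QuotientGroup.mk_pow, inv_pow, h2, inv_one]
      rfl
    have hum1 : u ^ Nat.card H = 1 := by
      have h3 : u ^ Nat.card H ∈ P ⊓ K := ⟨P.pow_mem hu _, hum⟩
      rw [hK] at h3
      exact Subgroup.mem_bot.mp h3
    obtain ⟨j, hj⟩ := hP ⟨u, hu⟩
    have huj : u ^ p ^ j = 1 := by
      have h3 := congrArg Subtype.val hj
      rw [SubmonoidClass.coe_pow] at h3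
      exact h3
    have hu1 : u = 1 := by
      have h1 := orderOf_dvd_of_pow_eq_one hum1
      have h2 := orderOf_dvd_of_pow_eq_one huj
      have h3 : orderOf u ∣ Nat.gcd (Nat.card H) (p ^ j) := Nat.dvd_gcd h1 h2
      have h4 : Nat.gcd (Nat.card H) (p ^ j) = 1 := Nat.Coprime.pow_right j hHcop
      rw [h4] at h3
      exact orderOf_eq_one_iff.mp (Nat.dvd_one.mp h3)
    rw [hkuh, hu1, one_mul]
    exact hh
  -- the bijection between `P` and the cosets of `H`
  have hβ : Function.Bijective (fun w : P => ((w : X) : X ⧸ H)) := by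
    constructor
    · intro w w' hww
      have h1 : (w : X)⁻¹ * (w' : X) ∈ H := QuotientGroup.eq.mp hww
      have h2 : (w : X)⁻¹ * (w' : X) ∈ P ⊓ H := ⟨P.mul_mem (P.inv_mem w.2) w'.2, h1⟩
      rw [hPH] at h2
      exact Subtype.ext (inv_mul_eq_one.mp (Subgroup.mem_bot.mp h2))
    · intro q
      obtain ⟨x, rfl⟩ := QuotientGroup.mk_surjective q
      obtain ⟨u, hu, h, hh, hx⟩ := hdec x
      refine ⟨⟨u, hu⟩, ?_⟩
      show ((u : X) : X ⧸ H) = ((x : X) : X ⧸ H)
      rw [QuotientGroup.eq, hx]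
      have h1 : u⁻¹ * (u * h) = h := by group
      rw [h1]
      exact hh
  obtain ⟨β, hβdef⟩ : ∃ β : P ≃ X ⧸ H, ∀ w : P, β w = ((w : X) : X ⧸ H) :=
    ⟨Equiv.ofBijective _ hβ, fun w => rfl⟩
  obtain ⟨γ, hγdef⟩ : ∃ γ : X ⧸ H ≃ F, γ = β.symm.trans e := ⟨_, rfl⟩
  have hγβ : ∀ w : P, γ (β w) = e w := by
    intro w
    rw [hγdef]
    simp
  obtain ⟨Ψ, hΨ⟩ : ∃ Ψ : X →* Equiv.Perm F, ∀ x t, Ψ x t = γ (x • γ.symm t) :=
    ⟨(γ.permCongrHom).toMonoidHom.comp (MulAction.toPermHom X (X ⧸ H)), fun x t => rfl⟩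
  have hsmul : ∀ (x g : X), x • ((g : X) : X ⧸ H) = ((x * g : X) : X ⧸ H) := fun x g => rfl
  refine ⟨Ψ, ?_, ?_⟩
  · intro x
    constructor
    · intro hx
      have hfix : ∀ g : X, ((x * g : X) : X ⧸ H) = ((g : X) : X ⧸ H) := by
        intro g
        have h1 := hΨ x (γ ((g : X) : X ⧸ H))
        rw [hx, Equiv.Perm.one_apply, Equiv.symm_apply_apply, hsmul] at h1
        exact (γ.injective h1).symm
      have hxH : x ∈ H := by
        have h1 := QuotientGroup.eq.mp (hfix 1)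
        rw [mul_one, mul_one] at h1
        exact inv_mem_iff.mp h1
      have hcent : x ∈ Subgroup.centralizer (P : Set X) := by
        rw [Subgroup.mem_centralizer_iff]
        intro v hv
        have h1 : (x * v)⁻¹ * v ∈ H := QuotientGroup.eq.mp (hfix v)
        have h2 : x * ((x * v)⁻¹ * v) ∈ P ⊓ H := by
          refine ⟨?_, H.mul_mem hxH h1⟩
          have h3 : x * ((x * v)⁻¹ * v) = (x * v⁻¹ * x⁻¹) * v := by group
          rw [h3]
          exact P.mul_mem (hPn.conj_mem _ (P.inv_mem hv) x) hv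
        rw [hPH] at h2
        have h3 := Subgroup.mem_bot.mp h2
        have h4 : x * v⁻¹ * x⁻¹ * v = 1 := by
          rw [← h3]
          group
        have h6 : x * v = v * (x * v⁻¹ * x⁻¹ * v)⁻¹ * x := by group
        rw [h6, h4, inv_one, mul_one]
      rw [hKP] at hcent
      obtain ⟨u, hu, k, hk, hx'⟩ := Subgroup.mem_sup_of_normal_right.mp hcent
      have hu1 : u ∈ P ⊓ H := by
        refine ⟨hu, ?_⟩
        have h1 : u = x * k⁻¹ := by
          rw [← hx']
          group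
        rw [h1]
        exact H.mul_mem hxH (H.inv_mem (hKH hk))
      rw [hPH] at hu1
      rw [← hx', Subgroup.mem_bot.mp hu1, one_mul]
      exact hk
    · intro hx
      ext t
      rw [hΨ, Equiv.Perm.one_apply]
      obtain ⟨g, hg⟩ := QuotientGroup.mk_surjective (γ.symm t)
      have h1 : x • γ.symm t = γ.symm t := by
        rw [← hg]
        show ((x * g : X) : X ⧸ H) = ((g : X) : X ⧸ H)
        rw [QuotientGroup.eq]
        have h2 : (x * g)⁻¹ * g = g⁻¹ * x⁻¹ * g := by group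
        rw [h2]
        exact hKH (hKn.conj_mem' _ (K.inv_mem hx) g)
      rw [h1, Equiv.apply_symm_apply]
  · intro x
    refine ⟨γ ((x : X) : X ⧸ H), ?_⟩
    intro a σ hσ
    constructor
    · intro ha
      have h0 := hσ (e.symm 0)
      have h1 := hσ (e.symm 1)
      rw [ha, zero_mul] at h0 h1
      have h2 := e.injective (h0.trans h1.symm)
      have h3 := congrArg Subtype.val h2
      have h4 : (e.symm 0 : P) = e.symm 1 := by
        apply Subtype.ext
        exact mul_left_cancel (mul_right_cancel h3)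
      have h5 := e.symm.injective h4
      exact zero_ne_one h5
    · intro t
      rw [hΨ]
      obtain ⟨v, hv⟩ : ∃ v : P, v = e.symm t := ⟨_, rfl⟩
      have hγs : γ.symm t = ((v : X) : X ⧸ H) := by
        rw [← hβdef, hγdef, hv]
        rfl
      obtain ⟨c, hc⟩ : ∃ c : P, c = β.symm ((x : X) : X ⧸ H) := ⟨_, rfl⟩
      have hcx : ((c : X) : X ⧸ H) = ((x : X) : X ⧸ H) := by
        rw [← hβdef, hc, Equiv.apply_symm_apply]
      obtain ⟨w, hw⟩ : ∃ w : P, w = ⟨x * v * x⁻¹, hPn.conj_mem v v.2 x⟩ := ⟨_, rfl⟩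
      have h1 : ((x * v : X) : X ⧸ H) = (((w * c : P) : X) : X ⧸ H) := by
        rw [QuotientGroup.eq]
        have h2 : (x * (v : X))⁻¹ * ((w * c : P) : X) = (x : X)⁻¹ * (c : X) := by
          rw [hw]
          simp only [Subgroup.coe_mul]
          group
        rw [h2]
        exact QuotientGroup.eq.mp hcx.symm
      rw [hγs, hsmul, h1, ← hβdef, hγβ, he, hw, hσ v, hv, Equiv.apply_symm_apply]
      congr 1
      rw [hc, hγdef]
      simp

/-- P7a: the affine action. -/
theorem exists_semiaffine_embedding {X : Type*} [Group X] [Finite X] {p : ℕ} [Fact p.Prime]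
    (P : Subgroup X) [hPn : P.Normal] (hP : IsPGroup p P) (hidx : ¬ p ∣ P.index)
    (K : Subgroup X) [K.Normal] (hKP : Subgroup.centralizer (P : Set X) = P ⊔ K)
    (hK : P ⊓ K = ⊥) (hKc : (Nat.card K).Coprime p)
    (F : Type) [Field F] [Fintype F] (e : P ≃ F) (he : ∀ x y : P, e (x * y) = e x + e y)
    (hsl : ∀ g : X, ∃ (a : F) (σ : F ≃+* F), ∀ y : P,
      e ⟨g * y * g⁻¹, hPn.conj_mem y y.2 g⟩ = a * σ (e y)) :
    ∃ f : X ⧸ K →* Cfsg.semiaffineGroup F, Function.Injective f := by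
  obtain ⟨Ψ, hker, hform⟩ := exists_action P hP hidx K hKP hK hKc F e he
  have hmem : ∀ x : X, Ψ x ∈ Cfsg.semiaffineGroup F := by
    intro x
    obtain ⟨b, hb⟩ := hform x
    obtain ⟨a, σ, hσ⟩ := hsl x
    obtain ⟨ha, hφ⟩ := hb a (fun t => σ t) hσ
    exact ⟨Units.mk0 a ha, b, σ, fun t => hφ t⟩
  obtain ⟨Ψ', hΨ'⟩ : ∃ Ψ' : X →* Cfsg.semiaffineGroup F, ∀ x, (Ψ' x : Equiv.Perm F) = Ψ x :=
    ⟨Ψ.codRestrict (Cfsg.semiaffineGroup F) hmem, fun x => rfl⟩
  have hker' : ∀ x, Ψ' x = 1 ↔ x ∈ K := by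
    intro x
    rw [← hker x, ← hΨ' x]
    constructor
    · intro h
      rw [h]
      rfl
    · intro h
      exact Subtype.ext h
  have hle : K ≤ Ψ'.ker := fun x hx => (MonoidHom.mem_ker).mpr ((hker' x).mpr hx)
  refine ⟨QuotientGroup.lift K Ψ' hle, ?_⟩
  rw [injective_iff_map_eq_one]
  intro q hq
  obtain ⟨x, rfl⟩ := QuotientGroup.mk_surjective q
  rw [QuotientGroup.lift_mk] at hq
  exact (QuotientGroup.eq_one_iff x).mpr ((hker' x).mp hq)

/-- P7b: same with `σ = 1`, landing in the affine group. -/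
theorem exists_affine_embedding {X : Type*} [Group X] [Finite X] {p : ℕ} [Fact p.Prime]
    (P : Subgroup X) [hPn : P.Normal] (hP : IsPGroup p P) (hidx : ¬ p ∣ P.index)
    (K : Subgroup X) [K.Normal] (hKP : Subgroup.centralizer (P : Set X) = P ⊔ K)
    (hK : P ⊓ K = ⊥) (hKc : (Nat.card K).Coprime p)
    (F : Type) [Field F] [Fintype F] (e : P ≃ F) (he : ∀ x y : P, e (x * y) = e x + e y)
    (hsl : ∀ g : X, ∃ a : F, ∀ y : P,
      e ⟨g * y * g⁻¹, hPn.conj_mem y y.2 g⟩ = a * e y) :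
    ∃ f : X ⧸ K →* Cfsg.affineGroup F, Function.Injective f := by
  obtain ⟨Ψ, hker, hform⟩ := exists_action P hP hidx K hKP hK hKc F e he
  have hmem : ∀ x : X, Ψ x ∈ Cfsg.affineGroup F := by
    intro x
    obtain ⟨b, hb⟩ := hform x
    obtain ⟨a, hσ⟩ := hsl x
    obtain ⟨ha, hφ⟩ := hb a (fun t => t) hσ
    exact ⟨Units.mk0 a ha, b, fun t => hφ t⟩
  obtain ⟨Ψ', hΨ'⟩ : ∃ Ψ' : X →* Cfsg.affineGroup F, ∀ x, (Ψ' x : Equiv.Perm F) = Ψ x :=
    ⟨Ψ.codRestrict (Cfsg.affineGroup F) hmem, fun x => rfl⟩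
  have hker' : ∀ x, Ψ' x = 1 ↔ x ∈ K := by
    intro x
    rw [← hker x, ← hΨ' x]
    constructor
    · intro h
      rw [h]
      rfl
    · intro h
      exact Subtype.ext h
  have hle : K ≤ Ψ'.ker := fun x hx => (MonoidHom.mem_ker).mpr ((hker' x).mpr hx)
  refine ⟨QuotientGroup.lift K Ψ' hle, ?_⟩
  rw [injective_iff_map_eq_one]
  intro q hq
  obtain ⟨x, rfl⟩ := QuotientGroup.mk_surjective q
  rw [QuotientGroup.lift_mk] at hq
  exact (QuotientGroup.eq_one_iff x).mpr ((hker' x).mp hq)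

end Cfsg.Agent.Lib.helper83.S4025
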