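import Cfsg.Agent.Lib.helper81.WTDefs

/-!
# S4414, piece E2: a finite field of characteristic 2 with enough `n`-th roots of unity (`n` odd)
-/

set_option autoImplicit false
set_option linter.unusedVariables false
set_option linter.style.longLine false
set_option linter.style.haveILetI false

namespace Cfsg.Agent.Lib.helper81.WT

open scoped TensorProduct

universe u v w

/-- [E2] a finite field of characteristic 2 with enough n-th roots of unity (n odd) -/
theorem helper83_exists_field (n : ℕ) (hn : Odd n) :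
    ∃ (F : Type) (_ : Field F) (_ : Algebra (ZMod 2) F),
      Finite F ∧ CharP F 2 ∧ HasEnoughRootsOfUnity F n := by
  have hn0 : n ≠ 0 := by
    rintro rfl
    exact absurd hn (by decide)
  haveI : NeZero n := ⟨hn0⟩
  have hk0 : n.totient ≠ 0 := (Nat.totient_pos.2 (Nat.pos_of_ne_zero hn0)).ne'
  refine ⟨GaloisField 2 n.totient, inferInstance, inferInstance, inferInstance, inferInstance, ?_⟩
  have hcard : Nat.card (GaloisField 2 n.totient) = 2 ^ n.totient :=
    GaloisField.card 2 n.totient hk0
  have hcu : Nat.card (GaloisField 2 n.totient)ˣ = 2 ^ n.totient - 1 := by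
    rw [Nat.card_units, hcard]
  have hcop : Nat.Coprime 2 n := Nat.coprime_two_left.2 hn
  have hdvd : n ∣ 2 ^ n.totient - 1 :=
    (Nat.modEq_iff_dvd' Nat.one_le_two_pow).1 (Nat.ModEq.pow_totient hcop).symm
  obtain ⟨g, hg⟩ := IsCyclic.exists_generator (α := (GaloisField 2 n.totient)ˣ)
  have hog : orderOf g = 2 ^ n.totient - 1 := by
    rw [orderOf_eq_card_of_forall_mem_zpowers hg, hcu]
  obtain ⟨d, hd⟩ := hdvd
  have h2 : 2 ≤ 2 ^ n.totient := by
    calc 2 = 2 ^ 1 := by norm_num
      _ ≤ 2 ^ n.totient := Nat.pow_le_pow_right (by norm_num) (Nat.pos_of_ne_zero hk0)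
  have hd0 : d ≠ 0 := by
    rintro rfl
    rw [mul_zero] at hd
    omega
  have hζ : orderOf (g ^ d) = n := by
    rw [orderOf_pow_of_dvd hd0 (by rw [hog, hd]; exact dvd_mul_left d n), hog, hd]
    exact Nat.mul_div_cancel _ (Nat.pos_of_ne_zero hd0)
  refine ⟨⟨((g ^ d : (GaloisField 2 n.totient)ˣ) : GaloisField 2 n.totient), ?_⟩,
    rootsOfUnity.isCyclic _ n⟩
  have hp := IsPrimitiveRoot.orderOf (g ^ d)
  rw [hζ] at hp
  exact IsPrimitiveRoot.coe_units_iff.2 hp

end Cfsg.Agent.Lib.helper81.WT
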