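import Mathlib
import Cfsg.Agent.Lib.helper75.PQDefs
import Cfsg.Agent.Lib.helper75.PQTower
import Cfsg.Agent.Lib.helper83.PQ_Aux
import Cfsg.Agent.Lib.helper83.PQ_C1
import Cfsg.Agent.Lib.helper18.PQ_A

/-!
# S4306 piece C9 (GEN2)
-/

set_option autoImplicit false
set_option linter.unusedVariables false
set_option linter.unusedSectionVars false
set_option linter.style.longLine false

namespace Cfsg.Agent.Lib.helper75.PQ

open Cfsg.Agent.Lib.helper83.PQ
open scoped commutatorElement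

variable {Γ : Type*} [Group Γ] [Finite Γ] {F : Type*} [Field F]
  {W : Type*} [AddCommGroup W] [Module F W]
  {ρ : Γ →* Module.End F W} {K H S R : Subgroup Γ} {p q s r : ℕ}

/-- C9 (GEN2): a subgroup of `S` containing `C_S(R)` and the commutators with `H` and with
a second conjugate `k H k⁻¹` is all of `S`. -/
theorem MinTower.gen_two (T : MinTower ρ K H S R p q s r) (k : Γ) (hk : k ∈ K) (hk1 : k ≠ 1)
    (D : Subgroup Γ) (hC : ∀ y ∈ S, (∀ x ∈ R, y * x = x * y) → y ∈ D)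
    (h1 : ∀ h ∈ H, ∀ y ∈ S, ⁅h, y⁆ ∈ D) (h2 : ∀ h ∈ H, ∀ y ∈ S, ⁅k * h * k⁻¹, y⁆ ∈ D) :
    S ≤ D := by
  have hgen := T.frob.gen_two k hk hk1
  have hcS := T.comm_S
  -- conjugation by `S` preserves `D ∩ S`
  have hnorm : ∀ y ∈ S, ∀ d ∈ S, d ∈ D → y * d * y⁻¹ ∈ D := by
    intro y hy d hdS hdD
    have e : y * d * y⁻¹ = ⁅y, d⁆ * d := by
      simp only [commutatorElement_def]; group
    rw [e]
    refine D.mul_mem (hC _ ?_ (hcS y hy d hdS)) hdD
    rw [commutatorElement_def]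
    exact S.mul_mem (S.mul_mem (S.mul_mem hy hdS) (S.inv_mem hy)) (S.inv_mem hdS)
  have hcomS : ∀ a : Γ, a ∈ Subgroup.normalizer (S : Set Γ) → ∀ y ∈ S, ⁅a, y⁆ ∈ S := by
    intro a ha y hy
    rw [commutatorElement_def]
    exact S.mul_mem (aux_conj_mem ha hy) (S.inv_mem hy)
  obtain ⟨E, hE⟩ : ∃ E : Subgroup Γ, ∀ a, a ∈ E ↔
      (a ∈ Subgroup.normalizer (S : Set Γ) ∧ ∀ y ∈ S, ⁅a, y⁆ ∈ D) := by
    refine ⟨{ carrier := {a | a ∈ Subgroup.normalizer (S : Set Γ) ∧ ∀ y ∈ S, ⁅a, y⁆ ∈ D}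
              mul_mem' := ?_
              one_mem' := ?_
              inv_mem' := ?_ }, fun a => Iff.rfl⟩
    · rintro a b ⟨ha, h⟩ ⟨hb, h'⟩
      refine ⟨Subgroup.mul_mem _ ha hb, fun y hy => ?_⟩
      have e : ⁅a * b, y⁆ = ⁅a, ⁅b, y⁆⁆ * ⁅b, y⁆ * ⁅a, y⁆ := by
        simp only [commutatorElement_def]; group
      rw [e]
      exact D.mul_mem (D.mul_mem (h _ (hcomS b hb y hy)) (h' y hy)) (h y hy)
    · refine ⟨Subgroup.one_mem _, fun y hy => ?_⟩
      rw [commutatorElement_one_left]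
      exact D.one_mem
    · rintro a ⟨ha, h⟩
      refine ⟨Subgroup.inv_mem _ ha, fun y hy => ?_⟩
      have e : ⁅a⁻¹, y⁆ = ⁅a, a⁻¹ * y * a⁆⁻¹ := by
        simp only [commutatorElement_def]; group
      rw [e]
      exact D.inv_mem (h _ (aux_conj_mem' ha hy))
  have hHE : H ≤ E := by
    intro h hh
    rw [hE]
    exact ⟨T.HS hh, h1 h hh⟩
  have hclE : Subgroup.closure ((H : Set Γ) ∪ {x | ∃ h ∈ H, x = k * h * k⁻¹}) ≤ E := by
    rw [Subgroup.closure_le]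
    rintro x (hx | ⟨h, hh, rfl⟩)
    · exact hHE hx
    · rw [SetLike.mem_coe, hE]
      refine ⟨?_, h2 h hh⟩
      exact Subgroup.mul_mem _ (Subgroup.mul_mem _ (T.KS hk) (T.HS hh))
        (Subgroup.inv_mem _ (T.KS hk))
  have hKHE : K ⊔ H ≤ E := hgen.trans hclE
  have hcommD : (⁅S, K ⊔ H⁆ : Subgroup Γ) ≤ D := by
    rw [Subgroup.commutator_le]
    intro y hy a ha
    have := ((hE a).mp (hKHE ha)).2 y hy
    rw [← commutatorElement_inv]
    exact D.inv_mem this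
  have hcop : (Nat.card (K ⊔ H : Subgroup Γ)).Coprime (Nat.card S) := by
    have hdvd := aux_card_sup_dvd_mul_of_le_normalizer H K T.HK
    rw [sup_comm] at hdvd
    refine Nat.Coprime.coprime_dvd_left hdvd ?_
    exact Nat.Coprime.mul_left (aux_coprime T.hq T.hs T.hsq T.cardH T.Sgrp)
      (aux_coprime T.hp T.hs T.hsp T.cardK T.Sgrp)
  have hsup := Cfsg.Agent.Lib.helper1.commutator_sup_fixed (K ⊔ H) S (sup_le T.KS T.HS) hcop
    (Or.inr (aux_solvable_of_pgroup T.hs T.Sgrp))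
  have hfix : S ⊓ Subgroup.centralizer ((K ⊔ H : Subgroup Γ) : Set Γ) = ⊥ := by
    rw [eq_bot_iff]
    intro x hx
    rw [Subgroup.mem_inf] at hx
    obtain ⟨hxS, hxc⟩ := hx
    rw [Subgroup.mem_bot]
    rw [Subgroup.mem_centralizer_iff] at hxc
    exact T.fpfS x hxS (fun k' hk' => hxc k' (SetLike.mem_coe.mpr ((le_sup_left : K ≤ K ⊔ H) hk')))
      (fun h hh => hxc h (SetLike.mem_coe.mpr ((le_sup_right : H ≤ K ⊔ H) hh)))
  rw [hfix, sup_bot_eq] at hsup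
  rw [← hsup]
  exact hcommD

end Cfsg.Agent.Lib.helper75.PQ
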