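import Mathlib
import Cfsg.Agent.Lib.helper95.APDefs

/-!
S2276 split (helper95), piece INTV, racer copy by helper83: basic block calculus.
`h83_join σ τ` acts as `σ` on the first `m` points of `Fin (m + n)` and as `τ` on the last `n`.
-/

set_option autoImplicit false
set_option linter.unusedVariables false
set_option linter.unusedSectionVars false
set_option linter.style.longLine false

namespace Cfsg.Agent.Lib.helper95.AP

open Equiv

/-- the first `m` points of `Fin (m + n)` -/
def h83_eL (m n : ℕ) : Fin m ≃ {x : Fin (m + n) // (x : ℕ) < m} where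
  toFun i := ⟨Fin.castAdd n i, i.2⟩
  invFun x := ⟨(x.1 : ℕ), x.2⟩
  left_inv i := rfl
  right_inv x := rfl

/-- the last `n` points of `Fin (m + n)` -/
def h83_eR (m n : ℕ) : Fin n ≃ {x : Fin (m + n) // ¬ (x : ℕ) < m} where
  toFun j := ⟨Fin.natAdd m j, by simp⟩
  invFun x := ⟨(x.1 : ℕ) - m, by have h1 := x.2; have h2 := x.1.2; omega⟩
  left_inv j := by ext; simp
  right_inv x := by
    have h1 := x.2
    apply Subtype.ext
    apply Fin.ext
    simp only [Fin.coe_natAdd]
    omega

/-- block sum of two permutations -/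
noncomputable def h83_join {m n : ℕ} (σ : Perm (Fin m)) (τ : Perm (Fin n)) : Perm (Fin (m + n)) :=
  σ.extendDomain (h83_eL m n) * τ.extendDomain (h83_eR m n)

theorem h83_join_castAdd {m n : ℕ} (σ : Perm (Fin m)) (τ : Perm (Fin n)) (i : Fin m) :
    h83_join σ τ (Fin.castAdd n i) = Fin.castAdd n (σ i) := by
  unfold h83_join
  rw [Perm.mul_apply]
  have h1 : τ.extendDomain (h83_eR m n) (Fin.castAdd n i) = Fin.castAdd n i :=
    Perm.extendDomain_apply_not_subtype _ _ (by simp)
  rw [h1]
  exact Perm.extendDomain_apply_image σ (h83_eL m n) i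

theorem h83_join_natAdd {m n : ℕ} (σ : Perm (Fin m)) (τ : Perm (Fin n)) (j : Fin n) :
    h83_join σ τ (Fin.natAdd m j) = Fin.natAdd m (τ j) := by
  unfold h83_join
  rw [Perm.mul_apply]
  have h1 : τ.extendDomain (h83_eR m n) (Fin.natAdd m j) = Fin.natAdd m (τ j) :=
    Perm.extendDomain_apply_image τ (h83_eR m n) j
  rw [h1]
  exact Perm.extendDomain_apply_not_subtype _ _ (by simp)

theorem h83_cycleType_join {m n : ℕ} (σ : Perm (Fin m)) (τ : Perm (Fin n)) :
    (h83_join σ τ).cycleType = σ.cycleType + τ.cycleType := by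
  unfold h83_join
  rw [Perm.Disjoint.cycleType_mul, Perm.cycleType_extendDomain, Perm.cycleType_extendDomain]
  intro x
  by_cases hx : (x : ℕ) < m
  · right; exact Perm.extendDomain_apply_not_subtype _ _ (by simpa using hx)
  · left; exact Perm.extendDomain_apply_not_subtype _ _ hx

/-- the number of points `z` with `b z = z - 1` (as natural numbers) -/
def h83_cnt {N : ℕ} (b : Perm (Fin N)) : ℕ :=
  (Finset.univ.filter (fun z : Fin N => ((b z : Fin N) : ℕ) + 1 = (z : ℕ))).card

theorem h83_cnt_join {m n : ℕ} (σ : Perm (Fin m)) (τ : Perm (Fin n)) :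
    h83_cnt (h83_join σ τ) = h83_cnt σ + h83_cnt τ := by
  unfold h83_cnt
  rw [Finset.card_filter, Finset.card_filter, Finset.card_filter, Fin.sum_univ_add]
  congr 1
  · apply Finset.sum_congr rfl
    intro i _
    rw [h83_join_castAdd]
    simp
  · apply Finset.sum_congr rfl
    intro j _
    rw [h83_join_natAdd]
    apply if_congr _ rfl rfl
    simp only [Fin.coe_natAdd]
    omega

/-- value of the rotation -/
theorem h83_rot_val (N : ℕ) (w : Fin N) :
    ((finRotate N w : Fin N) : ℕ) = if (w : ℕ) + 1 = N then 0 else (w : ℕ) + 1 := by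
  cases N with
  | zero => exact w.elim0
  | succ n =>
    rw [coe_finRotate]
    by_cases h : w = Fin.last n
    · rw [if_pos h, if_pos]
      rw [h]; simp
    · rw [if_neg h, if_neg]
      intro h'
      apply h
      apply Fin.ext
      simp only [Fin.val_last]
      omega

theorem h83_cnt_one (N : ℕ) : h83_cnt (1 : Perm (Fin N)) = 0 := by
  unfold h83_cnt
  rw [Finset.card_eq_zero, Finset.filter_eq_empty_iff]
  intro z _
  simp

theorem h83_cnt_rot (l : ℕ) (hl : 3 ≤ l) : h83_cnt (finRotate l) = 0 := by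
  unfold h83_cnt
  rw [Finset.card_eq_zero, Finset.filter_eq_empty_iff]
  intro z _
  rw [h83_rot_val]
  have := z.2
  split_ifs with h <;> omega

theorem h83_rev_val (l : ℕ) (z : Fin l) :
    ((((finRotate l)⁻¹ z : Fin l) : ℕ) + 1 = (z : ℕ) ↔ (z : ℕ) ≠ 0) ∧
    ((z : ℕ) = 0 → (((finRotate l)⁻¹ z : Fin l) : ℕ) + 1 = l) := by
  have h1 : finRotate l ((finRotate l)⁻¹ z) = z := by
    rw [← Perm.mul_apply, mul_inv_cancel, Perm.one_apply]
  have h2 := h83_rot_val l ((finRotate l)⁻¹ z)
  rw [h1] at h2
  have h3 := ((finRotate l)⁻¹ z).2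
  constructor
  · split_ifs at h2 with h <;> omega
  · split_ifs at h2 with h <;> omega

theorem h83_cnt_rev (l : ℕ) (hl : 1 ≤ l) : h83_cnt (finRotate l)⁻¹ = l - 1 := by
  unfold h83_cnt
  have h : Finset.univ.filter (fun z : Fin l => ((((finRotate l)⁻¹ z : Fin l) : ℕ) + 1 = (z : ℕ)))
      = Finset.univ.erase (⟨0, hl⟩ : Fin l) := by
    ext z
    rw [Finset.mem_filter, Finset.mem_erase]
    simp only [Finset.mem_univ, true_and, and_true]
    rw [(h83_rev_val l z).1]
    constructor
    · intro h h'
      apply h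
      rw [h']
    · intro h h'
      apply h
      exact Fin.ext h'
  rw [h, Finset.card_erase_of_mem (Finset.mem_univ _), Finset.card_univ, Fintype.card_fin]

end Cfsg.Agent.Lib.helper95.AP
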