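import Mathlib
import Cfsg.Agent.Lib.helper95.APDefs
import Cfsg.Agent.Lib.helper83.APINTVBase

/-!
S2276 split (helper95), piece INTV, racer copy by helper83: the interval permutation, built by
recursion on the list of parts.
-/

set_option autoImplicit false
set_option linter.unusedVariables false
set_option linter.unusedSectionVars false
set_option linter.style.longLine false

namespace Cfsg.Agent.Lib.helper95.AP

open Equiv

/-- total size: the parts, then `φ` fixed points -/
def h83_size : List ℕ → ℕ → ℕ
  | [], φ => φ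
  | l :: L, φ => l + h83_size L φ

theorem h83_size_eq (L : List ℕ) (φ : ℕ) : h83_size L φ = L.sum + φ := by
  induction L with
  | nil => simp [h83_size]
  | cons l L ih => simp only [h83_size, List.sum_cons, ih]; omega

/-- the first `k` blocks are forward cycles, the others reversed cycles, then fixed points -/
noncomputable def h83_build : ℕ → (L : List ℕ) → (φ : ℕ) → Perm (Fin (h83_size L φ))
  | _, [], φ => 1
  | 0, l :: L, φ => h83_join (finRotate l)⁻¹ (h83_build 0 L φ)
  | k + 1, l :: L, φ => h83_join (finRotate l) (h83_build k L φ)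

theorem h83_build_nil (k φ : ℕ) : h83_build k [] φ = 1 := by
  cases k <;> rfl

theorem h83_build_zero (l : ℕ) (L : List ℕ) (φ : ℕ) :
    h83_build 0 (l :: L) φ = h83_join (finRotate l)⁻¹ (h83_build 0 L φ) := rfl

theorem h83_build_succ (k l : ℕ) (L : List ℕ) (φ : ℕ) :
    h83_build (k + 1) (l :: L) φ = h83_join (finRotate l) (h83_build k L φ) := rfl

/-- the number of non-first points of the reversed blocks -/
def h83_cntf : ℕ → List ℕ → ℕ
  | _, [] => 0
  | 0, l :: L => (l - 1) + h83_cntf 0 L
  | k + 1, l :: L => h83_cntf k L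

theorem h83_cntf_nil (k : ℕ) : h83_cntf k [] = 0 := by
  cases k <;> rfl

theorem h83_fin_cases {m n : ℕ} (z : Fin (m + n)) :
    (∃ i : Fin m, z = Fin.castAdd n i) ∨ (∃ j : Fin n, z = Fin.natAdd m j) := by
  by_cases h : (z : ℕ) < m
  · exact Or.inl ⟨⟨z, h⟩, Fin.ext rfl⟩
  · refine Or.inr ⟨⟨(z : ℕ) - m, by have := z.2; omega⟩, Fin.ext ?_⟩
    simp only [Fin.coe_natAdd]
    omega

theorem h83_cycleType_build (k : ℕ) (L : List ℕ) (φ : ℕ) (h2 : ∀ l ∈ L, 2 ≤ l) :
    (h83_build k L φ).cycleType = (L : Multiset ℕ) := by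
  induction L generalizing k with
  | nil =>
    rw [h83_build_nil, Perm.cycleType_one]
    rfl
  | cons l L ih =>
    have hl : 2 ≤ l := h2 l List.mem_cons_self
    have ih' := fun k => ih k (fun x hx => h2 x (List.mem_cons_of_mem _ hx))
    cases k with
    | zero =>
      have key : (h83_join (finRotate l)⁻¹ (h83_build 0 L φ)).cycleType
          = ((l :: L : List ℕ) : Multiset ℕ) := by
        rw [h83_cycleType_join, Perm.cycleType_inv, cycleType_finRotate_of_le hl, ih',
          Multiset.singleton_add, Multiset.cons_coe]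
      exact key
    | succ k =>
      have key : (h83_join (finRotate l) (h83_build k L φ)).cycleType
          = ((l :: L : List ℕ) : Multiset ℕ) := by
        rw [h83_cycleType_join, cycleType_finRotate_of_le hl, ih',
          Multiset.singleton_add, Multiset.cons_coe]
      exact key

theorem h83_cnt_build (k : ℕ) (L : List ℕ) (φ : ℕ) (h3 : ∀ l ∈ L, 3 ≤ l) :
    h83_cnt (h83_build k L φ) = h83_cntf k L := by
  induction L generalizing k with
  | nil =>
    rw [h83_build_nil, h83_cntf_nil]
    exact h83_cnt_one _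
  | cons l L ih =>
    have hl : 3 ≤ l := h3 l List.mem_cons_self
    have ih' := fun k => ih k (fun x hx => h3 x (List.mem_cons_of_mem _ hx))
    cases k with
    | zero =>
      have key : h83_cnt (h83_join (finRotate l)⁻¹ (h83_build 0 L φ))
          = (l - 1) + h83_cntf 0 L := by
        rw [h83_cnt_join, h83_cnt_rev l (by omega), ih']
      exact key
    | succ k =>
      have key : h83_cnt (h83_join (finRotate l) (h83_build k L φ)) = h83_cntf k L := by
        rw [h83_cnt_join, h83_cnt_rot l hl, ih', zero_add]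
      exact key

theorem h83_cntf_dvd (p : ℕ) (k : ℕ) (L : List ℕ) (hp : ∀ l ∈ L, p ∣ l ∧ 1 ≤ l)
    (hk : k ≤ L.length) : p ∣ h83_cntf k L + (L.length - k) := by
  induction L generalizing k with
  | nil =>
    rw [h83_cntf_nil]
    simp
  | cons l L ih =>
    have hl := hp l List.mem_cons_self
    have ih' := fun k => ih k (fun x hx => hp x (List.mem_cons_of_mem _ hx))
    cases k with
    | zero =>
      have h1 := ih' 0 (Nat.zero_le _)
      have h2 : h83_cntf 0 (l :: L) + ((l :: L).length - 0)
          = l + (h83_cntf 0 L + (L.length - 0)) := by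
        have : h83_cntf 0 (l :: L) = (l - 1) + h83_cntf 0 L := rfl
        rw [this, List.length_cons]
        omega
      rw [h2]
      exact dvd_add hl.1 h1
    | succ k =>
      have h1 := ih' k (by simpa using hk)
      have h2 : h83_cntf (k + 1) (l :: L) + ((l :: L).length - (k + 1))
          = h83_cntf k L + (L.length - k) := by
        have : h83_cntf (k + 1) (l :: L) = h83_cntf k L := rfl
        rw [this, List.length_cons]
        omega
      rw [h2]
      exact h1

theorem h83_cntf_ge (k : ℕ) (L : List ℕ) (h3 : ∀ l ∈ L, 3 ≤ l) (hk : k < L.length) :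
    2 ≤ h83_cntf k L := by
  induction L generalizing k with
  | nil => simp at hk
  | cons l L ih =>
    have hl := h3 l List.mem_cons_self
    have ih' := fun k => ih k (fun x hx => h3 x (List.mem_cons_of_mem _ hx))
    cases k with
    | zero =>
      have : h83_cntf 0 (l :: L) = (l - 1) + h83_cntf 0 L := rfl
      omega
    | succ k =>
      have : h83_cntf (k + 1) (l :: L) = h83_cntf k L := rfl
      rw [this]
      exact ih' k (by simpa using hk)

/-- beyond the forward blocks, `b z` is congruent to `z` or to `z - 1` modulo `p` -/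
theorem h83_build_mod (p : ℕ) (k : ℕ) (L : List ℕ) (φ : ℕ) (hp : ∀ l ∈ L, p ∣ l)
    (z : Fin (h83_size L φ)) (hz : (L.take k).sum ≤ (z : ℕ)) :
    (p : ℤ) ∣ (((h83_build k L φ z : Fin (h83_size L φ)) : ℕ) : ℤ) - ((z : ℕ) : ℤ) ∨
    (p : ℤ) ∣ (((h83_build k L φ z : Fin (h83_size L φ)) : ℕ) : ℤ) - ((z : ℕ) : ℤ) + 1 := by
  induction L generalizing k with
  | nil =>
    left
    rw [h83_build_nil, Perm.one_apply, sub_self]
    exact dvd_zero _
  | cons l L ih =>
    have hl := hp l List.mem_cons_self
    have ih' := fun k => ih k (fun x hx => hp x (List.mem_cons_of_mem _ hx))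
    rcases h83_fin_cases (m := l) (n := h83_size L φ) z with ⟨i, rfl⟩ | ⟨j, rfl⟩
    · cases k with
      | zero =>
        have key : (p : ℤ) ∣ (((h83_join (finRotate l)⁻¹ (h83_build 0 L φ)
            (Fin.castAdd (h83_size L φ) i) : Fin (l + h83_size L φ)) : ℕ) : ℤ)
            - (((Fin.castAdd (h83_size L φ) i : Fin (l + h83_size L φ)) : ℕ) : ℤ) + 1 := by
          rw [h83_join_castAdd]
          simp only [Fin.coe_castAdd]
          have h1 := h83_rev_val l i
          by_cases h0 : (i : ℕ) = 0
          · have h2 := h1.2 h0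
            have : ((((finRotate l)⁻¹ i : Fin l) : ℕ) : ℤ) - ((i : ℕ) : ℤ) + 1 = (l : ℤ) := by
              have e1 : ((((finRotate l)⁻¹ i : Fin l) : ℕ) : ℤ) + 1 = (l : ℤ) := by
                exact_mod_cast h2
              have e2 : ((i : ℕ) : ℤ) = 0 := by exact_mod_cast h0
              rw [e2]; linarith
            rw [this]
            exact Int.natCast_dvd_natCast.mpr hl
          · have h2 := h1.1.mpr h0
            have : ((((finRotate l)⁻¹ i : Fin l) : ℕ) : ℤ) - ((i : ℕ) : ℤ) + 1 = 0 := by
              have e1 : ((((finRotate l)⁻¹ i : Fin l) : ℕ) : ℤ) + 1 = ((i : ℕ) : ℤ) := by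
                exact_mod_cast h2
              linarith
            rw [this]
            exact dvd_zero _
        exact Or.inr key
      | succ k =>
        exfalso
        have h1 : ((l :: L).take (k + 1)).sum = l + (L.take k).sum := by simp
        rw [h1] at hz
        have hz' : l + (L.take k).sum ≤ (i : ℕ) := hz
        have := i.2
        omega
    · have hval : ∀ (σ : Perm (Fin l)) (τ : Perm (Fin (h83_size L φ))),
          (((h83_join σ τ (Fin.natAdd l j) : Fin (l + h83_size L φ)) : ℕ) : ℤ)
            - (((Fin.natAdd l j : Fin (l + h83_size L φ)) : ℕ) : ℤ)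
          = (((τ j : Fin (h83_size L φ)) : ℕ) : ℤ) - ((j : ℕ) : ℤ) := by
        intro σ τ
        rw [h83_join_natAdd]
        simp only [Fin.coe_natAdd]
        push_cast
        ring
      cases k with
      | zero =>
        have h1 := ih' 0 j (by simp)
        have key : (p : ℤ) ∣ (((h83_join (finRotate l)⁻¹ (h83_build 0 L φ) (Fin.natAdd l j) :
              Fin (l + h83_size L φ)) : ℕ) : ℤ)
              - (((Fin.natAdd l j : Fin (l + h83_size L φ)) : ℕ) : ℤ) ∨
            (p : ℤ) ∣ (((h83_join (finRotate l)⁻¹ (h83_build 0 L φ) (Fin.natAdd l j) :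
              Fin (l + h83_size L φ)) : ℕ) : ℤ)
              - (((Fin.natAdd l j : Fin (l + h83_size L φ)) : ℕ) : ℤ) + 1 := by
          rw [hval]
          exact h1
        exact key
      | succ k =>
        have h2 : ((l :: L).take (k + 1)).sum = l + (L.take k).sum := by simp
        rw [h2] at hz
        have hz' : l + (L.take k).sum ≤ l + (j : ℕ) := hz
        have h1 := ih' k j (by omega)
        have key : (p : ℤ) ∣ (((h83_join (finRotate l) (h83_build k L φ) (Fin.natAdd l j) :
              Fin (l + h83_size L φ)) : ℕ) : ℤ)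
              - (((Fin.natAdd l j : Fin (l + h83_size L φ)) : ℕ) : ℤ) ∨
            (p : ℤ) ∣ (((h83_join (finRotate l) (h83_build k L φ) (Fin.natAdd l j) :
              Fin (l + h83_size L φ)) : ℕ) : ℤ)
              - (((Fin.natAdd l j : Fin (l + h83_size L φ)) : ℕ) : ℤ) + 1 := by
          rw [hval]
          exact h1
        exact key

/-- beyond all blocks, `b` fixes every point -/
theorem h83_build_fix (k : ℕ) (L : List ℕ) (φ : ℕ) (z : Fin (h83_size L φ))
    (hz : L.sum ≤ (z : ℕ)) : h83_build k L φ z = z := by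
  induction L generalizing k with
  | nil => rw [h83_build_nil, Perm.one_apply]
  | cons l L ih =>
    rw [List.sum_cons] at hz
    rcases h83_fin_cases (m := l) (n := h83_size L φ) z with ⟨i, rfl⟩ | ⟨j, rfl⟩
    · exfalso
      have hz' : l + L.sum ≤ (i : ℕ) := hz
      have := i.2
      omega
    · have hz' : l + L.sum ≤ l + (j : ℕ) := hz
      cases k with
      | zero =>
        have key : h83_join (finRotate l)⁻¹ (h83_build 0 L φ) (Fin.natAdd l j)
            = Fin.natAdd l j := by
          rw [h83_join_natAdd, ih 0 j (by omega)]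
        exact key
      | succ k =>
        have key : h83_join (finRotate l) (h83_build k L φ) (Fin.natAdd l j)
            = Fin.natAdd l j := by
          rw [h83_join_natAdd, ih k j (by omega)]
        exact key

theorem h83_build_lt (k l : ℕ) (L : List ℕ) (φ : ℕ) (z : Fin (h83_size (l :: L) φ))
    (hz : (z : ℕ) < l) : ((h83_build k (l :: L) φ z : Fin (h83_size (l :: L) φ)) : ℕ) < l := by
  have hz' : z = Fin.castAdd (h83_size L φ) (⟨z, hz⟩ : Fin l) := Fin.ext rfl
  rw [hz']
  cases k with
  | zero =>
    have key : ((h83_join (finRotate l)⁻¹ (h83_build 0 L φ)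
        (Fin.castAdd (h83_size L φ) (⟨z, hz⟩ : Fin l)) : Fin (l + h83_size L φ)) : ℕ) < l := by
      rw [h83_join_castAdd]
      exact (((finRotate l)⁻¹ ⟨z, hz⟩ : Fin l)).2
    exact key
  | succ k =>
    have key : ((h83_join (finRotate l) (h83_build k L φ)
        (Fin.castAdd (h83_size L φ) (⟨z, hz⟩ : Fin l)) : Fin (l + h83_size L φ)) : ℕ) < l := by
      rw [h83_join_castAdd]
      exact ((finRotate l ⟨z, hz⟩ : Fin l)).2
    exact key

theorem h83_build_one_zero (l : ℕ) (hl : 3 ≤ l) (L : List ℕ) (φ : ℕ)
    (z : Fin (h83_size (l :: L) φ)) (hz : (z : ℕ) = 1) :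
    ((h83_build 0 (l :: L) φ z : Fin (h83_size (l :: L) φ)) : ℕ) = 0 := by
  have hz1 : (z : ℕ) < l := by omega
  have hz' : z = Fin.castAdd (h83_size L φ) (⟨z, hz1⟩ : Fin l) := Fin.ext rfl
  rw [hz']
  have key : ((h83_join (finRotate l)⁻¹ (h83_build 0 L φ)
      (Fin.castAdd (h83_size L φ) (⟨z, hz1⟩ : Fin l)) : Fin (l + h83_size L φ)) : ℕ) = 0 := by
    rw [h83_join_castAdd]
    simp only [Fin.coe_castAdd]
    have h1 := (h83_rev_val l ⟨z, hz1⟩).1.mpr (by simp [hz])
    simp only at h1
    omega
  exact key

theorem h83_build_one_succ (k l : ℕ) (hl : 3 ≤ l) (L : List ℕ) (φ : ℕ)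
    (z : Fin (h83_size (l :: L) φ)) (hz : (z : ℕ) = 1) :
    ((h83_build (k + 1) (l :: L) φ z : Fin (h83_size (l :: L) φ)) : ℕ) = 2 := by
  have hz1 : (z : ℕ) < l := by omega
  have hz' : z = Fin.castAdd (h83_size L φ) (⟨z, hz1⟩ : Fin l) := Fin.ext rfl
  rw [hz']
  have key : ((h83_join (finRotate l) (h83_build k L φ)
      (Fin.castAdd (h83_size L φ) (⟨z, hz1⟩ : Fin l)) : Fin (l + h83_size L φ)) : ℕ) = 2 := by
    rw [h83_join_castAdd]
    simp only [Fin.coe_castAdd]
    rw [h83_rot_val]
    simp only
    rw [if_neg (by omega)]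
    omega
  exact key

end Cfsg.Agent.Lib.helper95.AP
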