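import Mathlib
import Cfsg.Agent.Lib.helper95.APDefs
import Cfsg.Agent.Lib.helper83.APINTVBase
import Cfsg.Agent.Lib.helper83.APINTVBuild

/-!
S2276 split (helper95), piece INTV, racer copy by helper83: the core, with the statement of GPC
(for the given `p`, `e`) as a hypothesis.
-/

set_option autoImplicit false
set_option linter.unusedVariables false
set_option linter.unusedSectionVars false
set_option linter.style.longLine false

namespace Cfsg.Agent.Lib.helper95.AP

open Equiv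

theorem h83_fix_filter (N : ℕ) (b : Perm (Fin N))
    (h0 : ∀ z : Fin N, (z : ℕ) = 0 → ((b z : Fin N) : ℕ) + 1 ≠ N) :
    (Finset.univ.filter (fun z : Fin N => (finRotate N * b) z = z)).card = h83_cnt b := by
  unfold h83_cnt
  congr 1
  ext z
  rw [Finset.mem_filter, Finset.mem_filter]
  simp only [Finset.mem_univ, true_and]
  rw [Perm.mul_apply, Fin.ext_iff, h83_rot_val]
  have h1 := h0 z
  have h2 := z.2
  split_ifs with h
  · constructor
    · intro hz; exact absurd h (h1 hz.symm)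
    · intro hz; omega
  · rfl

theorem h83_not_nodup (p : ℕ) (hp : p.Prime) (e : ℕ) (L : List ℕ) (hL0 : L ≠ [])
    (hpow : ∀ l ∈ L, ∃ j : ℕ, 1 ≤ j ∧ l = p ^ j ∧ l < p ^ e) (hsum : L.sum = p ^ e) :
    ¬ L.Nodup := by
  intro hnd
  have hne : L.toFinset.Nonempty := by
    obtain ⟨a, ha⟩ := List.exists_mem_of_ne_nil L hL0
    exact ⟨a, List.mem_toFinset.mpr ha⟩
  obtain ⟨m, hm, hmin⟩ := Finset.exists_min_image L.toFinset id hne
  rw [List.mem_toFinset] at hm
  obtain ⟨j, hj1, hmj, hlt⟩ := hpow m hm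
  have hje : j < e := by
    rw [hmj] at hlt
    exact (Nat.pow_lt_pow_iff_right hp.one_lt).mp hlt
  have hdvd_e : p ^ (j + 1) ∣ p ^ e := pow_dvd_pow p (by omega)
  have hrest : p ^ (j + 1) ∣ (L.erase m).sum := by
    apply List.dvd_sum
    intro x hx
    rw [hnd.mem_erase_iff] at hx
    obtain ⟨i, hi1, hxi, -⟩ := hpow x hx.2
    have hmx : m ≤ x := hmin x (List.mem_toFinset.mpr hx.2)
    rw [hmj, hxi] at hmx
    have hji : j ≤ i := (Nat.pow_le_pow_iff_right hp.one_lt).mp hmx
    have hne' : i ≠ j := by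
      intro h; apply hx.1; rw [hxi, hmj, h]
    rw [hxi]
    exact pow_dvd_pow p (by omega)
  have hs : m + (L.erase m).sum = L.sum := List.sum_erase hm
  rw [hsum] at hs
  rw [← hs] at hdvd_e
  have hm' : p ^ (j + 1) ∣ m := (Nat.dvd_add_left hrest).mp hdvd_e
  rw [hmj] at hm'
  have := (Nat.pow_dvd_pow_iff_le_right hp.one_lt).mp hm'
  omega

theorem h83_goodBoth (p : ℕ) (N : ℕ) (b : Perm (Fin N)) (hgood : Good p (finRotate N) b)
    (hc : ¬ (N ≤ b.cycleType.sum + 1 ∧ ∀ i, b.cycleType.count i ≤ 1)) :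
    GoodBoth p (finRotate N) b := by
  refine ⟨hgood, ?_⟩
  have h1 : ¬ (Subgroup.centralizer {b} ≤ alternatingGroup (Fin N)) := by
    intro h
    rw [Equiv.Perm.centralizer_le_alternating_iff] at h
    apply hc
    refine ⟨?_, h.2.2⟩
    have := h.2.1
    rwa [Fintype.card_fin] at this
  obtain ⟨τ, hτc, hτa⟩ := SetLike.not_le_iff_exists.mp h1
  refine ⟨τ, ?_, ?_⟩
  · rw [Equiv.Perm.mem_alternatingGroup] at hτa
    rcases Int.units_eq_one_or (Perm.sign τ) with h | h
    · exact absurd h hτa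
    · exact h
  · have hcomm : τ * b = b * τ := Subgroup.mem_centralizer_singleton_iff.mp hτc
    have : τ * b * τ⁻¹ = b := by rw [hcomm, mul_inv_cancel_right]
    rw [this]; exact hgood

theorem h83_intv_core (p : ℕ) (hp : p.Prime) (hp3 : 3 ≤ p) (e : ℕ) (L : List ℕ) (hL0 : L ≠ [])
    (hpow : ∀ l ∈ L, ∃ j : ℕ, 1 ≤ j ∧ l = p ^ j ∧ l < p ^ e)
    (hsum : L.sum ≤ p ^ e)
    (hgpc : ∀ (b : Perm (Fin (p ^ e))) (x y : Fin (p ^ e)),
      ((p ^ (e - 1) : ℕ) : ℤ) ∣ ((x : ℕ) : ℤ) - ((y : ℕ) : ℤ) →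
      ¬ (p : ℤ) ∣ (((b x : Fin (p ^ e)) : ℕ) : ℤ) - (((b y : Fin (p ^ e)) : ℕ) : ℤ) →
      ∀ f : ℕ,
        (Finset.univ.filter (fun z : Fin (p ^ e) => (finRotate (p ^ e) * b) z = z)).card = f →
        2 ≤ f → ¬ p ∣ f → Good p (finRotate (p ^ e)) b) :
    ∃ b : Perm (Fin (p ^ e)), b.cycleType = (L : Multiset ℕ) ∧
      GoodBoth p (finRotate (p ^ e)) b := by
  obtain ⟨φ, hφ⟩ : ∃ φ, L.sum + φ = p ^ e := ⟨p ^ e - L.sum, by omega⟩
  have hS : h83_size L φ = p ^ e := by rw [h83_size_eq]; exact hφ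
  have hgpcN : ∀ (N : ℕ), N = p ^ e → ∀ (b : Perm (Fin N)) (x y : Fin N),
      ((p ^ (e - 1) : ℕ) : ℤ) ∣ ((x : ℕ) : ℤ) - ((y : ℕ) : ℤ) →
      ¬ (p : ℤ) ∣ (((b x : Fin N) : ℕ) : ℤ) - (((b y : Fin N) : ℕ) : ℤ) →
      ∀ f : ℕ, (Finset.univ.filter (fun z : Fin N => (finRotate N * b) z = z)).card = f →
        2 ≤ f → ¬ p ∣ f → Good p (finRotate N) b := by
    intro N hN
    subst hN
    exact hgpc
  suffices H : ∃ b : Perm (Fin (h83_size L φ)), b.cycleType = (L : Multiset ℕ) ∧
      GoodBoth p (finRotate (h83_size L φ)) b by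
    have T : ∀ (N M : ℕ), N = M →
        (∃ b : Perm (Fin N), b.cycleType = (L : Multiset ℕ) ∧ GoodBoth p (finRotate N) b) →
        ∃ b : Perm (Fin M), b.cycleType = (L : Multiset ℕ) ∧ GoodBoth p (finRotate M) b := by
      intro N M h hb
      subst h
      exact hb
    exact T _ _ hS H
  have hG := hgpcN _ hS
  obtain ⟨P, hP⟩ : ∃ P, P = p ^ (e - 1) := ⟨_, rfl⟩
  have hfacts : ∀ l ∈ L, p ∣ l ∧ 3 ≤ l ∧ l ≤ P ∧ l < p ^ e := by
    intro l hl
    obtain ⟨j, hj1, hlj, hlt⟩ := hpow l hl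
    have hje : j < e := by
      rw [hlj] at hlt
      exact (Nat.pow_lt_pow_iff_right hp.one_lt).mp hlt
    refine ⟨?_, ?_, ?_, hlt⟩
    · rw [hlj]; exact dvd_pow_self p (by omega)
    · rw [hlj]
      calc 3 ≤ p := hp3
        _ = p ^ 1 := (pow_one p).symm
        _ ≤ p ^ j := Nat.pow_le_pow_right hp.pos hj1
    · rw [hlj, hP]; exact Nat.pow_le_pow_right hp.pos (by omega)
  obtain ⟨l₁, L', rfl⟩ : ∃ l₁ L', L = l₁ :: L' := List.exists_cons_of_ne_nil hL0
  have h1 := hfacts l₁ List.mem_cons_self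
  have he2 : 2 ≤ e := by
    obtain ⟨j, hj1, hlj, hlt⟩ := hpow l₁ List.mem_cons_self
    have hje : j < e := by
      rw [hlj] at hlt
      exact (Nat.pow_lt_pow_iff_right hp.one_lt).mp hlt
    omega
  have hpe : p ^ e = p * P := by
    rw [hP, ← pow_succ']
    congr 1
    omega
  have hpP : p ∣ P := by rw [hP]; exact dvd_pow_self p (by omega)
  have hPpos : 0 < P := by rw [hP]; exact pow_pos hp.pos _
  have hP3 : 3 ≤ P := le_trans hp3 (Nat.le_of_dvd hPpos hpP)
  obtain ⟨q, hq⟩ : ∃ q, p = q + 1 := ⟨p - 1, by omega⟩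
  have hq2 : 2 ≤ q := by omega
  have hN : h83_size (l₁ :: L') φ = p * P := by rw [hS, hpe]
  have hqP : (q + 1) * P = q * P + P := by ring
  have hylt : 1 + q * P < h83_size (l₁ :: L') φ := by
    rw [hN, hq, hqP]; omega
  have hxlt : 1 < h83_size (l₁ :: L') φ := by omega
  obtain ⟨t, ht⟩ : ∃ t, t = (l₁ :: L').length := ⟨_, rfl⟩
  have ht1 : 1 ≤ t := by rw [ht]; simp
  obtain ⟨k, hk⟩ : ∃ k, k = if t = 1 then 0 else if t % p = 1 then 2 else 1 := ⟨_, rfl⟩
  have hkt : k < t ∧ ¬ p ∣ t - k ∧ k ≤ 2 ∧ (k = 0 → t = 1) := by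
    by_cases c1 : t = 1
    · rw [if_pos c1] at hk
      subst hk
      refine ⟨by omega, ?_, by omega, fun _ => c1⟩
      rw [c1]
      intro h
      have := Nat.le_of_dvd (by norm_num) h
      omega
    · rw [if_neg c1] at hk
      by_cases c2 : t % p = 1
      · rw [if_pos c2] at hk
        subst hk
        have ht3 : 3 ≤ t := by
          by_contra hlt
          have : t = 2 := by omega
          rw [this, Nat.mod_eq_of_lt (by omega)] at c2
          omega
        refine ⟨by omega, ?_, le_refl _, fun h => by omega⟩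
        intro h
        have h2 : (t - 1) % p = 0 :=
          Nat.sub_mod_eq_zero_of_mod_eq (by rw [c2, Nat.mod_eq_of_lt (by omega)])
        have h3 : p ∣ t - 1 := Nat.dvd_of_mod_eq_zero h2
        have h4 : p ∣ (t - 1) - (t - 2) := Nat.dvd_sub h3 h
        have h5 : (t - 1) - (t - 2) = 1 := by omega
        rw [h5] at h4
        have := Nat.le_of_dvd (by norm_num) h4
        omega
      · rw [if_neg c2] at hk
        subst hk
        refine ⟨by omega, ?_, by omega, fun h => by omega⟩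
        intro h
        obtain ⟨c, hc⟩ := h
        apply c2
        have : t = p * c + 1 := by omega
        rw [this, Nat.mul_add_mod, Nat.mod_eq_of_lt (by omega)]
  have h2all : ∀ l ∈ l₁ :: L', 2 ≤ l := fun l hl => by
    have := (hfacts l hl).2.1
    omega
  have h3all : ∀ l ∈ l₁ :: L', 3 ≤ l := fun l hl => (hfacts l hl).2.1
  have hct := h83_cycleType_build k (l₁ :: L') φ h2all
  refine ⟨h83_build k (l₁ :: L') φ, hct, ?_⟩
  have hcnt : h83_cnt (h83_build k (l₁ :: L') φ) = h83_cntf k (l₁ :: L') :=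
    h83_cnt_build k _ φ h3all
  have hf : (Finset.univ.filter (fun z : Fin (h83_size (l₁ :: L') φ) =>
      (finRotate (h83_size (l₁ :: L') φ) * h83_build k (l₁ :: L') φ) z = z)).card
      = h83_cntf k (l₁ :: L') := by
    refine (h83_fix_filter _ _ ?_).trans hcnt
    intro z hz
    have hlt := h83_build_lt k l₁ L' φ z (by omega)
    have h2 := h1.2.2.2
    rw [← hS] at h2
    omega
  have hf2 : 2 ≤ h83_cntf k (l₁ :: L') :=
    h83_cntf_ge k _ h3all (by rw [← ht]; exact hkt.1)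
  have hfp : ¬ p ∣ h83_cntf k (l₁ :: L') := by
    intro h
    have h2 := h83_cntf_dvd p k (l₁ :: L')
      (fun l hl => ⟨(hfacts l hl).1, by have := (hfacts l hl).2.1; omega⟩)
      (by rw [← ht]; omega)
    rw [← ht] at h2
    exact hkt.2.1 ((Nat.dvd_add_right h).mp h2)
  have hgood : Good p (finRotate (h83_size (l₁ :: L') φ)) (h83_build k (l₁ :: L') φ) := by
    refine hG (h83_build k (l₁ :: L') φ) ⟨1, hxlt⟩ ⟨1 + q * P, hylt⟩ ?_ ?_ _ hf hf2 hfp
    · rw [← hP]
      refine ⟨-(q : ℤ), ?_⟩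
      show ((1 : ℕ) : ℤ) - ((1 + q * P : ℕ) : ℤ) = (P : ℤ) * (-(q : ℤ))
      push_cast
      ring
    · intro hdiv
      have hpP' : (p : ℤ) ∣ (q : ℤ) * (P : ℤ) :=
        Dvd.dvd.mul_left (Int.natCast_dvd_natCast.mpr hpP) _
      have hy : (((⟨1 + q * P, hylt⟩ : Fin (h83_size (l₁ :: L') φ)) : ℕ) : ℤ)
          = 1 + (q : ℤ) * (P : ℤ) := by
        show ((1 + q * P : ℕ) : ℤ) = 1 + (q : ℤ) * (P : ℤ)
        push_cast
        ring
      have hno1 : ¬ (p : ℤ) ∣ 1 := by
        intro h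
        have h' : p ∣ 1 := by exact_mod_cast h
        have := Nat.le_of_dvd (by norm_num) h'
        omega
      have hno2 : ¬ (p : ℤ) ∣ 2 := by
        intro h
        have h' : p ∣ 2 := by exact_mod_cast h
        have := Nat.le_of_dvd (by norm_num) h'
        omega
      have hPq : P ≤ q * P := Nat.le_mul_of_pos_left P (by omega)
      rcases Nat.eq_zero_or_pos k with hk0 | hkpos
      · have ht1' : t = 1 := hkt.2.2.2 hk0
        have hL' : L' = [] := by
          rw [ht] at ht1'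
          simpa using ht1'
        subst hL'
        rw [hk0] at hdiv
        have hbx := h83_build_one_zero l₁ h1.2.1 [] φ ⟨1, hxlt⟩ rfl
        have hby := h83_build_fix 0 [l₁] φ ⟨1 + q * P, hylt⟩ (by
          have := h1.2.2.1
          show [l₁].sum ≤ 1 + q * P
          simp only [List.sum_cons, List.sum_nil]
          omega)
        rw [hbx, hby, hy] at hdiv
        apply hno1
        have e1 : (1 : ℤ) = -(((0 : ℕ) : ℤ) - (1 + (q : ℤ) * (P : ℤ))) - (q : ℤ) * (P : ℤ) := by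
          push_cast; ring
        rw [e1]
        exact dvd_sub (dvd_neg.mpr hdiv) hpP'
      · obtain ⟨k', rfl⟩ : ∃ k', k = k' + 1 := ⟨k - 1, by omega⟩
        have hbx := h83_build_one_succ k' l₁ h1.2.1 L' φ ⟨1, hxlt⟩ rfl
        have htake : ((l₁ :: L').take (k' + 1)).sum ≤ 1 + q * P := by
          have h2 : ((l₁ :: L').take (k' + 1)).sum ≤ ((l₁ :: L').take (k' + 1)).length * P := by
            have := List.sum_le_card_nsmul ((l₁ :: L').take (k' + 1)) P
              (fun x hx => (hfacts x (List.mem_of_mem_take hx)).2.2.1)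
            simpa [smul_eq_mul] using this
          have h3 : ((l₁ :: L').take (k' + 1)).length ≤ 2 := by
            have := List.length_take_le (k' + 1) (l₁ :: L')
            omega
          have h4 : ((l₁ :: L').take (k' + 1)).length * P ≤ 2 * P := Nat.mul_le_mul_right P h3
          have h5 : 2 * P ≤ q * P := Nat.mul_le_mul_right P hq2
          omega
        have hmod := h83_build_mod p (k' + 1) (l₁ :: L') φ (fun l hl => (hfacts l hl).1)
          ⟨1 + q * P, hylt⟩ htake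
        rw [hbx] at hdiv
        rw [hy] at hmod
        obtain ⟨B, hB⟩ : ∃ B : ℤ, B = (((h83_build (k' + 1) (l₁ :: L') φ ⟨1 + q * P, hylt⟩ :
            Fin (h83_size (l₁ :: L') φ)) : ℕ) : ℤ) := ⟨_, rfl⟩
        rw [← hB] at hdiv hmod
        rcases hmod with hm | hm
        · apply hno1
          have e1 : (1 : ℤ) = (((2 : ℕ) : ℤ) - B) + (B - (1 + (q : ℤ) * (P : ℤ)))
              + (q : ℤ) * (P : ℤ) := by push_cast; ring
          rw [e1]
          exact dvd_add (dvd_add hdiv hm) hpP'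
        · apply hno2
          have e1 : (2 : ℤ) = (((2 : ℕ) : ℤ) - B) + (B - (1 + (q : ℤ) * (P : ℤ)) + 1)
              + (q : ℤ) * (P : ℤ) := by push_cast; ring
          rw [e1]
          exact dvd_add (dvd_add hdiv hm) hpP'
  apply h83_goodBoth p _ _ hgood
  rw [hct]
  rintro ⟨hc1, hc2⟩
  rw [Multiset.sum_coe, hS] at hc1
  have hpsum : p ∣ (l₁ :: L').sum := List.dvd_sum (fun x hx => (hfacts x hx).1)
  have hpφ : p ∣ φ := by
    have : p ∣ (l₁ :: L').sum + φ := by rw [hφ, hpe]; exact dvd_mul_right p P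
    exact (Nat.dvd_add_right hpsum).mp this
  have hφ0 : φ = 0 := by
    by_contra h
    have := Nat.le_of_dvd (by omega) hpφ
    omega
  have hsumeq : (l₁ :: L').sum = p ^ e := by omega
  apply h83_not_nodup p hp e (l₁ :: L') hL0 hpow hsumeq
  rw [List.nodup_iff_count_le_one]
  intro a
  have := hc2 a
  rwa [Multiset.coe_count] at this

end Cfsg.Agent.Lib.helper95.AP
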