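import Mathlib
import Cfsg.Agent.Lib.helper95.APDefs
import Cfsg.Agent.Lib.helper83.APINTVCore
import Cfsg.Agent.Lib.helper29.APINTV

/-!
S2276 split (helper95), piece INTV: spare racer copy by helper83 (block-sum route), on top of the
landed GPC racer `h29_gpc`.
-/

set_option autoImplicit false
set_option linter.unusedVariables false
set_option linter.unusedSectionVars false
set_option linter.style.longLine false

namespace Cfsg.Agent.Lib.helper95.AP

open Equiv

theorem h83_intv (p : ℕ) (hp : p.Prime) (hp3 : 3 ≤ p) (e : ℕ) (L : List ℕ) (hL0 : L ≠ [])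
    (hsort : L.Pairwise (· ≥ ·)) (hpow : ∀ l ∈ L, ∃ j : ℕ, 1 ≤ j ∧ l = p ^ j ∧ l < p ^ e)
    (hsum : L.sum ≤ p ^ e) :
    ∃ b : Perm (Fin (p ^ e)), b.cycleType = (L : Multiset ℕ) ∧ GoodBoth p (finRotate (p ^ e)) b := by
  have he : 1 ≤ e := by
    obtain ⟨l, hl⟩ := List.exists_mem_of_ne_nil L hL0
    obtain ⟨j, hj1, hlj, hlt⟩ := hpow l hl
    rw [hlj] at hlt
    have := (Nat.pow_lt_pow_iff_right hp.one_lt).mp hlt
    omega
  exact h83_intv_core p hp hp3 e L hL0 hpow hsum
    (fun b x y hxy hbxy f hf hf2 hfp => h29_gpc p hp hp3 e he b x y hxy hbxy f hf hf2 hfp)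

end Cfsg.Agent.Lib.helper95.AP
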