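import Mathlib
import Cfsg.Prelude.Def_Characters
import Cfsg.Prelude.Def_Blocks
import Cfsg.Agent.Lib.helper84.BrDefs
import Cfsg.Agent.Lib.helper14.BR0Defs
import Cfsg.Agent.Lib.helper72.BR_CH2

/-!
S4700 piece DX (`dvd_X`), insurance copy by helper83: the degrees of the characters in `X` divide
`e (1 + n p) = |G : C_G(P)|`.  Also the index computation `index_centralizer_singleton_h83`.
-/

set_option autoImplicit false
set_option linter.unusedVariables false
set_option linter.unusedSectionVars false

namespace Cfsg.Agent.Lib.helper83.BR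

open Cfsg Cfsg.Agent.Lib.helper81 Cfsg.Agent.Lib.helper84.Br Cfsg.Agent.Lib.helper14.BR
open scoped ComplexConjugate

universe u

/-- A Sylow subgroup of prime order has a non-identity element. -/
theorem exists_ne_one_h83 {G : Type u} [Group G] {p : ℕ} [Fact p.Prime] (P : Sylow p G)
    (hP : Nat.card P = p) : ∃ x : G, x ∈ (P : Subgroup G) ∧ x ≠ 1 := by
  have hp : p.Prime := Fact.out
  have hfin : Finite (P : Subgroup G) := Nat.finite_of_card_ne_zero (by rw [hP]; exact hp.pos.ne')
  have hnt : Nontrivial (P : Subgroup G) := by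
    apply (Finite.one_lt_card_iff_nontrivial).mp
    rw [hP]; exact hp.one_lt
  obtain ⟨x', hx'⟩ := exists_ne (1 : (P : Subgroup G))
  refine ⟨x'.1, x'.2, fun h => hx' (Subtype.ext h)⟩

/-- For `x ∈ P ∖ 1`, `|P| = p`: `C_G(x) = C_G(P)`. -/
theorem centralizer_singleton_h83 {G : Type u} [Group G] {p : ℕ} [Fact p.Prime] (P : Sylow p G)
    (hP : Nat.card P = p) (x : G) (hx : x ∈ (P : Subgroup G)) (hx1 : x ≠ 1) :
    Subgroup.centralizer ({x} : Set G) = Subgroup.centralizer ((P : Subgroup G) : Set G) := by
  have hp : p.Prime := Fact.out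
  have hfin : Finite (P : Subgroup G) := Nat.finite_of_card_ne_zero (by rw [hP]; exact hp.pos.ne')
  have hz : Subgroup.zpowers x = (P : Subgroup G) := by
    have hle : Subgroup.zpowers x ≤ (P : Subgroup G) := by
      rw [Subgroup.zpowers_le]; exact hx
    apply Subgroup.eq_of_le_of_card_ge hle
    rw [hP, Nat.card_zpowers]
    have hd : orderOf x ∣ p := by
      have h1 := orderOf_dvd_natCard (⟨x, hx⟩ : (P : Subgroup G))
      rw [hP, Subgroup.orderOf_mk] at h1
      exact h1
    rcases (Nat.dvd_prime hp).mp hd with h | h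
    · exact absurd (orderOf_eq_one_iff.mp h) hx1
    · exact h.ge
  ext g
  rw [Subgroup.mem_centralizer_iff, Subgroup.mem_centralizer_iff]
  constructor
  · intro h y hy
    have hy' : y ∈ Subgroup.zpowers x := by rw [hz]; exact hy
    obtain ⟨k, rfl⟩ := Subgroup.mem_zpowers_iff.mp hy'
    have hc : Commute x g := h x (Set.mem_singleton x)
    exact (hc.zpow_left k).eq
  · intro h y hy
    rw [Set.mem_singleton_iff] at hy
    rw [hy]
    exact h x hx

/-- `|G : C_G(x)| = e (1 + n p)` for `x ∈ P ∖ 1`. -/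
theorem index_centralizer_singleton_h83 {G : Type u} [Group G] [Finite G] {p : ℕ} [Fact p.Prime]
    (P : Sylow p G) {e n : ℕ} (hP : Nat.card P = p)
    (he : (Subgroup.centralizer ((P : Subgroup G) : Set G)).relIndex
        (Subgroup.normalizer ((P : Subgroup G) : Set G)) = e)
    (hn : Nat.card (Sylow p G) = 1 + n * p) (x : G) (hx : x ∈ (P : Subgroup G)) (hx1 : x ≠ 1) :
    (Subgroup.centralizer ({x} : Set G)).index = e * (1 + n * p) := by
  rw [centralizer_singleton_h83 P hP x hx hx1]
  have hle : Subgroup.centralizer ((P : Subgroup G) : Set G) ≤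
      Subgroup.normalizer ((P : Subgroup G) : Set G) := Subgroup.centralizer_le_normalizer _
  have h1 := Subgroup.relIndex_mul_index hle
  rw [he] at h1
  rw [← h1, ← hn, Sylow.card_eq_index_normalizer P]
  rfl

section pieces

variable {G : Type u} [Group G] [Fintype G] {p : ℕ} [Fact p.Prime] {P : Sylow p G} {e n : ℕ}

/-- DX : the degrees in `X` divide `e (1 + n p) = |G : C_G(P)|`. -/
theorem dvd_X (D : Data0 G p P e) (hP : Nat.card P = p)
    (he : (Subgroup.centralizer ((P : Subgroup G) : Set G)).relIndex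
        (Subgroup.normalizer ((P : Subgroup G) : Set G)) = e)
    (hn : Nat.card (Sylow p G) = 1 + n * p) (χ : IrrCharacter G) (hχ : χ ∈ D.X) :
    charDegree (χ : G → ℂ) ∣ e * (1 + n * p) := by
  obtain ⟨x, hx, hx1⟩ := exists_ne_one_h83 P hP
  have hp : p.Prime := Fact.out
  have hval := D.val_X χ hχ x hx hx1 1 (Subgroup.one_mem _)
    (by rw [orderOf_one]; exact fun hd => hp.one_lt.ne' (Nat.dvd_one.mp hd))
  rw [mul_one] at hval
  have h1 : (χ : G → ℂ) x = 1 ∨ (χ : G → ℂ) x = -1 := by
    rcases D.δ_sq χ hχ with h | h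
    · left; rw [hval, h]; norm_num
    · right; rw [hval, h]; norm_num
  have h2 := Cfsg.Agent.Lib.helper21.BR.deg_dvd_index χ x h1
  rw [index_centralizer_singleton_h83 P hP he hn x hx hx1] at h2
  exact h2

end pieces

end Cfsg.Agent.Lib.helper83.BR
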