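import Mathlib
import Cfsg.Prelude.Def_CaseTheorems
import Cfsg.Agent.Lib.helper40.Cores
import Cfsg.Agent.Lib.helper38.HallHigman2

/-!
S4700 piece QC (`quot_core`), insurance copy by helper83: the quotient of a perfect finite group by
`O_{p'}(G)` is perfect, has trivial `O_{p'}`, and `|O_{p'}(G)|` is prime to `p`.
-/

set_option autoImplicit false
set_option linter.unusedVariables false
set_option linter.unusedSectionVars false

namespace Cfsg.Agent.Lib.helper83.BR

universe u

/-- QC : the quotient by `O_{p'}(G)`. -/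
theorem quot_core {G : Type u} [Group G] [Finite G] (hperf : commutator G = ⊤) (p : ℕ)
    [Fact p.Prime] :
    commutator (G ⧸ Cfsg.pPrimeCore p G) = ⊤ ∧
      Cfsg.pPrimeCore p (G ⧸ Cfsg.pPrimeCore p G) = ⊥ ∧
      (Nat.card (Cfsg.pPrimeCore p G)).Coprime p := by
  refine ⟨?_, Cfsg.Agent.Lib.helper38.pPrimeCore_quotient_pPrimeCore p G,
    Cfsg.Agent.Lib.helper40.pPrimeCore_card_coprime p G⟩
  have hsurj := QuotientGroup.mk'_surjective (Cfsg.pPrimeCore p G)
  have h1 : (commutator G).map (QuotientGroup.mk' (Cfsg.pPrimeCore p G)) =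
      commutator (G ⧸ Cfsg.pPrimeCore p G) := by
    rw [commutator_def, commutator_def, Subgroup.map_commutator,
      Subgroup.map_top_of_surjective _ hsurj]
  rw [← h1, hperf, Subgroup.map_top_of_surjective _ hsurj]

end Cfsg.Agent.Lib.helper83.BR
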