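import Mathlib
import Cfsg.Agent.Lib.helper74.CG17

/-!
# Class sizes `{1, n, m, nm}`: the final contradiction of part C1 (stage 2b)
-/

set_option autoImplicit false
set_option linter.unusedSectionVars false
set_option linter.style.haveILetI false
set_option linter.unusedVariables false

namespace Cfsg.Agent.Lib.helper83

open Cfsg.Agent.Lib.helper74

variable {G : Type*} [Group G] [Finite G]

theorem c1_lt_card_of_class (N : Subgroup G) (hN : N.Normal) {a : G} (haN : a ∈ N)
    (ha1 : a ≠ 1) : csz a < Nat.card N := by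
  rw [← card_class a]
  have h1 : Nat.card {x : G // IsConj a x} = Set.ncard {x : G | IsConj a x} :=
    Nat.card_coe_set_eq _
  have h2 : Nat.card N = Set.ncard (N : Set G) := Nat.card_coe_set_eq _
  rw [h1, h2]
  apply Set.ncard_lt_ncard _ (Set.toFinite _)
  constructor
  · intro x hx
    obtain ⟨g, hg⟩ := isConj_iff.mp hx
    rw [← hg]
    exact hN.conj_mem a haN g
  · intro hsub
    have h3 : IsConj a 1 := hsub N.one_mem
    obtain ⟨g, hg⟩ := isConj_iff.mp h3
    apply ha1
    have e : a = g⁻¹ * (g * a * g⁻¹) * g := by group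
    rw [hg] at e
    simpa using e

theorem c1_card_mul_le_of_disjoint (A B C : Subgroup G) (hA : A ≤ C) (hB : B ≤ C)
    (hAB : ∀ x ∈ A, x ∈ B → x = 1) : Nat.card A * Nat.card B ≤ Nat.card C := by
  rw [← Nat.card_prod]
  apply Nat.card_le_card_of_injective
    (fun p : A × B => (⟨(p.1 : G) * (p.2 : G), C.mul_mem (hA p.1.2) (hB p.2.2)⟩ : C))
  rintro ⟨⟨x, hx⟩, ⟨y, hy⟩⟩ ⟨⟨x', hx'⟩, ⟨y', hy'⟩⟩ hEq
  have e : x * y = x' * y' := congrArg Subtype.val hEq
  have h1 : x'⁻¹ * x = y' * y⁻¹ := by
    calc x'⁻¹ * x = x'⁻¹ * (x * y) * y⁻¹ := by group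
      _ = x'⁻¹ * (x' * y') * y⁻¹ := by rw [e]
      _ = y' * y⁻¹ := by group
  have h2 : x'⁻¹ * x = 1 :=
    hAB _ (A.mul_mem (A.inv_mem hx') hx) (by rw [h1]; exact B.mul_mem hy' (B.inv_mem hy))
  have h3 : x = x' := (inv_mul_eq_one.mp h2).symm
  subst h3
  have h4 : y = y' := mul_left_cancel e
  subst h4
  rfl

theorem c1_card_le_index_mul (D C : Subgroup G) :
    Nat.card D ≤ C.index * Nat.card (D ⊓ C : Subgroup G) := by
  have h1 := Subgroup.card_mul_index D
  have h2 := Subgroup.card_mul_index (D ⊓ C)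
  have h3 : (D ⊓ C).index ≤ D.index * C.index := Subgroup.index_inf_le
  have hpos : 0 < D.index := Nat.pos_of_ne_zero Subgroup.index_ne_zero_of_finite
  have key : Nat.card D * D.index ≤ C.index * Nat.card (D ⊓ C : Subgroup G) * D.index := by
    calc Nat.card D * D.index = Nat.card (D ⊓ C : Subgroup G) * (D ⊓ C).index := by rw [h1, h2]
      _ ≤ Nat.card (D ⊓ C : Subgroup G) * (D.index * C.index) := Nat.mul_le_mul_left _ h3
      _ = C.index * Nat.card (D ⊓ C : Subgroup G) * D.index := by ring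
  exact Nat.le_of_mul_le_mul_right key hpos

theorem c1_card_eq_of_index_eq (A B : Subgroup G) (h : A.index = B.index) :
    Nat.card A = Nat.card B := by
  have h1 := Subgroup.card_mul_index A
  have h2 := Subgroup.card_mul_index B
  have hpos : 0 < B.index := Nat.pos_of_ne_zero Subgroup.index_ne_zero_of_finite
  rw [h] at h1
  exact Nat.eq_of_mul_eq_mul_right hpos (h1.trans h2.symm)

/-- The subgroup `C(x) ∩ C(y)`. -/
abbrev c1D (x y : G) : Subgroup G :=
  Subgroup.centralizer ({x} : Set G) ⊓ Subgroup.centralizer ({y} : Set G)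

theorem mem_c1D {x y g : G} : g ∈ c1D x y ↔ x * g = g * x ∧ y * g = g * y := by
  show g ∈ Subgroup.centralizer ({x} : Set G) ⊓ Subgroup.centralizer ({y} : Set G) ↔ _
  rw [Subgroup.mem_inf, mem_cent_sing, mem_cent_sing]

theorem index_c1D {n m : ℕ} (hcop : n.Coprime m) {x y : G} (hx : csz x = n) (hy : csz y = m) :
    (c1D x y).index = n * m := by
  have hx' : (Subgroup.centralizer ({x} : Set G)).index = n := hx
  have hy' : (Subgroup.centralizer ({y} : Set G)).index = m := hy
  show (Subgroup.centralizer ({x} : Set G) ⊓ Subgroup.centralizer ({y} : Set G)).index = n * m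
  rw [Cfsg.Agent.Lib.helper12.index_inf_of_coprime _ _ (by rw [hx', hy']; exact hcop), hx', hy']

/-- The hypotheses of stage 2b of part C1. -/
structure C1Hyp (G : Type*) [Group G] (n m : ℕ) (a b : G) (N : Subgroup G) (q : ℕ) : Prop where
  hn : 1 < n
  hm : 1 < m
  hcop : n.Coprime m
  hall : ∀ g : G, csz g = 1 ∨ csz g = n ∨ csz g = m ∨ csz g = n * m
  hX : ∀ (a : G) (p k : ℕ), p.Prime → orderOf a = p ^ k → csz a = n → p ∣ m
  hY : ∀ (b : G) (p k : ℕ), p.Prime → orderOf b = p ^ k → csz b = m → p ∣ n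
  hb : csz b = m
  hNn : N.Normal
  hNX : ∀ x : G, csz x = n → N ≤ Subgroup.centralizer ({x} : Set G)
  haN : a ∈ N
  ha : csz a = n
  hq : q.Prime
  hao : ∃ k : ℕ, orderOf a = q ^ k
  hS4 : ∀ c ∈ N, c * b = b * c → c = 1
  hA : ∀ (d : G) (s j : ℕ), s.Prime → orderOf d = s ^ j → a * d = d * a → b * d = d * b →
    csz d ≠ n * m
  hB : ∀ d g : G, a * d = d * a → b * d = d * b → d * (g * a * g⁻¹) = g * a * g⁻¹ * d
  exw : ∃ w : G, csz w = n * m

variable {n m q : ℕ} {a b : G} {N : Subgroup G}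

theorem C1Hyp.mpos (H : C1Hyp G n m a b N q) : 0 < m := by have := H.hm; omega

theorem C1Hyp.a_ne_one (H : C1Hyp G n m a b N q) : a ≠ 1 := by
  intro ha1
  have h1 : csz a = 1 := (csz_eq_one_iff _).mpr (by rw [ha1]; exact Subgroup.one_mem _)
  have h2 : n = 1 := H.ha.symm.trans h1
  have h3 := H.hn
  omega

theorem C1Hyp.not_comm (H : C1Hyp G n m a b N q) : a * b ≠ b * a := fun hc =>
  H.a_ne_one (H.hS4 a H.haN hc)

theorem C1Hyp.q_dvd_m (H : C1Hyp G n m a b N q) : q ∣ m := by
  obtain ⟨k, hk⟩ := H.hao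
  exact H.hX a q k H.hq hk H.ha

theorem C1Hyp.lt_card (H : C1Hyp G n m a b N q) : n < Nat.card N := by
  have := c1_lt_card_of_class N H.hNn H.haN H.a_ne_one
  rwa [H.ha] at this

theorem C1Hyp.conj_mem (H : C1Hyp G n m a b N q) {h d : G} (hh : b * h = h * b)
    (hda : a * d = d * a) (hdb : b * d = d * b) :
    a * (h * d * h⁻¹) = h * d * h⁻¹ * a ∧ b * (h * d * h⁻¹) = h * d * h⁻¹ * b := by
  constructor
  · have e := H.hB d h⁻¹ hda hdb
    rw [inv_inv] at e
    calc a * (h * d * h⁻¹) = h * (h⁻¹ * a * h * d) * h⁻¹ := by group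
      _ = h * (d * (h⁻¹ * a * h)) * h⁻¹ := by rw [e]
      _ = h * d * h⁻¹ * a := by group
  · have c1 : Commute b h := hh
    have c2 : Commute b d := hdb
    exact ((c1.mul_right c2).mul_right c1.inv_right).eq

theorem C1Hyp.no_primary_n (H : C1Hyp G n m a b N q) (d : G) (s j : ℕ) (hs : s.Prime)
    (hd : orderOf d = s ^ j) (hda : a * d = d * a) (hdb : b * d = d * b) : csz d ≠ n := by
  intro hdn
  have hsm : s ∣ m := H.hX d s j hs hd hdn
  have hNd : N ≤ Subgroup.centralizer ({d} : Set G) := H.hNX d hdn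
  have hNa : N ≤ Subgroup.centralizer ({a} : Set G) := H.hNX a H.ha
  have hcomm : Commute a d := hda
  have hDi : (c1D a b).index = n * m := index_c1D H.hcop H.ha H.hb
  rcases H.hall (a * d) with h1 | h1 | h1 | h1
  · have hz := (csz_eq_one_iff _).mp h1
    have e1 : b * (a * d) = a * d * b := Subgroup.mem_center_iff.mp hz b
    apply H.not_comm
    have e2 : a * b * d = b * a * d := by
      calc a * b * d = a * (b * d) := by group
        _ = a * (d * b) := by rw [hdb]
        _ = a * d * b := by group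
        _ = b * (a * d) := e1.symm
        _ = b * a * d := by group
    exact mul_right_cancel e2
  · have hKi : (c1D b (a * d)).index = m * n := index_c1D H.hcop.symm H.hb h1
    have hKD : c1D b (a * d) ≤ c1D a b := by
      intro h hh
      obtain ⟨hhb, hhad⟩ := mem_c1D.mp hh
      refine mem_c1D.mpr ⟨?_, hhb⟩
      have hc1 : a⁻¹ * (h * a * h⁻¹) ∈ N :=
        N.mul_mem (N.inv_mem H.haN) (H.hNn.conj_mem a H.haN h)
      have hc2 : a⁻¹ * (h * a * h⁻¹) = d * (h * d * h⁻¹)⁻¹ := by
        have e : h * (a * d) * h⁻¹ = a * d := by rw [← hhad]; group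
        calc a⁻¹ * (h * a * h⁻¹) = a⁻¹ * (h * (a * d) * h⁻¹) * (h * d * h⁻¹)⁻¹ := by group
          _ = a⁻¹ * (a * d) * (h * d * h⁻¹)⁻¹ := by rw [e]
          _ = d * (h * d * h⁻¹)⁻¹ := by group
      obtain ⟨k1, k2⟩ := H.conj_mem hhb hda hdb
      have hc3 : a⁻¹ * (h * a * h⁻¹) * b = b * (a⁻¹ * (h * a * h⁻¹)) := by
        rw [hc2]
        have c1 : Commute b d := hdb
        have c2 : Commute b (h * d * h⁻¹) := k2
        exact ((c1.mul_right c2.inv_right).eq).symm
      have hc4 := H.hS4 _ hc1 hc3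
      have hc5 : h * a * h⁻¹ = a := (inv_mul_eq_one.mp hc4).symm
      calc a * h = (h * a * h⁻¹) * h := by rw [hc5]
        _ = h * a := by group
    have hDK : c1D a b ≤ c1D b (a * d) :=
      le_of_le_of_index_le hKD (by rw [hKi, hDi, mul_comm])
    have hD'i : (c1D b d).index = m * n := index_c1D H.hcop.symm H.hb hdn
    have hDD' : c1D a b ≤ c1D b d := by
      intro x hx
      obtain ⟨-, hxad⟩ := mem_c1D.mp (hDK hx)
      obtain ⟨hxa, hxb⟩ := mem_c1D.mp hx
      refine mem_c1D.mpr ⟨hxb, ?_⟩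
      have c1 : Commute a x := hxa
      have c2 : Commute (a * d) x := hxad
      have c3 : Commute (a⁻¹ * (a * d)) x := c1.inv_left.mul_left c2
      have e : a⁻¹ * (a * d) = d := by group
      rw [e] at c3
      exact c3.eq
    have hD'D : c1D b d ≤ c1D a b :=
      le_of_le_of_index_le hDD' (by rw [hD'i, hDi, mul_comm])
    have hbD' : b ∈ c1D b d := mem_c1D.mpr ⟨rfl, hdb.symm⟩
    exact H.not_comm (mem_c1D.mp (hD'D hbD')).1
  · obtain ⟨k, hk⟩ := H.hao
    by_cases hsq : s = q
    · subst hsq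
      have hpow : (a * d) ^ (s ^ (k + j)) = 1 := by
        rw [hcomm.mul_pow]
        have e1 : a ^ (s ^ (k + j)) = 1 := by
          apply orderOf_dvd_iff_pow_eq_one.mp
          rw [hk]; exact pow_dvd_pow s (Nat.le_add_right k j)
        have e2 : d ^ (s ^ (k + j)) = 1 := by
          apply orderOf_dvd_iff_pow_eq_one.mp
          rw [hd]; exact pow_dvd_pow s (Nat.le_add_left j k)
        rw [e1, e2, one_mul]
      obtain ⟨i, -, hi⟩ := (Nat.dvd_prime_pow hs).mp (orderOf_dvd_of_pow_eq_one hpow)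
      have hqn : s ∣ n := H.hY (a * d) s i hs hi h1
      exact not_dvd_of_coprime hs H.hcop hqn hsm
    · have hco : (orderOf a).Coprime (orderOf d) := by
        rw [hk, hd]
        exact Nat.Coprime.pow _ _ ((Nat.coprime_primes H.hq hs).mpr (Ne.symm hsq))
      have hle := cent_mul_le hcomm hco
      have hdv : csz a ∣ csz (a * d) := Subgroup.index_dvd_of_le (hle.trans inf_le_left)
      rw [H.ha, h1] at hdv
      have h2 : n ∣ Nat.gcd n m := Nat.dvd_gcd dvd_rfl hdv
      rw [H.hcop.gcd_eq_one] at h2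
      have h3 := Nat.dvd_one.mp h2
      have h4 := H.hn
      omega
  · have hcard : Nat.card (Subgroup.centralizer ({a * d} : Set G)) = Nat.card (c1D a b) :=
      c1_card_eq_of_index_eq _ _ (by rw [hDi]; exact h1)
    have hNle : N ≤ Subgroup.centralizer ({a * d} : Set G) := by
      intro x hx
      have c1 : Commute a x := mem_cent_sing.mp (hNa hx)
      have c2 : Commute d x := mem_cent_sing.mp (hNd hx)
      exact mem_cent_sing.mpr (c1.mul_left c2).eq
    have hEle : c1D a b ⊓ Subgroup.centralizer ({d} : Set G)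
        ≤ Subgroup.centralizer ({a * d} : Set G) := by
      intro x hx
      have c1 : Commute a x := (mem_c1D.mp hx.1).1
      have c2 : Commute d x := mem_cent_sing.mp hx.2
      exact mem_cent_sing.mpr (c1.mul_left c2).eq
    have hdisj : ∀ x ∈ N, x ∈ c1D a b ⊓ Subgroup.centralizer ({d} : Set G) → x = 1 := by
      intro x hxN hx
      exact H.hS4 x hxN ((mem_c1D.mp hx.1).2).symm
    have h2 := c1_card_mul_le_of_disjoint N _ _ hNle hEle hdisj
    have h3 := c1_card_le_index_mul (c1D a b) (Subgroup.centralizer ({d} : Set G))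
    have hdn' : (Subgroup.centralizer ({d} : Set G)).index = n := hdn
    rw [hdn'] at h3
    rw [hcard] at h2
    have hpos : 0 < Nat.card (c1D a b ⊓ Subgroup.centralizer ({d} : Set G) : Subgroup G) :=
      Nat.card_pos
    have h4 : Nat.card N * Nat.card (c1D a b ⊓ Subgroup.centralizer ({d} : Set G) : Subgroup G)
        ≤ n * Nat.card (c1D a b ⊓ Subgroup.centralizer ({d} : Set G) : Subgroup G) :=
      h2.trans h3
    have h5 := Nat.le_of_mul_le_mul_right h4 hpos
    have h6 := H.lt_card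
    omega

theorem C1Hyp.primary_central (H : C1Hyp G n m a b N q) (g : G) (s j : ℕ) (hs : s.Prime)
    (hg : orderOf g = s ^ j) (hsm : s ∣ m) (hgb : b * g = g * b) : g ∈ Subgroup.center G := by
  have hDi : (c1D a b).index = n * m := index_c1D H.hcop H.ha H.hb
  have hb' : (Subgroup.centralizer ({b} : Set G)).index = m := H.hb
  have hle : c1D a b ≤ Subgroup.centralizer ({b} : Set G) := inf_le_right
  have hrel : (c1D a b).relIndex (Subgroup.centralizer ({b} : Set G)) = n := by
    have h1 := Subgroup.relIndex_mul_index hle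
    rw [hDi, hb'] at h1
    exact Nat.eq_of_mul_eq_mul_right H.mpos h1
  have hnorm : ((c1D a b).subgroupOf (Subgroup.centralizer ({b} : Set G))).Normal := by
    constructor
    intro x hx y
    rw [Subgroup.mem_subgroupOf] at hx ⊢
    have hy : b * (y : G) = y * b := mem_cent_sing.mp y.2
    obtain ⟨k1, k2⟩ := H.conj_mem hy (mem_c1D.mp hx).1 (mem_c1D.mp hx).2
    have h0 : (y : G) * x * (y : G)⁻¹ ∈ c1D a b := mem_c1D.mpr ⟨k1, k2⟩
    simpa using h0
  have hgH : g ∈ Subgroup.centralizer ({b} : Set G) := mem_cent_sing.mpr hgb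
  have h1 : (⟨g, hgH⟩ : Subgroup.centralizer ({b} : Set G))
      ^ ((c1D a b).subgroupOf (Subgroup.centralizer ({b} : Set G))).index
      ∈ (c1D a b).subgroupOf (Subgroup.centralizer ({b} : Set G)) :=
    Subgroup.pow_index_mem _ _
  have h2 : g ^ n ∈ c1D a b := by
    rw [Subgroup.mem_subgroupOf] at h1
    have h1' : g ^ ((c1D a b).relIndex (Subgroup.centralizer ({b} : Set G))) ∈ c1D a b := by
      show g ^ ((c1D a b).subgroupOf (Subgroup.centralizer ({b} : Set G))).index ∈ c1D a b
      simpa using h1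
    rwa [hrel] at h1'
  have hsn : ¬ s ∣ n := fun hsn => not_dvd_of_coprime hs H.hcop hsn hsm
  have hco : n.Coprime (orderOf g) := by
    rw [hg]
    exact Nat.Coprime.pow_right j ((Nat.Prime.coprime_iff_not_dvd hs).mpr hsn).symm
  obtain ⟨l, hl⟩ := exists_pow_eq_self_of_coprime hco
  have hgD : g ∈ c1D a b := by
    rw [← hl]
    exact Subgroup.pow_mem _ h2 l
  obtain ⟨hga, -⟩ := mem_c1D.mp hgD
  rcases H.hall g with h | h | h | h
  · exact (csz_eq_one_iff g).mp h
  · exact absurd h (H.no_primary_n g s j hs hg hga hgb)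
  · exact absurd hsm (not_dvd_of_coprime hs H.hcop (H.hY g s j hs hg h))
  · exact absurd h (H.hA g s j hs hg hga hgb)

theorem C1Hyp.no_m_comm (H : C1Hyp G n m a b N q) (d : G) (hd : csz d = m)
    (hda : a * d = d * a) : False := by
  haveI : Fact q.Prime := ⟨H.hq⟩
  obtain ⟨k, hk⟩ := H.hao
  obtain ⟨P₁, -, hP₁⟩ := exists_sylow_relIndex q (Subgroup.centralizer ({b} : Set G))
    (u := 1) (Subgroup.one_mem _) (k := 0) (by simp)
  obtain ⟨P₂, haP₂, hP₂⟩ := exists_sylow_relIndex q (Subgroup.centralizer ({d} : Set G))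
    (u := a) (mem_cent_sing.mpr hda.symm) hk
  have hE : Nat.card (Subgroup.centralizer ({b} : Set G))
      = Nat.card (Subgroup.centralizer ({d} : Set G)) :=
    c1_card_eq_of_index_eq _ _ (by
      show csz b = csz d
      rw [H.hb, hd])
  have hcard := card_inf_eq_of_sylow q P₁ P₂ _ _ hE hP₁ hP₂
  have hle : (P₁ : Subgroup G) ⊓ Subgroup.centralizer ({b} : Set G)
      ≤ (P₂ : Subgroup G) ⊓ Subgroup.centralizer ({d} : Set G) := by
    intro x hx
    obtain ⟨i, hi⟩ := orderOf_of_mem_pgroup P₁.isPGroup' hx.1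
    have hz := H.primary_central x q i H.hq hi H.q_dvd_m (mem_cent_sing.mp hx.2)
    exact ⟨central_mem_sylow P₂ hz hi, mem_cent_sing.mpr (Subgroup.mem_center_iff.mp hz d)⟩
  have heq := Subgroup.eq_of_le_of_card_ge hle (le_of_eq hcard.symm)
  have haa : a ∈ (P₂ : Subgroup G) ⊓ Subgroup.centralizer ({d} : Set G) :=
    ⟨haP₂, mem_cent_sing.mpr hda.symm⟩
  rw [← heq] at haa
  exact H.not_comm (mem_cent_sing.mp haa.2).symm

theorem C1Hyp.false (H : C1Hyp G n m a b N q) : False := by
  have hprim : ∀ (x : G) (s j : ℕ), s.Prime → orderOf x = s ^ j → x ∈ c1D a b →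
      x ∈ Subgroup.center G := by
    intro x s j hs hx hxD
    obtain ⟨hxa, hxb⟩ := mem_c1D.mp hxD
    rcases H.hall x with h | h | h | h
    · exact (csz_eq_one_iff x).mp h
    · exact absurd h (H.no_primary_n x s j hs hx hxa hxb)
    · exact (H.no_m_comm x h hxa).elim
    · exact absurd h (H.hA x s j hs hx hxa hxb)
  have hDZ : c1D a b ≤ Subgroup.center G := by
    intro x hxD
    by_contra hx
    obtain ⟨p, k, j, hp, ho, hnc⟩ := exists_primary_pow_aux _ x rfl hx
    exact hnc (hprim (x ^ j) p k hp ho (Subgroup.pow_mem _ hxD j))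
  obtain ⟨w, hw⟩ := H.exw
  have hDw : c1D a b ≤ Subgroup.centralizer ({w} : Set G) := by
    intro x hxD
    exact mem_cent_sing.mpr (Subgroup.mem_center_iff.mp (hDZ hxD) w)
  have hwD : Subgroup.centralizer ({w} : Set G) ≤ c1D a b :=
    le_of_le_of_index_le hDw (by rw [index_c1D H.hcop H.ha H.hb]; exact le_of_eq hw.symm)
  have hwZ : w ∈ Subgroup.center G := hDZ (hwD (mem_cent_sing.mpr rfl))
  have h1 := (csz_eq_one_iff w).mpr hwZ
  rw [hw] at h1
  have h2 := H.hn
  have h3 := H.hm
  nlinarith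

/-- Stage 2b of part C1: the configuration is contradictory. -/
theorem partC1_stage2b {G : Type*} [Group G] [Finite G] (n m : ℕ) (hn : 1 < n) (hm : 1 < m)
    (hcop : n.Coprime m) (hlt : n < m)
    (h : Set.range (fun x : G => (Subgroup.centralizer ({x} : Set G)).index)
      = ({1, n, m, n * m} : Set ℕ))
    (hX : ∀ (a : G) (p k : ℕ), p.Prime → orderOf a = p ^ k →
      (Subgroup.centralizer ({a} : Set G)).index = n → p ∣ m)
    (hY : ∀ (b : G) (p k : ℕ), p.Prime → orderOf b = p ^ k →
      (Subgroup.centralizer ({b} : Set G)).index = m → p ∣ n)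
    (b : G) (hb : (Subgroup.centralizer ({b} : Set G)).index = m) (hbo : (orderOf b).Coprime m)
    (N : Subgroup G) (hNn : N.Normal) (hNm : Nat.card N ∣ m)
    (hNb : ∀ c ∈ N, IsConj b (c * b))
    (hNX : ∀ x : G, (Subgroup.centralizer ({x} : Set G)).index = n →
      N ≤ Subgroup.centralizer ({x} : Set G))
    (a : G) (haN : a ∈ N) (ha : (Subgroup.centralizer ({a} : Set G)).index = n)
    (q k : ℕ) (hq : q.Prime) (hao : orderOf a = q ^ k)
    (hS4 : ∀ c ∈ N, c * b = b * c → c = 1)
    (hA : ∀ (d : G) (s j : ℕ), s.Prime → orderOf d = s ^ j → a * d = d * a → b * d = d * b →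
      (Subgroup.centralizer ({d} : Set G)).index ≠ n * m)
    (hB : ∀ d g : G, a * d = d * a → b * d = d * b → d * (g * a * g⁻¹) = g * a * g⁻¹ * d) :
    False := by
  have hC : C1Hyp G n m a b N q :=
    { hn := hn
      hm := hm
      hcop := hcop
      hall := csz_cases h
      hX := hX
      hY := hY
      hb := hb
      hNn := hNn
      hNX := hNX
      haN := haN
      ha := ha
      hq := hq
      hao := ⟨k, hao⟩
      hS4 := hS4
      hA := hA
      hB := hB
      exw := by
        have h0 : n * m ∈ Set.range (fun x : G => (Subgroup.centralizer ({x} : Set G)).index) := by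
          rw [h]; simp
        exact h0 }
  exact hC.false

end Cfsg.Agent.Lib.helper83
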