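/-
Piece C2b of the split plan for statements S4441 / S0960: an element of the complex group
algebra that is killed by every irreducible representation is zero (and the stronger form:
by one irreducible representation for each irreducible character).
-/
import Mathlib
import Cfsg.Agent.Lib.helper84.Def1Defs
import Cfsg.Agent.Lib.helper20.CentralChar
import Cfsg.Agent.Lib.helper4.Regular

set_option autoImplicit false
set_option linter.unusedVariables false
set_option linter.unusedSimpArgs false
set_option linter.unusedTactic false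
set_option linter.unreachableTactic false
set_option linter.style.longLine false

namespace Cfsg.Agent.Lib.helper83

open Cfsg Cfsg.Agent.Lib.helper84

variable {G : Type*} [Group G] [Fintype G]

/-- The twisted character sums of an element killed by a representation. -/
theorem d1_sum_coeff_rep_eq_zero (b : MonoidAlgebra ℂ G) (n : ℕ)
    (ρ : Representation ℂ G (Fin n → ℂ)) (hb : ρ.asAlgebraHom b = 0) (h : G) :
    ∑ g : G, b.coeff g * ρ.character (h⁻¹ * g) = 0 := by
  classical
  have h1 : ρ.asAlgebraHom (MonoidAlgebra.single h⁻¹ 1 * b) = 0 := by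
    rw [map_mul, hb, mul_zero]
  have h2 := Cfsg.Agent.Lib.helper20.trace_asAlgebraHom ρ (MonoidAlgebra.single h⁻¹ 1 * b)
  rw [h1, map_zero] at h2
  rw [h2]
  apply Finset.sum_equiv (Equiv.mulLeft h⁻¹)
  · intro g
    simp
  · intro g _
    rw [MonoidAlgebra.coeff_single_mul_apply, one_mul, inv_inv]
    simp

/-- PIECE C2b' (one representation per character suffices). -/
theorem d1_eq_zero_of_rep_zero' (b : MonoidAlgebra ℂ G)
    (hb : ∀ χ : IrrCharacter G, ∃ (n : ℕ) (ρ : Representation ℂ G (Fin n → ℂ)),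
      ρ.IsIrreducible ∧ ρ.character = (χ : G → ℂ) ∧ ρ.asAlgebraHom b = 0) : b = 0 := by
  classical
  have := Fintype.ofFinite (Cfsg.IrrCharacter G)
  apply MonoidAlgebra.ext
  ext h
  rw [MonoidAlgebra.coeff_zero, Finsupp.zero_apply]
  have key : ∑ χ : IrrCharacter G, (χ : G → ℂ) 1 *
      ∑ g : G, b.coeff g * (χ : G → ℂ) (h⁻¹ * g) = 0 := by
    apply Finset.sum_eq_zero
    intro χ _
    obtain ⟨n, ρ, hρ, hχ, hz⟩ := hb χ
    rw [← hχ, d1_sum_coeff_rep_eq_zero b n ρ hz h, mul_zero]
  have h1 : ∑ χ : IrrCharacter G, (χ : G → ℂ) 1 *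
      ∑ g : G, b.coeff g * (χ : G → ℂ) (h⁻¹ * g) =
      ∑ g : G, b.coeff g * ∑ χ : IrrCharacter G, (χ : G → ℂ) 1 * (χ : G → ℂ) (h⁻¹ * g) := by
    simp_rw [Finset.mul_sum]
    rw [Finset.sum_comm]
    apply Finset.sum_congr rfl
    intro g _
    apply Finset.sum_congr rfl
    intro χ _
    ring
  rw [h1] at key
  simp_rw [Cfsg.Agent.Lib.helper4.sum_irr_degree_mul] at key
  rw [Finset.sum_eq_single h] at key
  · rw [if_pos (inv_mul_cancel h)] at key
    have hG : (Nat.card G : ℂ) ≠ 0 := by
      exact_mod_cast (Nat.card_pos (α := G)).ne'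
    exact (mul_eq_zero.mp key).resolve_right hG
  · intro g _ hg
    rw [if_neg, mul_zero]
    intro h2
    apply hg
    exact (inv_mul_eq_one.mp h2).symm
  · intro h2
    exact absurd (Finset.mem_univ h) h2

/-- PIECE C2b. -/
theorem d1_eq_zero_of_rep_zero (b : MonoidAlgebra ℂ G)
    (hb : ∀ (n : ℕ) (ρ : Representation ℂ G (Fin n → ℂ)), ρ.IsIrreducible →
      ρ.asAlgebraHom b = 0) : b = 0 := by
  apply d1_eq_zero_of_rep_zero' b
  intro χ
  obtain ⟨n, ρ, hρ, hχ⟩ := χ.2
  exact ⟨n, ρ, hρ, hχ, hb n ρ hρ⟩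

end Cfsg.Agent.Lib.helper83
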