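/-
Piece Y6 of the split plan for statements S4441 / S0960: the integral class sum of `g` acts on
an irreducible complex representation by the scalar `centralChar χ g`.
-/
import Mathlib
import Cfsg.Agent.Lib.helper84.Def1Defs
import Cfsg.Agent.Lib.helper20.CentralChar

set_option autoImplicit false
set_option linter.unusedVariables false
set_option linter.unusedSimpArgs false
set_option linter.unusedTactic false
set_option linter.unreachableTactic false
set_option linter.style.longLine false

namespace Cfsg.Agent.Lib.helper83

open Cfsg Cfsg.Agent.Lib.helper84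

variable {G : Type*} [Group G] [Fintype G]

/-- The image of the integral class sum in the complex group algebra. -/
theorem d1Iota_classSum (g : G) :
    d1Iota (d1ClassSum g) = Cfsg.Agent.Lib.helper20.classSum g := by
  classical
  unfold d1ClassSum Cfsg.Agent.Lib.helper20.classSum
  rw [map_sum, Finset.sum_filter]
  apply Finset.sum_congr rfl
  intro h _
  by_cases hc : IsConj g h
  · rw [Set.indicator_of_mem (show h ∈ {h : G | IsConj g h} from hc), if_pos hc]
    simp [d1Iota, MonoidAlgebra.of_apply]
  · rw [Set.indicator_of_notMem (show h ∉ {h : G | IsConj g h} from hc), if_neg hc, map_zero]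

/-- PIECE Y6 (class sums under irreducible representations). -/
theorem d1_rep_classSum (n : ℕ) (ρ : Representation ℂ G (Fin n → ℂ)) (hρ : ρ.IsIrreducible)
    (g : G) :
    ρ.asAlgebraHom (d1Iota (d1ClassSum g))
      = Cfsg.centralChar ρ.character g • (1 : (Fin n → ℂ) →ₗ[ℂ] (Fin n → ℂ)) := by
  classical
  have hconj : ∀ x y : G, IsConj x y → ρ.character x = ρ.character y :=
    Cfsg.Agent.Lib.helper20.isIrrCharacter_conj (⟨n, ρ, hρ, rfl⟩ : IsIrrCharacter G ρ.character)
  rw [d1Iota_classSum,
    Cfsg.Agent.Lib.helper20.asAlgebraHom_eq_omega_smul ρ hρ _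
      (Cfsg.Agent.Lib.helper20.isCentralElt_classSum g),
    Cfsg.Agent.Lib.helper20.omega_classSum ρ.character hconj g]

end Cfsg.Agent.Lib.helper83
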