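/-
Core of piece Y7b of the split plan for statements S4441 / S0960: the refined polynomial
identity on the Tate groups, from the central identity (Y7a), the class-sum lemma (Y1) and the
congruences (Y7c), all taken as hypotheses.
-/
import Mathlib
import Cfsg.Agent.Lib.helper84.Def1Defs

set_option autoImplicit false
set_option linter.unusedVariables false
set_option linter.unusedSimpArgs false
set_option linter.unusedTactic false
set_option linter.unreachableTactic false
set_option linter.style.longLine false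

namespace Cfsg.Agent.Lib.helper83

open Cfsg Cfsg.Agent.Lib.helper84

variable {G : Type*} [Group G] [Fintype G]

/-- The class-sum operator on the lattice, as an element of the integral group ring. -/
theorem d1Y7b_coe_classSum (Y : Finset (Cfsg.IrrCharacter G)) (x' : G) (w : d1L Y) :
    ((∑ g : G, Set.indicator {g : G | IsConj x' g} (fun g => d1Rho Y g w) g : d1L Y) :
        MonoidAlgebra ℤ G) = d1ClassSum x' * (w : MonoidAlgebra ℤ G) := by
  classical
  unfold d1ClassSum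
  rw [Finset.sum_mul, AddSubmonoidClass.coe_finset_sum]
  apply Finset.sum_congr rfl
  intro g _
  by_cases hc : IsConj x' g
  · rw [Set.indicator_of_mem (show g ∈ {g : G | IsConj x' g} from hc),
      Set.indicator_of_mem (show g ∈ {g : G | IsConj x' g} from hc), d1Rho_apply]
  · rw [Set.indicator_of_notMem (show g ∉ {g : G | IsConj x' g} from hc),
      Set.indicator_of_notMem (show g ∉ {g : G | IsConj x' g} from hc), zero_mul]
    rfl

/-- The same with the coercion pushed inside the sum. -/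
theorem d1Y7b_coe_classSum' (Y : Finset (Cfsg.IrrCharacter G)) (x' : G) (w : d1L Y) :
    (∑ g : G, ((Set.indicator {g : G | IsConj x' g} (fun g => d1Rho Y g w) g : d1L Y) :
        MonoidAlgebra ℤ G)) = d1ClassSum x' * (w : MonoidAlgebra ℤ G) := by
  rw [← d1Y7b_coe_classSum, AddSubmonoidClass.coe_finset_sum]

/-- Powers of a commuting endomorphism commute with the action. -/
theorem d1Y7b_pow_comm (Y : Finset (Cfsg.IrrCharacter G))
    (δ : d1L Y →ₗ[ℤ] d1L Y) (hδ : ∀ g : G, δ ∘ₗ d1Rho Y g = d1Rho Y g ∘ₗ δ) (k : ℕ) (g : G)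
    (w : d1L Y) : (δ ^ k) (d1Rho Y g w) = d1Rho Y g ((δ ^ k) w) := by
  induction k generalizing w with
  | zero => simp
  | succ k ih =>
    rw [pow_succ, Module.End.mul_apply, Module.End.mul_apply]
    have h1 : δ (d1Rho Y g w) = d1Rho Y g (δ w) := by
      have h2 := congrArg (fun F : d1L Y →ₗ[ℤ] d1L Y => F w) (hδ g)
      exact h2
    rw [h1, ih]

/-- The core of piece Y7b, with Y1, Y7a, Y7c as hypotheses. -/
theorem d1_exceptional_PI_core (p : ℕ) [Fact p.Prime]
    (P : Sylow p G) (hP : Nat.card P = p)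
    (x : G) (hx : x ∈ (P : Subgroup G)) (hx1 : x ≠ 1)
    (H : Subgroup (ZMod p)ˣ)
    (Y : Finset (Cfsg.IrrCharacter G))
    (f : ℕ) (w₀ s : ℤ) (hs : s = 1 ∨ s = -1)
    (δ : d1L Y →ₗ[ℤ] d1L Y) (hδ : ∀ g : G, δ ∘ₗ d1Rho Y g = d1Rho Y g ∘ₗ δ)
    (hY1a : ∀ (x' : G), x' ∈ (P : Subgroup G) → x' ≠ 1 →
      ∀ v ∈ d1FixC (d1Rho Y) (P : Subgroup G),
      (∑ g : G, Set.indicator {g : G | IsConj x' g} (fun g => d1Rho Y g v) g)
        - (Nat.card {g : G // IsConj x' g ∧ g ∈ (P : Subgroup G)} : ℤ) • v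
      ∈ (d1FixK p (d1Rho Y) (P : Subgroup G)).map (d1Tr (d1Rho Y) (P : Subgroup G)))
    (hY1b : ∀ (x' : G), x' ∈ (P : Subgroup G) → x' ≠ 1 →
      ∀ v ∈ d1FixK p (d1Rho Y) (P : Subgroup G),
      d1Tr (d1Rho Y) (P : Subgroup G) v = 0 →
      (∑ g : G, Set.indicator {g : G | IsConj x' g} (fun g => d1Rho Y g v) g)
        - (Nat.card {g : G // IsConj x' g ∧ g ∈ (P : Subgroup G)} : ℤ) • v
      ∈ d1Aug p (d1Rho Y) (P : Subgroup G))
    (hcnt : ∀ v : ℕ, ¬ p ∣ v →
        Nat.card {g : G // IsConj (x ^ v) g ∧ g ∈ (P : Subgroup G)} = Nat.card H)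
    (hidx : ((Subgroup.centralizer ((P : Subgroup G) : Set G)).index : ℤ)
      ≡ (Nat.card H : ℤ) [ZMOD p])
    (hfw : (f : ℤ) + w₀ ≡ s * (Nat.card H : ℤ) [ZMOD p])
    (hte : Y.card * Nat.card H = p - 1)
    (y : ℕ → ℕ → ℤ) (hysum : ∑ v ∈ Finset.Ico 1 p, y f v = -((p : ℤ) - 1))
    (hyid : ∀ b : d1L Y, ∑ k ∈ Finset.range (f + 1),
        (∑ v ∈ Finset.Ico 1 p, y k v • ((s * (f : ℤ)) • d1ClassSum (x ^ v)
            + (s * w₀ * ((Subgroup.centralizer ((P : Subgroup G) : Set G)).index : ℤ))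
              • (1 : MonoidAlgebra ℤ G)))
          * (((δ ^ k) b : d1L Y) : MonoidAlgebra ℤ G) = 0) :
    ∃ q : Polynomial ℤ, q.natDegree ≤ f ∧ (∃ k, ¬ (p : ℤ) ∣ q.coeff k) ∧
      (∀ v ∈ d1FixC (d1Rho Y) (P : Subgroup G),
        Polynomial.aeval δ q v ∈
          (d1FixK p (d1Rho Y) (P : Subgroup G)).map (d1Tr (d1Rho Y) (P : Subgroup G))) ∧
      (∀ v ∈ d1FixK p (d1Rho Y) (P : Subgroup G), d1Tr (d1Rho Y) (P : Subgroup G) v = 0 →
        Polynomial.aeval δ q v ∈ d1Aug p (d1Rho Y) (P : Subgroup G)) := by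
  classical
  have hp : p.Prime := Fact.out
  obtain ⟨e, he⟩ : ∃ e : ℤ, e = (Nat.card H : ℤ) := ⟨_, rfl⟩
  obtain ⟨idx, hidxdef⟩ : ∃ idx : ℤ,
      idx = ((Subgroup.centralizer ((P : Subgroup G) : Set G)).index : ℤ) := ⟨_, rfl⟩
  rw [← hidxdef, ← he] at hidx
  rw [← he] at hfw
  obtain ⟨c, hc⟩ : ∃ c : ℕ → ℤ, ∀ k,
      c k = ∑ v ∈ Finset.Ico 1 p, y k v * (s * f * e + s * w₀ * idx) := ⟨_, fun k => rfl⟩
  obtain ⟨q, hq⟩ : ∃ q : Polynomial ℤ,
      q = ∑ k ∈ Finset.range (f + 1), Polynomial.monomial k (c k) := ⟨_, rfl⟩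
  have haeval : ∀ b : d1L Y,
      Polynomial.aeval δ q b = ∑ k ∈ Finset.range (f + 1), c k • (δ ^ k) b := by
    intro b
    rw [hq, map_sum, LinearMap.sum_apply]
    apply Finset.sum_congr rfl
    intro k _
    rw [Polynomial.aeval_monomial]
    simp
  have hox : orderOf x = p := by
    have h1 : orderOf x ∣ p := by
      have h2 := orderOf_dvd_natCard (⟨x, hx⟩ : (P : Subgroup G))
      rw [hP] at h2
      rwa [Subgroup.orderOf_mk] at h2
    rcases (Nat.dvd_prime hp).mp h1 with h | h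
    · exact absurd (orderOf_eq_one_iff.mp h) hx1
    · exact h
  have hxv : ∀ v ∈ Finset.Ico 1 p, x ^ v ∈ (P : Subgroup G) ∧ x ^ v ≠ 1 ∧ ¬ p ∣ v := by
    intro v hv
    rw [Finset.mem_Ico] at hv
    have hnd : ¬ p ∣ v := fun h => by
      have h1 := Nat.le_of_dvd (by omega) h
      omega
    refine ⟨(P : Subgroup G).pow_mem hx v, ?_, hnd⟩
    intro h
    apply hnd
    rw [← hox]
    exact orderOf_dvd_of_pow_eq_one h
  have hkey : ∀ b : d1L Y, (∑ k ∈ Finset.range (f + 1), c k • (δ ^ k) b) +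
      ∑ k ∈ Finset.range (f + 1), ∑ v ∈ Finset.Ico 1 p, (y k v * (s * f)) •
        ((∑ g : G, Set.indicator {g : G | IsConj (x ^ v) g}
            (fun g => d1Rho Y g ((δ ^ k) b)) g)
          - e • (δ ^ k) b) = 0 := by
    intro b
    apply Subtype.ext
    simp only [Submodule.coe_add, AddSubmonoidClass.coe_finset_sum, Submodule.coe_smul,
      Submodule.coe_sub, d1Y7b_coe_classSum', ZeroMemClass.coe_zero]
    rw [← hyid b, ← Finset.sum_add_distrib]
    apply Finset.sum_congr rfl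
    intro k _
    rw [hc k, Finset.sum_smul, Finset.sum_mul, ← Finset.sum_add_distrib, ← hidxdef]
    apply Finset.sum_congr rfl
    intro v _
    simp only [smul_mul_assoc, add_mul, one_mul]
    module
  have hfixC : ∀ k, ∀ v ∈ d1FixC (d1Rho Y) (P : Subgroup G),
      (δ ^ k) v ∈ d1FixC (d1Rho Y) (P : Subgroup G) := by
    intro k v hv g hg
    rw [← d1Y7b_pow_comm Y δ hδ k g v, hv g hg]
  have hfixK : ∀ k, ∀ v ∈ d1FixK p (d1Rho Y) (P : Subgroup G),
      (δ ^ k) v ∈ d1FixK p (d1Rho Y) (P : Subgroup G) := by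
    intro k v hv g hg hpg
    rw [← d1Y7b_pow_comm Y δ hδ k g v, hv g hg hpg]
  have htr : ∀ k (v : d1L Y), d1Tr (d1Rho Y) (P : Subgroup G) ((δ ^ k) v) =
      (δ ^ k) (d1Tr (d1Rho Y) (P : Subgroup G) v) := by
    intro k v
    unfold d1Tr
    rw [LinearMap.sum_apply, LinearMap.sum_apply, map_sum]
    apply Finset.sum_congr rfl
    intro g _
    by_cases hg : g ∈ ((P : Subgroup G) : Set G)
    · rw [Set.indicator_of_mem hg, d1Y7b_pow_comm Y δ hδ k g v]
    · rw [Set.indicator_of_notMem hg]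
      simp
  refine ⟨q, ?_, ⟨f, ?_⟩, ?_, ?_⟩
  · rw [hq]
    apply Polynomial.natDegree_sum_le_of_forall_le
    intro k hk
    rw [Finset.mem_range] at hk
    exact (Polynomial.natDegree_monomial_le _).trans (by omega)
  · have hcoef : q.coeff f = c f := by
      rw [hq, Polynomial.finsetSum_coeff]
      simp only [Polynomial.coeff_monomial]
      rw [Finset.sum_ite_eq' (Finset.range (f + 1)) f (fun k => c k)]
      simp
    rw [hcoef, hc f, ← Finset.sum_mul, hysum]
    intro hdvd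
    have h1 : (p : ℤ) ∣ s * f * e + s * w₀ * idx := by
      have h0 : s * f * e + s * w₀ * idx =
          -((p : ℤ) - 1) * (s * f * e + s * w₀ * idx) + (p : ℤ) * (s * f * e + s * w₀ * idx) := by
        ring
      rw [h0]
      exact dvd_add hdvd (dvd_mul_right _ _)
    have h2 : s * f * e + s * w₀ * idx ≡ e * e [ZMOD p] := by
      have ha : s * w₀ * idx ≡ s * w₀ * e [ZMOD p] := Int.ModEq.mul_left _ hidx
      have hb : s * f * e + s * w₀ * e = (s * e) * (f + w₀) := by ring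
      have hc' : (s * e) * ((f : ℤ) + w₀) ≡ (s * e) * (s * e) [ZMOD p] :=
        Int.ModEq.mul_left _ hfw
      have hd : (s * e) * (s * e) = e * e := by
        rcases hs with rfl | rfl <;> ring
      calc s * f * e + s * w₀ * idx ≡ s * f * e + s * w₀ * e [ZMOD p] :=
            Int.ModEq.add_left _ ha
        _ = (s * e) * (f + w₀) := hb
        _ ≡ (s * e) * (s * e) [ZMOD p] := hc'
        _ = e * e := hd
    have h3 : (p : ℤ) ∣ e * e := by
      have h0 := Int.modEq_zero_iff_dvd.mpr h1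
      exact Int.modEq_zero_iff_dvd.mp (h2.symm.trans h0)
    have h4 : (p : ℤ) ∣ e := by
      rcases (Nat.prime_iff_prime_int.mp hp).dvd_or_dvd h3 with h | h <;> exact h
    rw [he] at h4
    have h5 : p ∣ Nat.card H := by exact_mod_cast h4
    have h6 : Nat.card H ∣ p - 1 := Dvd.intro_left _ hte
    have h7 : p ∣ p - 1 := h5.trans h6
    have h9 := hp.two_le
    have h8 := Nat.le_of_dvd (by omega) h7
    omega
  · intro v hv
    rw [haeval v, eq_neg_of_add_eq_zero_left (hkey v)]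
    apply Submodule.neg_mem
    apply Submodule.sum_mem
    intro k _
    apply Submodule.sum_mem
    intro v' hv'
    apply Submodule.smul_mem
    obtain ⟨hxP, hx1', hnd⟩ := hxv v' hv'
    have h3 := hY1a (x ^ v') hxP hx1' ((δ ^ k) v) (hfixC k v hv)
    rw [hcnt v' hnd] at h3
    rw [he]
    exact h3
  · intro v hv hv0
    rw [haeval v, eq_neg_of_add_eq_zero_left (hkey v)]
    apply Submodule.neg_mem
    apply Submodule.sum_mem
    intro k _
    apply Submodule.sum_mem
    intro v' hv'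
    apply Submodule.smul_mem
    obtain ⟨hxP, hx1', hnd⟩ := hxv v' hv'
    have h0 : d1Tr (d1Rho Y) (P : Subgroup G) ((δ ^ k) v) = 0 := by
      rw [htr k v, hv0, map_zero]
    have h3 := hY1b (x ^ v') hxP hx1' ((δ ^ k) v) (hfixK k v hv) h0
    rw [hcnt v' hnd] at h3
    rw [he]
    exact h3

end Cfsg.Agent.Lib.helper83
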