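import Mathlib
import Cfsg.Prelude.Def_Blocks
import Cfsg.Prelude.Def_Transfer
import Cfsg.Agent.Lib.helper83.Gagola

/-!
# Two-class irreducible characters, part 2: centralizers (helper83)
-/

set_option autoImplicit false

namespace Cfsg.Agent.Lib.helper83

open scoped ComplexConjugate

universe u

variable {G : Type u} [Group G]

/-- Facts about the support `N` of a two-class irreducible character, for a given subgroup `N`
whose elements are exactly the non-zeros of `χ`. -/
theorem gagola_facts [Finite G] (hG : 2 < Nat.card G) (χ : IrrCharacter G)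
    (hχ : Nat.card {C : ConjClasses G // ∃ g ∈ C.carrier, (χ : G → ℂ) g ≠ 0} = 2)
    (N : Subgroup G) (hN : ∀ g : G, g ∈ N ↔ (χ : G → ℂ) g ≠ 0) :
    N.Normal ∧ N ≠ ⊥ ∧
      (∀ x ∈ N, ∀ y ∈ N, x ≠ 1 → y ≠ 1 → IsConj x y) ∧
      (∀ K : Subgroup G, K.Normal → K ≠ ⊥ → N ≤ K) ∧
      (∀ ψ : IrrCharacter G, ψ ≠ χ → ∀ n ∈ N, (ψ : G → ℂ) n = (ψ : G → ℂ) 1) ∧
      (∃ p : ℕ, p.Prime ∧ IsElementaryAbelian p N) ∧
      (∀ y : G, y ∉ N → ∀ n ∈ N, IsConj (y * n) y) := by
  obtain ⟨N', hNn, hNbot, hmem, htrans, hmin, hker, hel⟩ := gagola_subgroup hG χ hχ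
  have hNN : N = N' := Subgroup.ext fun g => by rw [hN, hmem]
  subst hNN
  refine ⟨hNn, hNbot, htrans, hmin, hker, hel, ?_⟩
  intro y hy n hn
  apply isConj_of_forall_irr_eq
  intro ψ
  by_cases hψ : ψ = χ
  · rw [hψ]
    have hyn : y * n ∉ N := by
      intro h
      apply hy
      have := N.mul_mem h (N.inv_mem hn)
      simpa using this
    have h1 : (χ : G → ℂ) (y * n) = 0 := by
      by_contra h; exact hyn ((hmem _).mpr h)
    have h2 : (χ : G → ℂ) y = 0 := by
      by_contra h; exact hy ((hmem _).mpr h)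
    rw [h1, h2]
  · exact isCharacter_mul_ker (isCharacter_of_irr ψ.2) (hker ψ hψ n hn) y

section PGroup

variable [Finite G] (hG : 2 < Nat.card G) (χ : IrrCharacter G)
  (hχ : Nat.card {C : ConjClasses G // ∃ g ∈ C.carrier, (χ : G → ℂ) g ≠ 0} = 2)
  (p : ℕ) [Fact p.Prime] (N : Subgroup G) (hN : ∀ g : G, g ∈ N ↔ (χ : G → ℂ) g ≠ 0)
  (hNp : IsPGroup p N)

include hG hχ hN hNp

/-- Nonidentity elements of `N` have order `p`. -/
theorem gagola_orderOf {x : G} (hx : x ∈ N) (hx1 : x ≠ 1) : orderOf x = p := by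
  obtain ⟨-, -, -, -, -, ⟨q, hq, -, hpow⟩, -⟩ := gagola_facts hG χ hχ N hN
  have h1 : orderOf x ∣ q := orderOf_dvd_of_pow_eq_one (hpow x hx)
  have h2 : orderOf x = q := by
    rcases (Nat.dvd_prime hq).mp h1 with h | h
    · exact absurd (orderOf_eq_one_iff.mp h) hx1
    · exact h
  obtain ⟨k, hk⟩ := (IsPGroup.iff_orderOf.mp hNp) ⟨x, hx⟩
  rw [Subgroup.orderOf_mk, h2] at hk
  have hp : p.Prime := Fact.out
  rw [h2]
  have : q ∣ p ^ k := by rw [← hk]
  exact (Nat.prime_dvd_prime_iff_eq hq hp).mp (hq.dvd_of_dvd_pow this)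

/-- The centralizer of a nonidentity element of `N` is a `p`-group. -/
theorem gagola_centralizer_isPGroup {x : G} (hx : x ∈ N) (hx1 : x ≠ 1) :
    IsPGroup p (Subgroup.centralizer ({x} : Set G)) := by
  have hp : p.Prime := Fact.out
  obtain ⟨-, -, -, -, -, -, hcoset⟩ := gagola_facts hG χ hχ N hN
  have hxord : orderOf x = p := gagola_orderOf hG χ hχ p N hN hNp hx hx1
  rintro ⟨y, hy⟩
  have hcomm : Commute y x := by
    rw [Subgroup.mem_centralizer_iff] at hy
    exact (hy x rfl).symm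
  obtain ⟨a, r, hr, hor⟩ := Nat.exists_eq_pow_mul_and_not_dvd (orderOf_pos y).ne' p hp.ne_one
  refine ⟨a, ?_⟩
  apply Subtype.ext
  simp only [Subgroup.coe_pow, Subgroup.coe_one]
  by_contra hy'
  -- y' = y ^ (p ^ a) has order r, coprime to p
  have hy'ord : orderOf (y ^ p ^ a) = r := by
    rw [orderOf_pow' y (pow_ne_zero _ hp.ne_zero), hor, Nat.gcd_eq_right (Dvd.intro _ rfl)]
    exact Nat.mul_div_cancel_left _ (pow_pos hp.pos _)
  have hy'N : y ^ p ^ a ∉ N := by
    intro h
    obtain ⟨k, hk⟩ := (IsPGroup.iff_orderOf.mp hNp) ⟨y ^ p ^ a, h⟩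
    rw [Subgroup.orderOf_mk, hy'ord] at hk
    apply hr
    rcases Nat.eq_zero_or_pos k with h0 | h0
    · rw [h0, pow_zero] at hk
      rw [hk] at hy'ord
      exact absurd (orderOf_eq_one_iff.mp hy'ord) hy'
    · rw [hk]; exact dvd_pow_self p h0.ne'
  have hconj := hcoset _ hy'N x hx
  have h1 : orderOf (y ^ p ^ a * x) = r := by
    rw [orderOf_eq_of_isConj hconj, hy'ord]
  have hcop : (orderOf (y ^ p ^ a)).Coprime (orderOf x) := by
    rw [hy'ord, hxord]
    exact ((Nat.Prime.coprime_iff_not_dvd hp).mpr hr).symm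
  have h2 := (hcomm.pow_left (p ^ a)).orderOf_mul_eq_mul_orderOf_of_coprime hcop
  rw [h1, hy'ord, hxord] at h2
  have hrpos : 0 < r := by
    rw [← hy'ord]; exact orderOf_pos _
  have : r * 1 = r * p := by rw [mul_one]; exact h2
  have := Nat.eq_of_mul_eq_mul_left hrpos this
  exact hp.one_lt.ne this

/-- `p` does not divide `|N| - 1`. -/
theorem gagola_not_dvd : ¬ p ∣ Nat.card N - 1 := by
  have hp : p.Prime := Fact.out
  obtain ⟨-, hNbot, -, -, -, -, -⟩ := gagola_facts hG χ hχ N hN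
  have : Nontrivial N := (Subgroup.nontrivial_iff_ne_bot N).mpr hNbot
  obtain ⟨n, hn0, hn⟩ := hNp.nontrivial_iff_card.mp this
  rw [hn]
  intro h
  have h1 : p ∣ p ^ n := dvd_pow_self p hn0.ne'
  have h2 : 1 ≤ p ^ n := Nat.one_le_pow _ _ hp.pos
  have h3 : p ∣ 1 := by
    have := Nat.dvd_sub h1 h
    rwa [Nat.sub_sub_self h2] at this
  exact hp.one_lt.ne' (Nat.dvd_one.mp h3)

omit [Fact p.Prime] hNp in
/-- The class of a nonidentity element of `N` has `|N| - 1` elements. -/
theorem gagola_card_conj {x : G} (hx : x ∈ N) (hx1 : x ≠ 1) :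
    Nat.card {y : G // IsConj y x} = Nat.card N - 1 := by
  classical
  obtain ⟨hNn, -, htrans, -, -, -, -⟩ := gagola_facts hG χ hχ N hN
  have e : {y : G // IsConj y x} ≃ {n : N // n ≠ 1} :=
    { toFun := fun y => ⟨⟨y.1, by
          obtain ⟨g, hg⟩ := isConj_iff.mp y.2.symm
          rw [← hg]; exact hNn.conj_mem x hx g⟩, by
          intro h
          have h1 : y.1 = 1 := congrArg Subtype.val h
          have h2 := y.2
          rw [h1] at h2
          exact hx1 (isConj_one_right.mp h2)⟩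
      invFun := fun n => ⟨n.1.1, htrans _ n.1.2 x hx (fun h => n.2 (Subtype.ext h)) hx1⟩
      left_inv := fun y => rfl
      right_inv := fun n => rfl }
  rw [Nat.card_congr e]
  have := Fintype.ofFinite N
  rw [Nat.card_eq_fintype_card, Nat.card_eq_fintype_card, Fintype.card_subtype_compl,
    Fintype.card_subtype_eq]

omit [Fact p.Prime] hNp in
/-- The centralizer of a nonidentity element of `N` has index `|N| - 1`. -/
theorem gagola_centralizer_index {x : G} (hx : x ∈ N) (hx1 : x ≠ 1) :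
    (Subgroup.centralizer ({x} : Set G)).index = Nat.card N - 1 := by
  have h1 := card_conj_mul_card_centralizer x
  have h2 := Subgroup.index_mul_card (Subgroup.centralizer ({x} : Set G))
  rw [← h2] at h1
  have hpos : 0 < Nat.card (Subgroup.centralizer ({x} : Set G)) := Nat.card_pos
  rw [← gagola_card_conj hG χ hχ N hN hx hx1]
  exact (Nat.eq_of_mul_eq_mul_right hpos h1).symm

/-- The centralizer of a nonidentity element of `N` is a Sylow `p`-subgroup. -/
theorem gagola_centralizer_sylow {x : G} (hx : x ∈ N) (hx1 : x ≠ 1) :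
    ∃ P : Sylow p G, Subgroup.centralizer ({x} : Set G) = P := by
  have h1 := gagola_centralizer_isPGroup hG χ hχ p N hN hNp hx hx1
  have h2 : ¬ p ∣ (Subgroup.centralizer ({x} : Set G)).index := by
    rw [gagola_centralizer_index hG χ hχ N hN hx hx1]
    exact gagola_not_dvd hG χ hχ p N hN hNp
  exact ⟨h1.toSylow h2, (IsPGroup.toSylow_coe h1 h2).symm⟩

end PGroup

end Cfsg.Agent.Lib.helper83
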