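import Mathlib
import Cfsg.Prelude.Def_Blocks
import Cfsg.Prelude.Def_Transfer
import Cfsg.Agent.Lib.helper83.Gagola2

/-!
# Two-class irreducible characters, part 3: Sylow subgroups (helper83)
-/

set_option autoImplicit false

namespace Cfsg.Agent.Lib.helper83

open scoped ComplexConjugate

universe u

variable {G : Type u} [Group G]

section Quot

variable [Finite G] (hG : 2 < Nat.card G) (χ : IrrCharacter G)
  (hχ : Nat.card {C : ConjClasses G // ∃ g ∈ C.carrier, (χ : G → ℂ) g ≠ 0} = 2)
  (N : Subgroup G) [N.Normal] (hN : ∀ g : G, g ∈ N ↔ (χ : G → ℂ) g ≠ 0)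

include hG hχ hN

/-- Outside `N`, conjugacy in `G` is the same as conjugacy in `G ⧸ N`. -/
theorem gagola_isConj_quot {x : G} (hx : x ∉ N) (y : G) :
    IsConj y x ↔ IsConj (y : G ⧸ N) (x : G ⧸ N) := by
  obtain ⟨hNn, -, -, -, -, -, hcoset⟩ := gagola_facts hG χ hχ N hN
  constructor
  · intro h
    exact (QuotientGroup.mk' N).map_isConj h
  · intro h
    obtain ⟨c, hc⟩ := isConj_iff.mp h
    obtain ⟨c, rfl⟩ := QuotientGroup.mk_surjective c
    have h1 : ((c * y * c⁻¹ : G) : G ⧸ N) = (x : G ⧸ N) := by
      rw [← hc]; rfl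
    have h2 : x⁻¹ * (c * y * c⁻¹) ∈ N := by
      have := (QuotientGroup.eq (s := N)).mp h1.symm
      exact this
    have h3 : IsConj (x * (x⁻¹ * (c * y * c⁻¹))) x := hcoset x hx _ h2
    rw [mul_inv_cancel_left] at h3
    exact (isConj_iff.mpr ⟨c, rfl⟩).trans h3

/-- Outside `N`, centralizers in `G` and in `G ⧸ N` have the same order. -/
theorem gagola_card_centralizer_quot {x : G} (hx : x ∉ N) :
    Nat.card (Subgroup.centralizer ({x} : Set G)) =
      Nat.card (Subgroup.centralizer ({(x : G ⧸ N)} : Set (G ⧸ N))) := by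
  have h1 := card_conj_mul_card_centralizer x
  have h2 := card_conj_mul_card_centralizer (x : G ⧸ N)
  have h3 : Nat.card {y : G // IsConj y x} =
      Nat.card N * Nat.card {z : G ⧸ N // IsConj z (x : G ⧸ N)} := by
    have := QuotientGroup.card_preimage_mk N {z : G ⧸ N | IsConj z (x : G ⧸ N)}
    have h' : Nat.card {z : G ⧸ N // IsConj z (x : G ⧸ N)} =
        Nat.card ↑{z : G ⧸ N | IsConj z (x : G ⧸ N)} := rfl
    rw [h', ← this]
    apply Nat.card_congr
    exact Equiv.subtypeEquivRight fun y => gagola_isConj_quot hG χ hχ N hN hx y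
  have h4 := Subgroup.card_eq_card_quotient_mul_card_subgroup N
  rw [h4, ← h2, h3] at h1
  have hpos1 : 0 < Nat.card N := Nat.card_pos
  have hpos2 : 0 < Nat.card {z : G ⧸ N // IsConj z (x : G ⧸ N)} := by
    have : Nonempty {z : G ⧸ N // IsConj z (x : G ⧸ N)} := ⟨⟨_, IsConj.refl _⟩⟩
    exact Nat.card_pos
  have h5 : Nat.card N * Nat.card {z : G ⧸ N // IsConj z (x : G ⧸ N)} *
      Nat.card (Subgroup.centralizer ({x} : Set G)) =
      Nat.card N * Nat.card {z : G ⧸ N // IsConj z (x : G ⧸ N)} *
      Nat.card (Subgroup.centralizer ({(x : G ⧸ N)} : Set (G ⧸ N))) := by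
    rw [h1]; ring
  exact Nat.eq_of_mul_eq_mul_left (Nat.mul_pos hpos1 hpos2) h5

end Quot

section SylowPart

variable [Finite G] (hG : 2 < Nat.card G) (χ : IrrCharacter G)
  (hχ : Nat.card {C : ConjClasses G // ∃ g ∈ C.carrier, (χ : G → ℂ) g ≠ 0} = 2)
  (p : ℕ) [Fact p.Prime] (N : Subgroup G) [N.Normal] (hN : ∀ g : G, g ∈ N ↔ (χ : G → ℂ) g ≠ 0)
  (hNp : IsPGroup p N) (P : Sylow p G)

include hG hχ hN hNp

/-- For `z ∈ P` outside `N`, `|C_P(z)| * |N|` divides `|P|`. -/
theorem gagola_centralizer_bound (z : (P : Subgroup G)) (hz : (z : G) ∉ N) :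
    Nat.card (Subgroup.centralizer ({z} : Set (P : Subgroup G))) * Nat.card N ∣
      Nat.card (P : Subgroup G) := by
  have hmap : (Subgroup.centralizer ({z} : Set (P : Subgroup G))).map (P : Subgroup G).subtype ≤
      Subgroup.centralizer ({(z : G)} : Set G) := by
    rintro _ ⟨g, hg, rfl⟩
    rw [Subgroup.mem_centralizer_iff]
    intro u hu
    rw [Set.mem_singleton_iff.mp hu]
    have := (Subgroup.mem_centralizer_iff.mp hg) z rfl
    exact congrArg Subtype.val this
  have d1 : Nat.card (Subgroup.centralizer ({z} : Set (P : Subgroup G))) ∣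
      Nat.card (Subgroup.centralizer ({(z : G)} : Set G)) := by
    rw [← Subgroup.card_map_of_injective (K := Subgroup.centralizer ({z} : Set (P : Subgroup G)))
      (f := (P : Subgroup G).subtype) Subtype.val_injective]
    exact Subgroup.card_dvd_of_le hmap
  have d2 : Nat.card (Subgroup.centralizer ({(z : G)} : Set G)) ∣ Nat.card (G ⧸ N) := by
    rw [gagola_card_centralizer_quot hG χ hχ N hN hz]
    exact Subgroup.card_subgroup_dvd_card _
  have h4 := Subgroup.card_eq_card_quotient_mul_card_subgroup N
  have d3 : Nat.card (Subgroup.centralizer ({z} : Set (P : Subgroup G))) * Nat.card N ∣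
      Nat.card G := by
    rw [h4]
    exact Nat.mul_dvd_mul (d1.trans d2) dvd_rfl
  obtain ⟨a, ha⟩ := IsPGroup.iff_card.mp
    (P.isPGroup'.to_subgroup (Subgroup.centralizer ({z} : Set (P : Subgroup G))))
  obtain ⟨b, hb⟩ := IsPGroup.iff_card.mp hNp
  rw [ha, hb, ← pow_add] at d3 ⊢
  exact P.pow_dvd_card_of_pow_dvd_card d3

/-- The centre of a Sylow `p`-subgroup lies in `N`. -/
theorem gagola_center_le :
    (Subgroup.center (P : Subgroup G)).map (P : Subgroup G).subtype ≤ N := by
  obtain ⟨-, hNbot, -, -, -, -, -⟩ := gagola_facts hG χ hχ N hN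
  rintro _ ⟨z, hz, rfl⟩
  by_contra hzN
  have h := gagola_centralizer_bound hG χ hχ p N hN hNp P z hzN
  have htop : Subgroup.centralizer ({z} : Set (P : Subgroup G)) = ⊤ := by
    rw [Subgroup.centralizer_eq_top_iff_subset]
    intro u hu
    rw [Set.mem_singleton_iff.mp hu]
    exact hz
  rw [htop, Subgroup.card_top] at h
  have hpos : 0 < Nat.card (P : Subgroup G) := Nat.card_pos
  have h1 := Nat.le_of_dvd hpos h
  have hNcard : 1 < Nat.card N := by
    have : Nontrivial N := (Subgroup.nontrivial_iff_ne_bot N).mpr hNbot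
    exact Finite.one_lt_card
  have : Nat.card (P : Subgroup G) * 1 < Nat.card (P : Subgroup G) * Nat.card N :=
    Nat.mul_lt_mul_of_pos_left hNcard hpos
  omega

omit [N.Normal] in
/-- The centre of a Sylow `p`-subgroup equals `N` exactly when the Sylow subgroup is normal. -/
theorem gagola_center_eq_iff :
    (Subgroup.center (P : Subgroup G)).map (P : Subgroup G).subtype = N ↔
      (P : Subgroup G).Normal := by
  obtain ⟨hNn, hNbot, -, -, -, -, -⟩ := gagola_facts hG χ hχ N hN
  obtain ⟨⟨x₀, hx₀⟩, hx₀'⟩ := (Subgroup.ne_bot_iff_exists_ne_one).mp hNbot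
  have hx₀1 : x₀ ≠ 1 := fun h => hx₀' (Subtype.ext h)
  constructor
  · intro h
    have hcent : ∀ x ∈ N, x ≠ 1 → Subgroup.centralizer ({x} : Set G) = (P : Subgroup G) := by
      intro x hx hx1
      obtain ⟨Q, hQ⟩ := gagola_centralizer_sylow hG χ hχ p N hN hNp hx hx1
      have hle : (P : Subgroup G) ≤ Subgroup.centralizer ({x} : Set G) := by
        intro g hg
        rw [Subgroup.mem_centralizer_iff]
        intro u hu
        rw [Set.mem_singleton_iff.mp hu]
        rw [← h] at hx
        obtain ⟨z, hz, rfl⟩ := hx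
        have := (Subgroup.mem_center_iff.mp hz) ⟨g, hg⟩
        exact (congrArg Subtype.val this).symm
      have hQp : IsPGroup p (Subgroup.centralizer ({x} : Set G)) := by
        rw [hQ]; exact Q.isPGroup'
      exact P.is_maximal' hQp hle
    constructor
    intro n hn g
    have hx : g⁻¹ * x₀ * g ∈ N := by
      have := hNn.conj_mem x₀ hx₀ g⁻¹
      simpa using this
    have hx1 : g⁻¹ * x₀ * g ≠ 1 := by
      intro h1
      apply hx₀1
      have : x₀ = g * (g⁻¹ * x₀ * g) * g⁻¹ := by group
      rw [this, h1]; group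
    have h1 : n ∈ Subgroup.centralizer ({g⁻¹ * x₀ * g} : Set G) := by
      rw [hcent _ hx hx1]; exact hn
    rw [← hcent x₀ hx₀ hx₀1, Subgroup.mem_centralizer_iff]
    intro u hu
    rw [Set.mem_singleton_iff.mp hu]
    have h2 := (Subgroup.mem_centralizer_iff.mp h1) _ rfl
    -- h2 : g⁻¹ * x₀ * g * n = n * (g⁻¹ * x₀ * g)
    calc x₀ * (g * n * g⁻¹) = g * (g⁻¹ * x₀ * g * n) * g⁻¹ := by group
      _ = g * (n * (g⁻¹ * x₀ * g)) * g⁻¹ := by rw [h2]
      _ = g * n * g⁻¹ * x₀ := by group
  · intro hPn
    apply le_antisymm (gagola_center_le hG χ hχ p N hN hNp P)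
    have hNP : N ≤ (P : Subgroup G) := hNp.le_sylow_of_normal P
    intro x hx
    refine ⟨⟨x, hNP hx⟩, ?_, rfl⟩
    rw [SetLike.mem_coe, Subgroup.mem_center_iff]
    rintro ⟨g, hg⟩
    apply Subtype.ext
    show g * x = x * g
    by_cases hx1 : x = 1
    · rw [hx1, mul_one, one_mul]
    · obtain ⟨Q, hQ⟩ := gagola_centralizer_sylow hG χ hχ p N hN hNp hx hx1
      have hle : (P : Subgroup G) ≤ Q := P.isPGroup'.le_sylow_of_normal Q
      have hg' : g ∈ Subgroup.centralizer ({x} : Set G) := by
        rw [hQ]; exact hle hg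
      exact ((Subgroup.mem_centralizer_iff.mp hg') x rfl).symm

omit [N.Normal] in
/-- `N` (inside `P`) is a term of the upper central series of `P`. -/
theorem gagola_upperCentralSeries :
    ∃ i : ℕ, Subgroup.upperCentralSeries (P : Subgroup G) i = N.subgroupOf (P : Subgroup G) := by
  obtain ⟨hNn, hNbot, -, -, -, -, -⟩ := gagola_facts hG χ hχ N hN
  have hNP : N ≤ (P : Subgroup G) := hNp.le_sylow_of_normal P
  have hcardN : Nat.card (N.subgroupOf (P : Subgroup G)) = Nat.card N :=
    Nat.card_congr (Subgroup.subgroupOfEquivOfLe hNP).toEquiv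
  have key : ∀ i : ℕ,
      Subgroup.upperCentralSeries (P : Subgroup G) i ≤ N.subgroupOf (P : Subgroup G) ∨
      ∃ j : ℕ, Subgroup.upperCentralSeries (P : Subgroup G) j = N.subgroupOf (P : Subgroup G) := by
    intro i
    induction i with
    | zero =>
      left
      rw [Subgroup.upperCentralSeries_zero]
      exact bot_le
    | succ i ih =>
      rcases ih with ih | ih
      · by_cases heq : Subgroup.upperCentralSeries (P : Subgroup G) i =
            N.subgroupOf (P : Subgroup G)
        · right
          exact ⟨i, heq⟩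
        · left
          intro z hz
          rw [Subgroup.mem_subgroupOf]
          by_contra hzN
          apply heq
          have hb := gagola_centralizer_bound hG χ hχ p N hN hNp P z hzN
          have hcl := card_conj_mul_card_centralizer z
          have hmem : ∀ y : (P : Subgroup G), IsConj y z →
              y * z⁻¹ ∈ Subgroup.upperCentralSeries (P : Subgroup G) i := by
            intro y hy
            obtain ⟨c, hc⟩ := isConj_iff.mp hy.symm
            have h1 := (Subgroup.mem_upperCentralSeries_succ_iff.mp hz) c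
            have h2 := Subgroup.inv_mem _ h1
            rw [commutatorElement_def] at h2
            rw [← hc]
            convert h2 using 1
            group
          have hinj : Nat.card {y : (P : Subgroup G) // IsConj y z} ≤
              Nat.card (Subgroup.upperCentralSeries (P : Subgroup G) i) := by
            apply Nat.card_le_card_of_injective
              (fun y : {y : (P : Subgroup G) // IsConj y z} =>
                (⟨y.1 * z⁻¹, hmem y.1 y.2⟩ : Subgroup.upperCentralSeries (P : Subgroup G) i))
            intro y1 y2 h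
            have := congrArg Subtype.val h
            simp only at this
            exact Subtype.ext (mul_right_cancel this)
          apply Subgroup.eq_of_le_of_card_ge ih
          rw [hcardN]
          have hpos : 0 < Nat.card (Subgroup.centralizer ({z} : Set (P : Subgroup G))) :=
            Nat.card_pos
          have h1 := Nat.le_of_dvd Nat.card_pos hb
          rw [← hcl] at h1
          have h2 : Nat.card {y : (P : Subgroup G) // IsConj y z} *
              Nat.card (Subgroup.centralizer ({z} : Set (P : Subgroup G))) ≤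
              Nat.card (Subgroup.upperCentralSeries (P : Subgroup G) i) *
              Nat.card (Subgroup.centralizer ({z} : Set (P : Subgroup G))) :=
            Nat.mul_le_mul_right _ hinj
          have h3 := h1.trans h2
          rw [mul_comm] at h3
          exact Nat.le_of_mul_le_mul_right h3 hpos
      · right
        exact ih
  have hnil : Group.IsNilpotent (P : Subgroup G) := P.isPGroup'.isNilpotent
  obtain ⟨n, hn⟩ := hnil.nilpotent'
  rcases key n with h | h
  · rw [hn] at h
    exact ⟨n, by rw [hn]; exact le_antisymm h le_top⟩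
  · exact h

end SylowPart

end Cfsg.Agent.Lib.helper83
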