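import Mathlib
import Cfsg.Prelude.Def_Classical
import Cfsg.Prelude.Def_GeometricClasses
import Cfsg.Agent.Lib.helper24.SfoDefs

/-!
S5977 / S5978 split, sub-split HCI (helper99), piece ARITH: racer copy by helper83.
-/

set_option autoImplicit false
set_option linter.unusedVariables false
set_option linter.unusedSectionVars false
set_option linter.style.longLine false

namespace Cfsg.Agent.Lib.helper99.HCI

theorem h83_hci_arith (q d r : ℕ) [Fact r.Prime] (hq : 2 ≤ q) (hd : 1 ≤ d) (hr2 : r ≠ 2)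
    (hrq : ¬ r ∣ q) (hi : orderOf ((q : ℕ) : ZMod r) % 4 = 0) (cardO cardI n1 n0 e : ℕ)
    (he : (e = q ^ d - 1 ∧ n0 = q ^ (2 * d - 1) + q ^ d - q ^ (d - 1)) ∨
      (e = q ^ d + 1 ∧ n0 = q ^ (2 * d - 1) + q ^ (d - 1) - q ^ d))
    (hO : cardO = 2 * q ^ (d * (d - 1)) * e *
      ∏ j ∈ Finset.range (d - 1), (q ^ (2 * (j + 1)) - 1))
    (hlb : (∑ t ∈ (Finset.range d).filter (fun t => orderOf ((q ^ 2 : ℕ) : ZMod r) ∣ t),
          padicValNat r ((q ^ 2) ^ t - 1)) +
        (if orderOf ((q ^ 2 : ℕ) : ZMod r) ∣ d ∧ r ∣ n1 then padicValNat r ((q ^ 2) ^ d - 1)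
          else 0) ≤ padicValNat r cardI)
    (hn : Even d → q * (q - 1) * n1 + n0 = q ^ (2 * d)) :
    padicValNat r cardO ≤ padicValNat r cardI := by
  have hr : r.Prime := Fact.out
  haveI : NeZero r := ⟨hr.ne_zero⟩
  have hq0 : q ≠ 0 := by omega
  have key1 : ∀ t : ℕ, r ∣ (q ^ 2) ^ t - 1 ↔ orderOf ((q ^ 2 : ℕ) : ZMod r) ∣ t := by
    intro t
    have hpos : 1 ≤ (q ^ 2) ^ t := Nat.one_le_pow _ _ (by positivity)
    have h1 : r ∣ (q ^ 2) ^ t - 1 ↔ (((q ^ 2) ^ t - 1 : ℕ) : ZMod r) = 0 :=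
      (ZMod.natCast_eq_zero_iff _ _).symm
    rw [h1, Nat.cast_sub hpos, Nat.cast_pow, Nat.cast_one, sub_eq_zero,
      orderOf_dvd_iff_pow_eq_one]
  have hg0 : ∀ t : ℕ, ¬ orderOf ((q ^ 2 : ℕ) : ZMod r) ∣ t →
      padicValNat r ((q ^ 2) ^ t - 1) = 0 := by
    intro t ht
    exact padicValNat.eq_zero_of_not_dvd (fun h => ht ((key1 t).mp h))
  have hfne : ∀ j : ℕ, q ^ (2 * (j + 1)) - 1 ≠ 0 := by
    intro j
    have : 1 < q ^ (2 * (j + 1)) := Nat.one_lt_pow (by omega) (by omega)
    omega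
  have hprod : ∀ n : ℕ, padicValNat r (∏ j ∈ Finset.range n, (q ^ (2 * (j + 1)) - 1))
        = ∑ j ∈ Finset.range n, padicValNat r ((q ^ 2) ^ (j + 1) - 1) ∧
      (∏ j ∈ Finset.range n, (q ^ (2 * (j + 1)) - 1)) ≠ 0 := by
    intro n
    induction n with
    | zero => simp
    | succ n ih =>
      rw [Finset.prod_range_succ, Finset.sum_range_succ]
      refine ⟨?_, mul_ne_zero ih.2 (hfne n)⟩
      rw [padicValNat.mul ih.2 (hfne n), ih.1, pow_mul]
  have hsum1 : ∑ j ∈ Finset.range (d - 1), padicValNat r ((q ^ 2) ^ (j + 1) - 1)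
      = ∑ t ∈ Finset.range d, padicValNat r ((q ^ 2) ^ t - 1) := by
    obtain ⟨d', hd'⟩ : ∃ d', d = d' + 1 := ⟨d - 1, by omega⟩
    rw [hd', Nat.add_sub_cancel, Finset.sum_range_succ']
    simp
  have hsum2 : ∑ t ∈ (Finset.range d).filter (fun t => orderOf ((q ^ 2 : ℕ) : ZMod r) ∣ t),
        padicValNat r ((q ^ 2) ^ t - 1)
      = ∑ t ∈ Finset.range d, padicValNat r ((q ^ 2) ^ t - 1) := by
    apply Finset.sum_filter_of_ne
    intro t _ hne
    by_contra h
    exact hne (hg0 t h)
  obtain ⟨a, ha⟩ : ∃ a, a = q ^ (d - 1) := ⟨_, rfl⟩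
  have ha1 : 1 ≤ a := by rw [ha]; exact Nat.one_le_pow _ _ (by omega)
  have hA : q ^ d = q * a := by
    rw [ha, ← pow_succ']
    congr 1
    omega
  have h2d1 : q ^ (2 * d - 1) = q * a * a := by
    have : 2 * d - 1 = (d - 1) + (d - 1) + 1 := by omega
    rw [this, pow_add, pow_add, pow_one, ← ha]
    ring
  have h2d : q ^ (2 * d) = (q * a) ^ 2 := by
    rw [← hA, ← pow_mul]
    congr 1
    omega
  have hQd : (q ^ 2) ^ d = (q * a) ^ 2 := by rw [← pow_mul, ← h2d]
  have hqa2 : 2 ≤ q * a := by nlinarith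
  have he0 : e ≠ 0 := by
    rcases he with ⟨h, -⟩ | ⟨h, -⟩ <;> rw [h, hA] <;> omega
  have hediv : e ∣ (q ^ 2) ^ d - 1 := by
    rw [hQd]
    obtain ⟨m, hm⟩ : ∃ m, q * a = m + 1 := ⟨q * a - 1, by omega⟩
    have h1 : (q * a) ^ 2 - 1 = m * (m + 2) := by
      rw [hm]
      have : (m + 1) ^ 2 = m * (m + 2) + 1 := by ring
      rw [this, Nat.add_sub_cancel]
    rw [h1]
    rcases he with ⟨h, -⟩ | ⟨h, -⟩
    · have : e = m := by rw [h, hA, hm]; omega
      rw [this]; exact dvd_mul_right _ _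
    · have : e = m + 2 := by rw [h, hA, hm]
      rw [this]; exact dvd_mul_left _ _
  have hQd0 : (q ^ 2) ^ d - 1 ≠ 0 := by
    rw [hQd]
    have : 2 ^ 2 ≤ (q * a) ^ 2 := Nat.pow_le_pow_left hqa2 2
    omega
  have hve : padicValNat r e ≤ (if orderOf ((q ^ 2 : ℕ) : ZMod r) ∣ d ∧ r ∣ n1 then
      padicValNat r ((q ^ 2) ^ d - 1) else 0) := by
    by_cases hre : r ∣ e
    · have hrQ : r ∣ (q ^ 2) ^ d - 1 := dvd_trans hre hediv
      have hsd : orderOf ((q ^ 2 : ℕ) : ZMod r) ∣ d := (key1 d).mp hrQ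
      have hev : Even d := by
        have h1 : ((q : ℕ) : ZMod r) ^ (2 * d) = 1 := by
          have := orderOf_dvd_iff_pow_eq_one.mp hsd
          rw [Nat.cast_pow, ← pow_mul] at this
          exact this
        have h2 : orderOf ((q : ℕ) : ZMod r) ∣ 2 * d := orderOf_dvd_of_pow_eq_one h1
        have h4 : 4 ∣ orderOf ((q : ℕ) : ZMod r) := Nat.dvd_of_mod_eq_zero hi
        have h5 : 4 ∣ 2 * d := dvd_trans h4 h2
        rw [Nat.even_iff]
        omega
      have hn' := hn hev
      have hrn1 : r ∣ n1 := by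
        have hqn : q * n1 = a * e := by
          obtain ⟨c, hc⟩ : ∃ c, q = c + 1 := ⟨q - 1, by omega⟩
          have hc1 : 1 ≤ c := by omega
          rw [h2d] at hn'
          have E1 : ((c : ℤ) + 1) * c * n1 + n0 = (((c : ℤ) + 1) * a) ^ 2 := by
            have h := hn'
            rw [hc, Nat.add_sub_cancel] at h
            exact_mod_cast h
          have hc0 : (c : ℤ) ≠ 0 := by exact_mod_cast (by omega : c ≠ 0)
          have hgoal : ((c : ℤ) + 1) * n1 = a * e := by
            rcases he with ⟨h1, h2⟩ | ⟨h1, h2⟩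
            · have E2 : (e : ℤ) + 1 = ((c : ℤ) + 1) * a := by
                have h : e + 1 = (c + 1) * a := by
                  rw [h1, hA, hc]
                  have : 1 ≤ (c + 1) * a := Nat.mul_pos (by omega) (by omega)
                  omega
                exact_mod_cast h
              have E3 : (n0 : ℤ) + a = ((c : ℤ) + 1) * a * a + ((c : ℤ) + 1) * a := by
                have h : n0 + a = (c + 1) * a * a + (c + 1) * a := by
                  rw [h2, h2d1, hA, ← ha, hc]
                  have : a ≤ (c + 1) * a := Nat.le_mul_of_pos_left a (by omega)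
                  omega
                exact_mod_cast h
              have h0 : (c : ℤ) * (((c : ℤ) + 1) * n1 - a * e) = 0 := by
                linear_combination E1 - E3 - (c : ℤ) * a * E2
              rcases mul_eq_zero.mp h0 with h | h
              · exact absurd h hc0
              · linarith
            · have E2 : (e : ℤ) = ((c : ℤ) + 1) * a + 1 := by
                have h : e = (c + 1) * a + 1 := by rw [h1, hA, hc]
                exact_mod_cast h
              have E3 : (n0 : ℤ) + ((c : ℤ) + 1) * a = ((c : ℤ) + 1) * a * a + a := by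
                have h : n0 + (c + 1) * a = (c + 1) * a * a + a := by
                  rw [h2, h2d1, hA, ← ha, hc]
                  have : (c + 1) * a ≤ (c + 1) * a * a := Nat.le_mul_of_pos_right _ (by omega)
                  omega
                exact_mod_cast h
              have h0 : (c : ℤ) * (((c : ℤ) + 1) * n1 - a * e) = 0 := by
                linear_combination E1 - E3 - (c : ℤ) * a * E2
              rcases mul_eq_zero.mp h0 with h | h
              · exact absurd h hc0
              · linarith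
          rw [hc]
          exact_mod_cast hgoal
        have h : r ∣ q * n1 := by rw [hqn]; exact dvd_mul_of_dvd_right hre a
        rcases (Nat.Prime.dvd_mul hr).mp h with h | h
        · exact absurd h hrq
        · exact h
      rw [if_pos ⟨hsd, hrn1⟩]
      exact (padicValNat_dvd_iff_le hQd0).mp (dvd_trans pow_padicValNat_dvd hediv)
    · rw [padicValNat.eq_zero_of_not_dvd hre]
      exact Nat.zero_le _
  have hvO : padicValNat r cardO = padicValNat r e +
      ∑ t ∈ (Finset.range d).filter (fun t => orderOf ((q ^ 2 : ℕ) : ZMod r) ∣ t),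
        padicValNat r ((q ^ 2) ^ t - 1) := by
    have hP := hprod (d - 1)
    have h2ne : (2 : ℕ) ≠ 0 := by norm_num
    have hqk : q ^ (d * (d - 1)) ≠ 0 := pow_ne_zero _ hq0
    have hv2 : padicValNat r 2 = 0 := padicValNat.eq_zero_of_not_dvd
      (fun h => hr2 ((Nat.prime_dvd_prime_iff_eq hr Nat.prime_two).mp h))
    have hvq : padicValNat r (q ^ (d * (d - 1))) = 0 := padicValNat.eq_zero_of_not_dvd
      (fun h => hrq (hr.dvd_of_dvd_pow h))
    rw [hO, padicValNat.mul (mul_ne_zero (mul_ne_zero h2ne hqk) he0) hP.2,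
      padicValNat.mul (mul_ne_zero h2ne hqk) he0, padicValNat.mul h2ne hqk, hP.1, hsum1,
      ← hsum2, hv2, hvq]
    ring
  rw [hvO]
  refine le_trans ?_ hlb
  rw [add_comm]
  exact Nat.add_le_add_left hve _

end Cfsg.Agent.Lib.helper99.HCI
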