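import Mathlib
import Cfsg.Agent.Lib.helper86.IvDefs

/-!
# S3928, piece QS: every element of `ivI` of the quotient lifts to `ivI α`
-/

set_option autoImplicit false
set_option linter.unusedVariables false
set_option linter.style.longLine false

namespace Cfsg.Agent.Lib.helper86.IV

/-- QS : every element of `ivI` of the quotient lifts to `ivI α` (racing copy, verbatim statement). -/
theorem helper83_iv_quot_surj {G : Type*} [Group G] [Finite G] (α : MulAut G)
    (h2 : ∀ g, α (α g) = g)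
    (N : Subgroup G) [N.Normal] (hN : ∀ n ∈ N, α n ∈ N) (y : G ⧸ N)
    (hy : y ∈ ivI (ivQ α h2 N hN)) : ∃ x ∈ ivI α, (QuotientGroup.mk x : G ⧸ N) = y := by
  obtain ⟨hyodd, hyinv⟩ := hy
  obtain ⟨j, hj⟩ := hyodd
  obtain ⟨w, hw⟩ := QuotientGroup.mk_surjective (y ^ (j + 1))
  have hww : (y ^ (j + 1)) * (y ^ (j + 1)) = y := by
    rw [← pow_add]
    have hjj : j + 1 + (j + 1) = orderOf y + 1 := by omega
    rw [hjj, pow_succ, pow_orderOf_eq_one, one_mul]
  have hαw : ivQ α h2 N hN (y ^ (j + 1)) = (y ^ (j + 1))⁻¹ := by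
    rw [map_pow, hyinv, inv_pow]
  have hk_inv : α (w * (α w)⁻¹) = (w * (α w)⁻¹)⁻¹ := by
    rw [map_mul, map_inv, h2, mul_inv_rev, inv_inv]
  have hk_mk : (QuotientGroup.mk (w * (α w)⁻¹) : G ⧸ N) = y := by
    rw [QuotientGroup.mk_mul, QuotientGroup.mk_inv, ← ivQ_mk α h2 N hN w, hw, hαw, inv_inv, hww]
  generalize w * (α w)⁻¹ = k at hk_inv hk_mk
  have hn0 : orderOf k ≠ 0 := (orderOf_pos k).ne'
  obtain ⟨a, b, hb, hab⟩ := Nat.exists_eq_two_pow_mul_odd hn0
  have hb0 : b ≠ 0 := by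
    rintro rfl
    exact absurd hb (by decide)
  have hydvd : orderOf y ∣ b := by
    have h1 : orderOf y ∣ orderOf k := by
      rw [← hk_mk]
      exact orderOf_map_dvd (QuotientGroup.mk' N) k
    rw [hab] at h1
    have hcop : Nat.Coprime (orderOf y) (2 ^ a) := by
      apply Nat.Coprime.pow_right
      rw [Nat.coprime_two_right]
      exact ⟨j, hj⟩
    exact hcop.dvd_of_dvd_mul_left h1
  have hcop2 : Nat.Coprime (2 ^ a) b := Nat.Coprime.pow_left a (Nat.coprime_two_left.2 hb)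
  have he1 : (2 ^ a) ^ b.totient ≡ 1 [MOD b] := Nat.ModEq.pow_totient hcop2
  have hφ : 0 < b.totient := Nat.totient_pos.2 (Nat.pos_of_ne_zero hb0)
  refine ⟨k ^ ((2 ^ a) ^ b.totient), ⟨?_, ?_⟩, ?_⟩
  · have hpow : (k ^ ((2 ^ a) ^ b.totient)) ^ b = 1 := by
      rw [← pow_mul]
      have he : (2 ^ a) ^ b.totient * b = orderOf k * (2 ^ a) ^ (b.totient - 1) := by
        rw [hab]
        obtain ⟨t, ht⟩ : ∃ t, b.totient = t + 1 := ⟨b.totient - 1, by omega⟩
        rw [ht, pow_succ, Nat.add_sub_cancel]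
        ring
      rw [he, pow_mul, pow_orderOf_eq_one, one_pow]
    exact Odd.of_dvd_nat hb (orderOf_dvd_of_pow_eq_one hpow)
  · rw [map_pow, hk_inv, inv_pow]
  · rw [QuotientGroup.mk_pow, hk_mk]
    have hpe : y ^ ((2 ^ a) ^ b.totient) = y ^ 1 := by
      rw [pow_eq_pow_iff_modEq]
      exact he1.of_dvd hydvd
    rw [hpe, pow_one]

end Cfsg.Agent.Lib.helper86.IV
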