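import Mathlib
import Cfsg.Agent.Lib.helper86.IvDefs
import Cfsg.Agent.Lib.helper46.IvQM
import Cfsg.Agent.Lib.helper83.IvQS

/-!
# S3928, piece QC: `|ivI|` does not increase in quotients, and decreases if two elements of `ivI α`
are congruent mod `N`
-/

set_option autoImplicit false
set_option linter.unusedVariables false
set_option linter.style.longLine false

namespace Cfsg.Agent.Lib.helper86.IV

/-- QC (racing copy, verbatim statement). -/
theorem helper83_iv_quot_card {G : Type*} [Group G] [Finite G] (α : MulAut G)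
    (h2 : ∀ g, α (α g) = g)
    (N : Subgroup G) [N.Normal] (hN : ∀ n ∈ N, α n ∈ N) :
    Nat.card (ivI (ivQ α h2 N hN)) ≤ Nat.card (ivI α) ∧
    ((∃ x ∈ ivI α, ∃ x' ∈ ivI α, x ≠ x' ∧ x⁻¹ * x' ∈ N) →
      Nat.card (ivI (ivQ α h2 N hN)) < Nat.card (ivI α)) := by
  obtain ⟨φ, hφ⟩ : ∃ φ : ivI α → ivI (ivQ α h2 N hN),
      ∀ x : ivI α, ((φ x : ivI (ivQ α h2 N hN)) : G ⧸ N) = QuotientGroup.mk (x : G) :=
    ⟨fun x => ⟨QuotientGroup.mk (x : G), iv_quot_mem α h2 N hN x.1 x.2⟩, fun x => rfl⟩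
  have hsurj : Function.Surjective φ := by
    rintro ⟨y, hy⟩
    obtain ⟨x, hx, hxy⟩ := helper83_iv_quot_surj α h2 N hN y hy
    refine ⟨⟨x, hx⟩, ?_⟩
    apply Subtype.ext
    rw [hφ]
    exact hxy
  have hle : Nat.card (ivI (ivQ α h2 N hN)) ≤ Nat.card (ivI α) :=
    Nat.card_le_card_of_surjective φ hsurj
  refine ⟨hle, ?_⟩
  rintro ⟨x, hx, x', hx', hne, hmem⟩
  by_contra hlt
  have hge : Nat.card (ivI α) ≤ Nat.card (ivI (ivQ α h2 N hN)) := not_lt.1 hlt
  have hbij := hsurj.bijective_of_nat_card_le hge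
  have heq : φ ⟨x, hx⟩ = φ ⟨x', hx'⟩ := by
    apply Subtype.ext
    rw [hφ, hφ]
    exact QuotientGroup.eq.2 hmem
  have h3 := hbij.1 heq
  exact hne (congrArg Subtype.val h3)

end Cfsg.Agent.Lib.helper86.IV
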