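import Mathlib
import Cfsg.Prelude.Def_LieTypeChar
import Cfsg.Agent.Lib.helper44.LODefs
import Cfsg.Agent.Lib.helper6.LOARITH
import Cfsg.Agent.S0280

/-!
S2363 split (helper44), piece PSU: racer copy by helper83.
-/

set_option autoImplicit false
set_option linter.unusedVariables false
set_option linter.unusedSectionVars false
set_option linter.style.longLine false

namespace Cfsg.Agent.Lib.helper44.LO

open Cfsg

theorem h83_psu_pair (q : ℕ) (hq : 2 ≤ q) (a : ℕ) :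
    (q ^ a - 1) * (q ^ (a + 1) + 1) < q ^ (2 * a + 1) := by
  obtain ⟨B, hB⟩ : ∃ B, q ^ a = B + 1 :=
    ⟨q ^ a - 1, by have := Nat.one_le_pow a q (by omega); omega⟩
  have e1 : q ^ (a + 1) = q * (B + 1) := by rw [pow_succ, hB]; ring
  have e2 : q ^ (2 * a + 1) = q * (B + 1) * (B + 1) := by
    rw [show 2 * a + 1 = a + a + 1 by ring, pow_succ, pow_add, hB]; ring
  rw [hB, e1, e2, Nat.add_sub_cancel]
  have h1 : 2 * B ≤ q * B := Nat.mul_le_mul_right B hq
  nlinarith [h1]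

theorem h83_psu_odd (q : ℕ) (hq : 2 ≤ q) (j : ℕ) :
    ∏ i ∈ Finset.range (2 * j + 1), (if Even i then q ^ (i + 1) + 1 else q ^ (i + 1) - 1)
      ≤ (q + 1) * q ^ (2 * j * j + 3 * j) := by
  induction j with
  | zero => simp
  | succ j ih =>
    have e : 2 * (j + 1) + 1 = (2 * j + 1) + 1 + 1 := by ring
    rw [e, Finset.prod_range_succ, Finset.prod_range_succ]
    have hodd : ¬ Even (2 * j + 1) := by
      rw [Nat.not_even_iff_odd]; exact ⟨j, rfl⟩
    have heven : Even (2 * j + 1 + 1) := ⟨j + 1, by ring⟩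
    rw [if_neg hodd, if_pos heven, mul_assoc]
    have hp := h83_psu_pair q hq (2 * j + 1 + 1)
    calc _ ≤ ((q + 1) * q ^ (2 * j * j + 3 * j)) * q ^ (2 * (2 * j + 1 + 1) + 1) :=
          Nat.mul_le_mul ih hp.le
      _ = (q + 1) * q ^ (2 * (j + 1) * (j + 1) + 3 * (j + 1)) := by
          rw [mul_assoc, ← pow_add]
          congr 2
          ring

theorem h83_psu_lt (q : ℕ) (hq : 2 ≤ q) (n : ℕ) (hn : 2 ≤ n) :
    ∃ e, 2 * (e + 1) = n * (n + 1) ∧
      ∏ i ∈ Finset.range n, (if Even i then q ^ (i + 1) + 1 else q ^ (i + 1) - 1)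
        < (q + 1) * q ^ e := by
  have hpos : ∀ E : ℕ, 0 < (q + 1) * q ^ E := fun E => Nat.mul_pos (by omega) (pow_pos (by omega) E)
  obtain ⟨j, hj | hj⟩ := Nat.even_or_odd' n
  · obtain ⟨j', rfl⟩ : ∃ j', j = j' + 1 := ⟨j - 1, by omega⟩
    refine ⟨2 * j' * j' + 3 * j' + (2 * j' + 1 + 1), ?_, ?_⟩
    · rw [hj]; ring
    · have e : n = (2 * j' + 1) + 1 := by rw [hj]; ring
      rw [e, Finset.prod_range_succ]
      have hodd : ¬ Even (2 * j' + 1) := by
        rw [Nat.not_even_iff_odd]; exact ⟨j', rfl⟩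
      rw [if_neg hodd]
      have h1 : q ^ (2 * j' + 1 + 1) - 1 < q ^ (2 * j' + 1 + 1) :=
        Nat.sub_lt (pow_pos (by omega) _) (by norm_num)
      calc _ ≤ ((q + 1) * q ^ (2 * j' * j' + 3 * j')) * (q ^ (2 * j' + 1 + 1) - 1) :=
            Nat.mul_le_mul_right _ (h83_psu_odd q hq j')
        _ < ((q + 1) * q ^ (2 * j' * j' + 3 * j')) * q ^ (2 * j' + 1 + 1) :=
            Nat.mul_lt_mul_of_pos_left h1 (hpos _)
        _ = (q + 1) * q ^ (2 * j' * j' + 3 * j' + (2 * j' + 1 + 1)) := by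
            rw [mul_assoc, ← pow_add]
  · obtain ⟨j', rfl⟩ : ∃ j', j = j' + 1 := ⟨j - 1, by omega⟩
    refine ⟨2 * j' * j' + 3 * j' + (2 * (2 * j' + 1 + 1) + 1), ?_, ?_⟩
    · rw [hj]; ring
    · have e : n = (2 * j' + 1) + 1 + 1 := by rw [hj]; ring
      rw [e, Finset.prod_range_succ, Finset.prod_range_succ]
      have hodd : ¬ Even (2 * j' + 1) := by
        rw [Nat.not_even_iff_odd]; exact ⟨j', rfl⟩
      have heven : Even (2 * j' + 1 + 1) := ⟨j' + 1, by ring⟩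
      rw [if_neg hodd, if_pos heven, mul_assoc]
      have hp := h83_psu_pair q hq (2 * j' + 1 + 1)
      calc _ ≤ ((q + 1) * q ^ (2 * j' * j' + 3 * j')) *
              ((q ^ (2 * j' + 1 + 1) - 1) * (q ^ (2 * j' + 1 + 1 + 1) + 1)) :=
            Nat.mul_le_mul_right _ (h83_psu_odd q hq j')
        _ < ((q + 1) * q ^ (2 * j' * j' + 3 * j')) * q ^ (2 * (2 * j' + 1 + 1) + 1) :=
            Nat.mul_lt_mul_of_pos_left hp (hpos _)
        _ = (q + 1) * q ^ (2 * j' * j' + 3 * j' + (2 * (2 * j' + 1 + 1) + 1)) := by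
            rw [mul_assoc, ← pow_add]

theorem h83_lo_psu {F : Type} [Field F] [Fintype F] (p : ℕ) (hp : p.Prime) [CharP F p] (n q : ℕ)
    (hF : Fintype.card F = q ^ 2) (hn : 3 ≤ n) : LOGood p (Nat.card (Cfsg.PSU n F q)) := by
  obtain ⟨k, -, hk⟩ := FiniteField.card F p
  have hq2 : q ^ 2 = p ^ (k : ℕ) := by rw [← hF, hk]
  have hqd : q ∣ p ^ (k : ℕ) := by rw [← hq2]; exact dvd_pow_self q (by norm_num)
  obtain ⟨j, -, hqj⟩ := (Nat.dvd_prime_pow hp).mp hqd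
  have hq2' : 2 ≤ q := by
    have h1 : 1 < Fintype.card F := Fintype.one_lt_card
    rw [hF] at h1
    by_contra h
    have : q = 0 ∨ q = 1 := by omega
    rcases this with rfl | rfl <;> simp at h1
  have hj : 1 ≤ j := by
    by_contra h
    have : j = 0 := by omega
    rw [this, pow_zero] at hqj
    omega
  have hpq : p ∣ q := by rw [hqj]; exact dvd_pow_self p (by omega)
  have hS := Cfsg.Agent.S0280.result hF n (by omega)
  obtain ⟨e, he, hlt⟩ := h83_psu_lt q hq2' n (by omega)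
  obtain ⟨N', hN'⟩ : ∃ N', N' = n * (n - 1) / 2 := ⟨_, rfl⟩
  have hN2 : 2 * N' = n * (n - 1) := by
    rw [hN']; exact Nat.mul_div_cancel' (Nat.even_mul_pred_self n).two_dvd
  rw [← hN'] at hS
  subst hqj
  refine lo_good hp j hj (Nat.gcd n (p ^ j + 1) * (p ^ j + 1)) _ N'
    (∏ i ∈ Finset.range n, (if Even i then (p ^ j) ^ (i + 1) + 1 else (p ^ j) ^ (i + 1) - 1)) e
    ?_ ?_ ?_ ?_ ?_ ?_
  · rw [mul_assoc]; exact hS
  · intro h
    rcases (Nat.Prime.dvd_mul hp).mp h with h | h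
    · have h' : p ∣ p ^ j + 1 := dvd_trans h (Nat.gcd_dvd_right _ _)
      exact hp.one_lt.ne' (Nat.dvd_one.mp ((Nat.dvd_add_right hpq).mp h'))
    · exact hp.one_lt.ne' (Nat.dvd_one.mp ((Nat.dvd_add_right hpq).mp h))
  · intro h
    obtain ⟨i, -, hi⟩ := (Prime.dvd_finset_prod_iff hp.prime _).mp h
    have hpi : p ∣ (p ^ j) ^ (i + 1) := dvd_pow hpq (by omega)
    split_ifs at hi
    · exact hp.one_lt.ne' (Nat.dvd_one.mp ((Nat.dvd_add_right hpi).mp hi))
    · have h1 : 1 ≤ (p ^ j) ^ (i + 1) := Nat.one_le_pow _ _ (by positivity)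
      have h2 : p ∣ (p ^ j) ^ (i + 1) - ((p ^ j) ^ (i + 1) - 1) := Nat.dvd_sub hpi hi
      have h3 : (p ^ j) ^ (i + 1) - ((p ^ j) ^ (i + 1) - 1) = 1 := by omega
      rw [h3] at h2
      exact hp.one_lt.ne' (Nat.dvd_one.mp h2)
  · have hg : 1 ≤ Nat.gcd n (p ^ j + 1) := Nat.gcd_pos_of_pos_right _ (by omega)
    calc _ < (p ^ j + 1) * (p ^ j) ^ e := hlt
      _ = 1 * ((p ^ j + 1) * (p ^ j) ^ e) := (one_mul _).symm
      _ ≤ Nat.gcd n (p ^ j + 1) * ((p ^ j + 1) * (p ^ j) ^ e) := Nat.mul_le_mul_right _ hg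
      _ = Nat.gcd n (p ^ j + 1) * (p ^ j + 1) * (p ^ j) ^ e := (mul_assoc _ _ _).symm
  · obtain ⟨m, rfl⟩ : ∃ m, n = m + 1 := ⟨n - 1, by omega⟩
    rw [Nat.add_sub_cancel] at hN2
    have hm2 : 2 ≤ m := by omega
    have hmm : 2 * m ≤ m * m := Nat.mul_le_mul_right m hm2
    have he' : 2 * (e + 1) = m * m + 3 * m + 2 := by rw [he]; ring
    have hN2' : 2 * N' = m * m + m := by rw [hN2]; ring
    linarith
  · obtain ⟨m, rfl⟩ : ∃ m, n = m + 1 := ⟨n - 1, by omega⟩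
    rw [Nat.add_sub_cancel] at hN2
    have hm2 : 2 ≤ m := by omega
    have hmm : 2 * m ≤ m * m := Nat.mul_le_mul_right m hm2
    have he' : 2 * (e + 1) = m * m + 3 * m + 2 := by rw [he]; ring
    have hN2' : 2 * N' = m * m + m := by rw [hN2]; ring
    linarith

end Cfsg.Agent.Lib.helper44.LO
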