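/-
Piece I of the split plan for statement S0406: the vectors of norm 32 of the coordinate
lattice with all coordinates even and not all divisible by four are at most 128 per octad
of the binary code of the lattice.
-/
import Mathlib
import Cfsg.Agent.Lib.helper9.LcDefs

set_option autoImplicit false
set_option linter.unusedVariables false
set_option linter.unusedSimpArgs false
set_option linter.unusedTactic false
set_option linter.unreachableTactic false
set_option linter.style.longLine false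

open Matrix

namespace Cfsg.Agent.Lib.helper83

open Cfsg Cfsg.Agent.Lib.helper9

/-- The coordinates of an integer vector that are not divisible by four. -/
def lcISupp (u : GolayPt → ℤ) : Finset GolayPt :=
  Finset.univ.filter (fun p => ¬ (4 : ℤ) ∣ u p)

theorem lcI_mem_supp (u : GolayPt → ℤ) (p : GolayPt) :
    p ∈ lcISupp u ↔ ¬ (4 : ℤ) ∣ u p := by
  simp [lcISupp]

theorem lcI_shape (L : AddSubgroup (GolayPt → ℤ))
    (hW : ∀ s ∈ lcCode L, s ≠ 0 → 8 ≤ (support₂ s).card)
    (u : GolayPt → ℤ) (hu : u ∈ L) (h32 : sqNorm u = 32) (he : ∀ p, (2 : ℤ) ∣ u p)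
    (hne : ¬ ∀ p, (4 : ℤ) ∣ u p) :
    lcISupp u ∈ wordsOfWeight (lcCode L : Set (GolayPt → ZMod 2)) 8 ∧
      (∀ p ∈ lcISupp u, u p = 2 ∨ u p = -2) ∧ (∀ p, p ∉ lcISupp u → u p = 0) := by
  classical
  obtain ⟨h, hh⟩ : ∃ h : GolayPt → ℤ, ∀ p, u p = 2 * h p := by
    choose h hh using he
    exact ⟨h, hh⟩
  have hu2 : (2 : ℤ) • h = u := by
    funext p
    simp [hh p]
  obtain ⟨s, hsdef⟩ : ∃ s : GolayPt → ZMod 2, s = fun p => ((h p : ℤ) : ZMod 2) := ⟨_, rfl⟩
  have hs : s ∈ lcCode L := (mem_lcCode L s).mpr ⟨h, by rw [hu2]; exact hu, hsdef⟩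
  have hsupp : support₂ s = lcISupp u := by
    ext p
    simp only [support₂, Finset.mem_filter, Finset.mem_univ, true_and, lcI_mem_supp, hsdef]
    rw [hh p, Ne, ZMod.intCast_zmod_eq_zero_iff_dvd]
    constructor
    · intro h1 h2
      apply h1
      have : (4 : ℤ) ∣ 2 * h p := h2
      show ((2 : ℕ) : ℤ) ∣ h p
      push_cast
      omega
    · intro h1 h2
      apply h1
      have : ((2 : ℕ) : ℤ) ∣ h p := h2
      push_cast at this
      omega
  have hs0 : s ≠ 0 := by
    intro h0
    apply hne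
    intro p
    have hp : p ∉ lcISupp u := by
      rw [← hsupp, h0]
      simp [support₂]
    rw [lcI_mem_supp] at hp
    exact not_not.mp hp
  have hcard := hW s hs hs0
  rw [hsupp] at hcard
  have hterm : ∀ p ∈ (Finset.univ : Finset GolayPt),
      0 ≤ u p ^ 2 - (if p ∈ lcISupp u then (4 : ℤ) else 0) := by
    intro p _
    split_ifs with hp
    · rw [lcI_mem_supp] at hp
      have h1 : h p ≠ 0 := by
        intro h0
        apply hp
        rw [hh p, h0]
        simp
      have h2 : 1 ≤ h p ^ 2 := by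
        have h3 := sq_nonneg (h p)
        have h4 : h p ^ 2 ≠ 0 := pow_ne_zero 2 h1
        omega
      rw [hh p]
      nlinarith
    · have := sq_nonneg (u p)
      linarith
  have hsum : ∑ p, (u p ^ 2 - (if p ∈ lcISupp u then (4 : ℤ) else 0)) =
      32 - 4 * ((lcISupp u).card : ℤ) := by
    rw [Finset.sum_sub_distrib, Finset.sum_ite_mem, Finset.univ_inter, Finset.sum_const]
    have h1 : ∑ p, u p ^ 2 = 32 := h32
    rw [h1]
    simp
    ring
  have hnn := Finset.sum_nonneg hterm
  rw [hsum] at hnn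
  have hc8 : (lcISupp u).card = 8 := by omega
  have hzero : ∑ p, (u p ^ 2 - (if p ∈ lcISupp u then (4 : ℤ) else 0)) = 0 := by
    rw [hsum, hc8]
    norm_num
  have hall := (Finset.sum_eq_zero_iff_of_nonneg hterm).mp hzero
  refine ⟨⟨⟨s, hs, hsupp⟩, hc8⟩, ?_, ?_⟩
  · intro p hp
    have h1 := hall p (Finset.mem_univ p)
    rw [if_pos hp] at h1
    have h2 : (u p - 2) * (u p + 2) = 0 := by
      ring_nf
      linarith
    rcases mul_eq_zero.mp h2 with h3 | h3
    · left
      linarith
    · right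
      linarith
  · intro p hp
    have h1 := hall p (Finset.mem_univ p)
    rw [if_neg hp] at h1
    simpa using h1

/-- PIECE I. -/
theorem lc_count_even (L : AddSubgroup (GolayPt → ℤ)) (hL : LcPre L)
    (hS : ∀ x ∈ L, (∀ p, (4 : ℤ) ∣ x p) → (8 : ℤ) ∣ ∑ p, x p)
    (hW : ∀ s ∈ lcCode L, s ≠ 0 → 8 ≤ (support₂ s).card) :
    {u : GolayPt → ℤ | u ∈ L ∧ sqNorm u = 32 ∧ (∀ p, (2 : ℤ) ∣ u p) ∧
        ¬ ∀ p, (4 : ℤ) ∣ u p}.ncard ≤
      128 * (wordsOfWeight (lcCode L : Set (GolayPt → ZMod 2)) 8).ncard := by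
  classical
  have hfin : {u : GolayPt → ℤ | u ∈ L ∧ sqNorm u = 32 ∧ (∀ p, (2 : ℤ) ∣ u p) ∧
        ¬ ∀ p, (4 : ℤ) ∣ u p}.Finite :=
    (lc_finite_sqNorm 32).subset (fun u hu => hu.2.1)
  have hWfin : (wordsOfWeight (lcCode L : Set (GolayPt → ZMod 2)) 8).Finite := Set.toFinite _
  rw [Set.ncard_eq_toFinset_card _ hfin, Set.ncard_eq_toFinset_card _ hWfin]
  have hmem : ∀ u, u ∈ hfin.toFinset ↔ (u ∈ L ∧ sqNorm u = 32 ∧ (∀ p, (2 : ℤ) ∣ u p) ∧
      ¬ ∀ p, (4 : ℤ) ∣ u p) := by
    intro u
    rw [Set.Finite.mem_toFinset]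
    rfl
  refine (Finset.card_le_mul_card_image (f := lcISupp) hfin.toFinset 128 ?_).trans
    (Nat.mul_le_mul_left _ (Finset.card_le_card ?_))
  · intro S hS'
    obtain ⟨u0, hu0, rfl⟩ := Finset.mem_image.mp hS'
    rw [hmem] at hu0
    obtain ⟨hw0, hpm0, hz0⟩ := lcI_shape L hW u0 hu0.1 hu0.2.1 hu0.2.2.1 hu0.2.2.2
    have hne : (lcISupp u0).Nonempty := by
      rw [← Finset.card_pos, hw0.2]
      norm_num
    obtain ⟨p0, hp0⟩ := hne
    have hpow : ((lcISupp u0).erase p0).powerset.card = 128 := by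
      rw [Finset.card_powerset, Finset.card_erase_of_mem hp0, hw0.2]
      norm_num
    rw [← hpow]
    apply Finset.card_le_card_of_injOn
      (fun u => ((lcISupp u0).erase p0).filter (fun p => u p < 0))
    · intro u _
      rw [Finset.mem_coe, Finset.mem_powerset]
      exact Finset.filter_subset _ _
    · intro u hu u' hu' heq
      obtain ⟨hu1, hu2⟩ := Finset.mem_filter.mp (Finset.mem_coe.mp hu)
      obtain ⟨hu1', hu2'⟩ := Finset.mem_filter.mp (Finset.mem_coe.mp hu')
      rw [hmem] at hu1 hu1'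
      obtain ⟨-, hpm, hz⟩ := lcI_shape L hW u hu1.1 hu1.2.1 hu1.2.2.1 hu1.2.2.2
      obtain ⟨-, hpm', hz'⟩ := lcI_shape L hW u' hu1'.1 hu1'.2.1 hu1'.2.2.1 hu1'.2.2.2
      rw [hu2] at hpm hz
      rw [hu2'] at hpm' hz'
      have heq' : ((lcISupp u0).erase p0).filter (fun p => u p < 0) =
          ((lcISupp u0).erase p0).filter (fun p => u' p < 0) := heq
      have hag : ∀ p, p ≠ p0 → u p = u' p := by
        intro p hp
        by_cases hpS : p ∈ lcISupp u0
        · have hiff : u p < 0 ↔ u' p < 0 := by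
            have h1 : p ∈ ((lcISupp u0).erase p0).filter (fun p => u p < 0) ↔ u p < 0 := by
              simp [hp, hpS]
            have h2 : p ∈ ((lcISupp u0).erase p0).filter (fun p => u' p < 0) ↔ u' p < 0 := by
              simp [hp, hpS]
            rw [← h1, ← h2, heq']
          rcases hpm p hpS with h | h <;> rcases hpm' p hpS with h' | h' <;> omega
        · rw [hz p hpS, hz' p hpS]
      have hd : (8 : ℤ) ∣ ∑ p, (u - u') p := by
        apply hS (u - u') (L.sub_mem hu1.1 hu1'.1)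
        intro p
        show (4 : ℤ) ∣ u p - u' p
        by_cases hpS : p ∈ lcISupp u0
        · rcases hpm p hpS with h | h <;> rcases hpm' p hpS with h' | h' <;> omega
        · rw [hz p hpS, hz' p hpS]
          simp
      have hsum : ∑ p, (u - u') p = u p0 - u' p0 := by
        rw [Finset.sum_eq_single p0]
        · rfl
        · intro p _ hp
          show u p - u' p = 0
          rw [hag p hp]
          ring
        · intro h
          exact absurd (Finset.mem_univ p0) h
      rw [hsum] at hd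
      funext p
      by_cases hp : p = p0
      · rw [hp]
        rcases hpm p0 hp0 with h | h <;> rcases hpm' p0 hp0 with h' | h' <;> omega
      · exact hag p hp
  · intro S hS'
    obtain ⟨u0, hu0, rfl⟩ := Finset.mem_image.mp hS'
    rw [hmem] at hu0
    rw [Set.Finite.mem_toFinset]
    exact (lcI_shape L hW u0 hu0.1 hu0.2.1 hu0.2.2.1 hu0.2.2.2).1

end Cfsg.Agent.Lib.helper83
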