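import Mathlib
import Cfsg.Prelude.Def_Transfer
import Cfsg.Agent.Lib.helper3.PGroupFrattini

/-!
# S5239 split (architect helper79): racer copy of the leaf XS
A nonabelian group of order 27 is extraspecial.  Statement verbatim from tools/S5239_Skel.lean.txt.
-/

set_option autoImplicit false

namespace Cfsg.Agent.Lib.helper79.P3

open scoped commutatorElement

/-- XS (racer copy). A nonabelian group of order 27 is extraspecial. -/
theorem h83_p3_extraspecial27 {G : Type*} [Group G] [Finite G] (hG : Nat.card G = 27)
    (hna : ∃ a b : G, a * b ≠ b * a) : Cfsg.IsExtraspecial 3 G := by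
  haveI : Fact (Nat.Prime 3) := ⟨by norm_num⟩
  have hG3 : Nat.card G = 3 ^ 3 := by rw [hG]; norm_num
  have hP : IsPGroup 3 G := IsPGroup.of_card hG3
  obtain ⟨a, b, hab⟩ := hna
  -- the centre has order 3
  obtain ⟨k, hk0, hk⟩ := IsPGroup.card_center_eq_prime_pow (p := 3) hG3 (by norm_num)
  have hkd : Nat.card (Subgroup.center G) ∣ Nat.card G := Subgroup.card_subgroup_dvd_card _
  rw [hk, hG3] at hkd
  have hk3 : k ≤ 3 := (Nat.pow_dvd_pow_iff_le_right (by norm_num)).mp hkd
  have hZ : Nat.card (Subgroup.center G) = 3 := by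
    have hidx : Nat.card G = Nat.card (G ⧸ Subgroup.center G) * Nat.card (Subgroup.center G) :=
      Subgroup.card_eq_card_quotient_mul_card_subgroup _
    rw [hG, hk] at hidx
    interval_cases k
    · simpa using hk
    · exfalso
      have hq : Nat.card (G ⧸ Subgroup.center G) = 3 := by
        norm_num at hidx
        omega
      haveI : IsCyclic (G ⧸ Subgroup.center G) := isCyclic_of_prime_card hq
      exact hab (commutative_of_cyclic_center_quotient (QuotientGroup.mk' (Subgroup.center G))
        (QuotientGroup.ker_mk' _).le a b)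
    · exfalso
      have htop : Subgroup.center G = ⊤ :=
        (Subgroup.card_eq_iff_eq_top _).mp (by rw [hk, hG]; norm_num)
      have ha : a ∈ Subgroup.center G := by rw [htop]; exact Subgroup.mem_top a
      exact hab (Subgroup.mem_center_iff.mp ha b).symm
  -- the quotient by the centre is abelian
  have hq9 : Nat.card (G ⧸ Subgroup.center G) = 3 ^ 2 := by
    have hidx := Subgroup.card_eq_card_quotient_mul_card_subgroup (Subgroup.center G)
    rw [hG, hZ] at hidx
    norm_num
    omega
  have hcZ : commutator G ≤ Subgroup.center G := by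
    haveI : IsMulCommutative (G ⧸ Subgroup.center G) :=
      ⟨⟨IsPGroup.commutative_of_card_eq_prime_sq hq9⟩⟩
    exact Subgroup.Normal.quotient_commutative_iff_commutator_le.mp inferInstance
  have hcne : commutator G ≠ ⊥ := by
    intro hbot
    have hmem : ⁅a, b⁆ ∈ commutator G := by
      rw [commutator_def]
      exact Subgroup.commutator_mem_commutator (Subgroup.mem_top a) (Subgroup.mem_top b)
    rw [hbot, Subgroup.mem_bot] at hmem
    exact hab (commutatorElement_eq_one_iff_mul_comm.mp hmem)
  have hcomm : commutator G = Subgroup.center G := by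
    refine Subgroup.eq_of_le_of_card_ge hcZ ?_
    rw [hZ]
    have hd : Nat.card (commutator G) ∣ 3 := hZ ▸ Subgroup.card_dvd_of_le hcZ
    rcases (Nat.dvd_prime (by norm_num : Nat.Prime 3)).mp hd with h1 | h3
    · exact absurd (Subgroup.eq_bot_of_card_eq _ h1) hcne
    · omega
  -- the Frattini subgroup
  have hZΦ : Subgroup.center G ≤ frattini G :=
    hcomm ▸ Cfsg.Agent.Lib.helper3.commutator_le_frattini hP
  have hΦd : Nat.card (frattini G) ∣ 3 ^ 3 := hG3 ▸ Subgroup.card_subgroup_dvd_card _
  obtain ⟨j, hj3, hj⟩ := (Nat.dvd_prime_pow (by norm_num : Nat.Prime 3)).mp hΦd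
  have hZd : 3 ∣ Nat.card (frattini G) := hZ ▸ Subgroup.card_dvd_of_le hZΦ
  have hfr : frattini G = Subgroup.center G := by
    interval_cases j
    · exfalso
      rw [hj] at hZd
      norm_num at hZd
    · exact (Subgroup.eq_of_le_of_card_ge hZΦ (by rw [hj, hZ]; norm_num)).symm
    · exfalso
      have hne : frattini G ≠ ⊤ := by
        intro htop
        rw [htop, Subgroup.card_top, hG] at hj
        norm_num at hj
      obtain ⟨g, hg⟩ : ∃ g : G, g ∉ frattini G := by
        by_contra hcon
        push_neg at hcon
        exact hne (eq_top_iff.mpr (fun g _ => hcon g))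
      have hL : Subgroup.zpowers g ⊔ frattini G = ⊤ := by
        have hle : frattini G ≤ Subgroup.zpowers g ⊔ frattini G := le_sup_right
        have hd1 : Nat.card (frattini G) ∣ Nat.card (Subgroup.zpowers g ⊔ frattini G : Subgroup G) :=
          Subgroup.card_dvd_of_le hle
        have hd2 : Nat.card (Subgroup.zpowers g ⊔ frattini G : Subgroup G) ∣ 3 ^ 3 :=
          hG3 ▸ Subgroup.card_subgroup_dvd_card _
        obtain ⟨i, hi3, hi⟩ := (Nat.dvd_prime_pow (by norm_num : Nat.Prime 3)).mp hd2
        rw [hj, hi] at hd1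
        have hi2 : 2 ≤ i := (Nat.pow_dvd_pow_iff_le_right (by norm_num)).mp hd1
        interval_cases i
        · exfalso
          have heq : frattini G = Subgroup.zpowers g ⊔ frattini G :=
            Subgroup.eq_of_le_of_card_ge hle (by rw [hj, hi])
          apply hg
          rw [heq]
          exact (le_sup_left : Subgroup.zpowers g ≤ _) (Subgroup.mem_zpowers g)
        · exact (Subgroup.card_eq_iff_eq_top _).mp (by rw [hi, hG]; norm_num)
      have hcyc : Subgroup.zpowers g = ⊤ := frattini_nongenerating hL
      have ha : a ∈ Subgroup.zpowers g := hcyc ▸ Subgroup.mem_top a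
      have hb : b ∈ Subgroup.zpowers g := hcyc ▸ Subgroup.mem_top b
      obtain ⟨i, rfl⟩ := Subgroup.mem_zpowers_iff.mp ha
      obtain ⟨l, rfl⟩ := Subgroup.mem_zpowers_iff.mp hb
      exact hab ((Commute.refl g).zpow_zpow i l).eq
    · exfalso
      have htop : frattini G = ⊤ := (Subgroup.card_eq_iff_eq_top _).mp (by rw [hj, hG]; norm_num)
      rcases eq_top_or_exists_le_coatom (⊥ : Subgroup G) with h | ⟨M, hM, _⟩
      · have h1 : Nat.card (⊥ : Subgroup G) = Nat.card (⊤ : Subgroup G) := by rw [h]
        rw [Subgroup.card_bot, Subgroup.card_top, hG] at h1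
        norm_num at h1
      · exact hM.1 (top_le_iff.mp (htop ▸ frattini_le_coatom hM))
  exact ⟨⟨hP, hfr, hcomm⟩, hZ⟩

end Cfsg.Agent.Lib.helper79.P3
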