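import Mathlib
import Cfsg.Prelude.Def_Characters
import Cfsg.Prelude.Def_Blocks
import Cfsg.Agent.Lib.helper83.CharBasic
import Cfsg.Agent.Lib.helper83.CharBasic2
import Cfsg.Agent.Lib.helper83.Gagola
import Cfsg.Agent.Lib.helper21.TIChar
import Cfsg.Agent.Lib.helper82.CharDeg
import Cfsg.Agent.Lib.helper4.CharDecomp

/-!
# Faithful irreducible characters of `p`-groups: splitting over the centralizer of a
second-centre element

Set-up: `χ` faithful irreducible of `P`, `g` with `g ^ p` central and all commutators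
`[h, g]` central, `g` not central.  Then `T = C_P(g)` has index `p`, and `χ` restricted to
`T` is the sum of the `p` distinct irreducible characters given by explicit projections.
-/

set_option autoImplicit false
set_option linter.unusedSectionVars false
set_option linter.style.haveILetI false

open Cfsg

namespace Cfsg.Agent.Lib.helper83.PField

open Cfsg.Agent.Lib Cfsg.Agent.Lib.helper83
open scoped ComplexConjugate

universe u

/-! ### Field-theoretic lemmas -/

theorem finite_of_le {E L : IntermediateField ℚ ℂ} (h : E ≤ L) [FiniteDimensional ℚ L] :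
    FiniteDimensional ℚ E :=
  Module.Finite.of_injective (IntermediateField.inclusion h).toLinearMap
    (IntermediateField.inclusion_injective h)

theorem finrank_mono' {E L : IntermediateField ℚ ℂ} (h : E ≤ L) [FiniteDimensional ℚ L] :
    Module.finrank ℚ E ≤ Module.finrank ℚ L :=
  LinearMap.finrank_le_finrank_of_injective (f := (IntermediateField.inclusion h).toLinearMap)
    (IntermediateField.inclusion_injective h)

theorem finrank_le_of_root (F E : IntermediateField ℚ ℂ) [FiniteDimensional ℚ F] (α : ℂ) (p : ℕ)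
    (hp : p ≠ 0) (hα : α ^ p ∈ F) (hE : ∀ x ∈ E, x ∈ IntermediateField.adjoin F {α}) :
    FiniteDimensional ℚ E ∧ Module.finrank ℚ E ≤ p * Module.finrank ℚ F := by
  have hint : IsIntegral F α := by
    refine ⟨Polynomial.X ^ p - Polynomial.C (⟨α ^ p, hα⟩ : F),
      Polynomial.monic_X_pow_sub_C _ hp, ?_⟩
    simp [Polynomial.eval₂_sub, Polynomial.eval₂_pow]
  haveI : FiniteDimensional F (IntermediateField.adjoin F {α}) :=
    IntermediateField.adjoin.finiteDimensional hint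
  haveI : FiniteDimensional ℚ (IntermediateField.adjoin F {α}) :=
    Module.Finite.trans F (IntermediateField.adjoin F {α})
  have hdeg : Module.finrank F (IntermediateField.adjoin F {α}) ≤ p := by
    rw [IntermediateField.adjoin.finrank hint]
    have h1 : minpoly F α ∣ Polynomial.X ^ p - Polynomial.C (⟨α ^ p, hα⟩ : F) := by
      apply minpoly.dvd
      simp [Polynomial.aeval_def, Polynomial.eval₂_sub, Polynomial.eval₂_pow]
    have h2 := Polynomial.natDegree_le_of_dvd h1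
      (Polynomial.X_pow_sub_C_ne_zero (Nat.pos_of_ne_zero hp) _)
    rwa [Polynomial.natDegree_X_pow_sub_C] at h2
  have htower : Module.finrank ℚ (IntermediateField.adjoin F {α}) =
      Module.finrank ℚ F * Module.finrank F (IntermediateField.adjoin F {α}) :=
    (Module.finrank_mul_finrank ℚ F (IntermediateField.adjoin F {α})).symm
  let ι : E →ₗ[ℚ] (IntermediateField.adjoin F {α}) :=
    { toFun := fun x => ⟨x.1, hE x.1 x.2⟩
      map_add' := fun x y => rfl
      map_smul' := fun c x => rfl }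
  have hι : Function.Injective ι := by
    intro x y hxy
    apply Subtype.ext
    have h := congrArg (fun z : (IntermediateField.adjoin F {α}) => (z : ℂ)) hxy
    exact h
  refine ⟨Module.Finite.of_injective ι hι, ?_⟩
  have h3 := LinearMap.finrank_le_finrank_of_injective hι
  rw [htower] at h3
  calc Module.finrank ℚ E
      ≤ Module.finrank ℚ F * Module.finrank F (IntermediateField.adjoin F {α}) := h3
    _ ≤ Module.finrank ℚ F * p := Nat.mul_le_mul_left _ hdeg
    _ = p * Module.finrank ℚ F := Nat.mul_comm _ _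

theorem totient_le_finrank (K : IntermediateField ℚ ℂ) [FiniteDimensional ℚ K] (ζ : ℂ) (n : ℕ)
    (hn : 0 < n) (hζ : IsPrimitiveRoot ζ n) (hK : ζ ∈ K) :
    Nat.totient n ≤ Module.finrank ℚ K := by
  have hint : IsIntegral ℚ ζ := (hζ.isIntegral hn).tower_top
  have h1 : Module.finrank ℚ (IntermediateField.adjoin ℚ {ζ}) = Nat.totient n := by
    rw [IntermediateField.adjoin.finrank hint, ← Polynomial.cyclotomic_eq_minpoly_rat hζ hn,
      Polynomial.natDegree_cyclotomic]
  have h2 : IntermediateField.adjoin ℚ {ζ} ≤ K := by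
    rw [IntermediateField.adjoin_simple_le_iff]
    exact hK
  rw [← h1]
  exact finrank_mono' h2

/-! ### Arithmetic -/

theorem arithA (p a f₁ t : ℕ) (hp : 2 ≤ p) (ha : 1 ≤ a) (hf : 1 ≤ f₁)
    (h : (p - 1) * (a - 1) ≤ (f₁ - 1) + (p - 1) * (t + 1 + 1) * f₁) :
    (p - 1) * a ≤ (p * f₁ - 1) + (p - 1) * (t + 1) * (p * f₁) := by
  obtain ⟨q, rfl⟩ : ∃ q, p = q + 2 := ⟨p - 2, by omega⟩
  obtain ⟨f₂, rfl⟩ : ∃ f₂, f₁ = f₂ + 1 := ⟨f₁ - 1, by omega⟩
  obtain ⟨a', rfl⟩ : ∃ a', a = a' + 1 := ⟨a - 1, by omega⟩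
  have e1 : q + 2 - 1 = q + 1 := by omega
  have e2 : a' + 1 - 1 = a' := by omega
  have e3 : f₂ + 1 - 1 = f₂ := by omega
  have e4 : (q + 2) * (f₂ + 1) - 1 = q * f₂ + q + 2 * f₂ + 1 := by
    have : (q + 2) * (f₂ + 1) = q * f₂ + q + 2 * f₂ + 1 + 1 := by ring
    omega
  rw [e1, e2, e3] at h
  rw [e1, e4]
  nlinarith [h, Nat.zero_le (q * f₂), Nat.zero_le ((q + 1) * (f₂ + 1) * (t * q + t + q)),
    Nat.zero_le f₂]

theorem arithB (p a a₁ f₁ t : ℕ) (hp : 2 ≤ p) (ha : 1 ≤ a) (hf : 1 ≤ f₁)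
    (ha1 : a - 1 ≤ p * a₁)
    (h : (p - 1) * a₁ ≤ (f₁ - 1) + (p - 1) * (t + 1) * f₁) :
    (p - 1) * a ≤ (p * f₁ - 1) + (p - 1) * (t + 1) * (p * f₁) := by
  obtain ⟨q, rfl⟩ : ∃ q, p = q + 2 := ⟨p - 2, by omega⟩
  obtain ⟨f₂, rfl⟩ : ∃ f₂, f₁ = f₂ + 1 := ⟨f₁ - 1, by omega⟩
  obtain ⟨a', rfl⟩ : ∃ a', a = a' + 1 := ⟨a - 1, by omega⟩
  have e1 : q + 2 - 1 = q + 1 := by omega
  have e2 : a' + 1 - 1 = a' := by omega
  have e3 : f₂ + 1 - 1 = f₂ := by omega
  have e4 : (q + 2) * (f₂ + 1) - 1 = q * f₂ + q + 2 * f₂ + 1 := by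
    have : (q + 2) * (f₂ + 1) = q * f₂ + q + 2 * f₂ + 1 + 1 := by ring
    omega
  rw [e2] at ha1
  rw [e1, e3] at h
  rw [e1, e4]
  nlinarith [Nat.mul_le_mul_left (q + 1) ha1, Nat.mul_le_mul_left (q + 2) h]

/-! ### General character lemmas -/

/-- The field of values of a complex function. -/
noncomputable abbrev QF {G : Type u} (f : G → ℂ) : IntermediateField ℚ ℂ :=
  IntermediateField.adjoin ℚ (Set.range f)

theorem irr_mul_center_pow {H : Type u} [Group H] [Finite H] (φ : IrrCharacter H) {z : H}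
    (hz : z ∈ Subgroup.center H) (h : H) (j : ℕ) :
    (φ : H → ℂ) (h * z ^ j) = ((φ : H → ℂ) z / (φ : H → ℂ) 1) ^ j * (φ : H → ℂ) h := by
  induction j with
  | zero => simp
  | succ j ih =>
    rw [pow_succ, ← mul_assoc, helper21.irr_mul_center_eq φ hz, ih]
    ring

theorem geom_zero {p : ℕ} {x : ℂ} (hx : x ^ p = 1) (h1 : x ≠ 1) :
    ∑ i ∈ Finset.range p, x ^ i = 0 := by
  rw [geom_sum_eq h1, hx, sub_self, zero_div]

theorem delta_eval {p : ℕ} {β μ : ℂ} (hβ : β ≠ 0) (h : μ ^ p = β ^ p) (hp : p ≠ 0) :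
    (p : ℂ)⁻¹ * ∑ j ∈ Finset.range p, (β ^ j)⁻¹ * μ ^ j = if μ = β then 1 else 0 := by
  have e : ∀ j ∈ Finset.range p, (β ^ j)⁻¹ * μ ^ j = (μ / β) ^ j := by
    intro j _
    rw [div_pow, div_eq_inv_mul]
  rw [Finset.sum_congr rfl e]
  split_ifs with hh
  · rw [hh, div_self hβ]
    simp only [one_pow, Finset.sum_const, Finset.card_range, nsmul_eq_mul, mul_one]
    exact inv_mul_cancel₀ (Nat.cast_ne_zero.mpr hp)
  · rw [geom_zero, mul_zero]
    · rw [div_pow, h, div_self (pow_ne_zero _ hβ)]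
    · intro h1
      rw [div_eq_one_iff_eq hβ] at h1
      exact hh h1

/-- The kernel of an irreducible character, as a subgroup. -/
def kerS {H : Type u} [Group H] [Finite H] (ψ : IrrCharacter H) : Subgroup H where
  carrier := {x | (ψ : H → ℂ) x = (ψ : H → ℂ) 1}
  mul_mem' := fun ha hb => isCharacter_ker_mul (isCharacter_of_irr ψ.2) ha hb
  one_mem' := rfl
  inv_mem' := fun ha => isCharacter_ker_inv (isCharacter_of_irr ψ.2) ha

theorem mem_kerS {H : Type u} [Group H] [Finite H] (ψ : IrrCharacter H) (x : H) :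
    x ∈ kerS ψ ↔ (ψ : H → ℂ) x = (ψ : H → ℂ) 1 := Iff.rfl

instance kerS_normal {H : Type u} [Group H] [Finite H] (ψ : IrrCharacter H) :
    (kerS ψ).Normal :=
  ⟨fun n hn g => by
    rw [mem_kerS] at hn ⊢
    rw [irr_conj]
    exact hn⟩

/-! ### The set-up -/

/-- Data: a faithful irreducible character and a non-central element of the second centre
whose `p`-th power is central. -/
structure Setup (P : Type u) [Group P] (p : ℕ) where
  χ : IrrCharacter P
  faith : ∀ x : P, (χ : P → ℂ) x = (χ : P → ℂ) 1 → x = 1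
  hp : p.Prime
  g : P
  gp : g ^ p ∈ Subgroup.center P
  hc : ∀ h : P, h * g * h⁻¹ * g⁻¹ ∈ Subgroup.center P
  y₀ : P
  hy₀ : y₀ * g ≠ g * y₀

namespace Setup

variable {P : Type u} [Group P] [Finite P] {p : ℕ} (S : Setup P p)

/-- The central character. -/
noncomputable def lam (z : P) : ℂ := (S.χ : P → ℂ) z / (S.χ : P → ℂ) 1

/-- The commutator with `g`. -/
def c (y : P) : P := y * S.g * y⁻¹ * S.g⁻¹

/-- The linear character `y ↦ λ([y, g])`. -/
noncomputable def om (y : P) : ℂ := S.lam (S.c y)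

theorem chi_mul_center {z : P} (hz : z ∈ Subgroup.center P) (h : P) :
    (S.χ : P → ℂ) (h * z) = S.lam z * (S.χ : P → ℂ) h :=
  helper21.irr_mul_center_eq S.χ hz h

theorem lam_one : S.lam 1 = 1 := div_self (irr_one_ne_zero S.χ)

theorem lam_mul (z₁ : P) {z₂ : P} (h₂ : z₂ ∈ Subgroup.center P) :
    S.lam (z₁ * z₂) = S.lam z₁ * S.lam z₂ := by
  unfold lam
  rw [helper21.irr_mul_center_eq S.χ h₂ z₁]
  ring

theorem lam_pow {z : P} (hz : z ∈ Subgroup.center P) (n : ℕ) : S.lam (z ^ n) = S.lam z ^ n := by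
  induction n with
  | zero => simp [S.lam_one]
  | succ n ih => rw [pow_succ, S.lam_mul _ hz, ih, pow_succ]

theorem lam_inj {z : P} (h : S.lam z = 1) : z = 1 := by
  apply S.faith
  unfold lam at h
  rwa [div_eq_one_iff_eq (irr_one_ne_zero S.χ)] at h

theorem lam_ne_zero {z : P} (hz : z ∈ Subgroup.center P) : S.lam z ≠ 0 := by
  have h1 := S.lam_mul z (Subgroup.inv_mem _ hz)
  rw [mul_inv_cancel, S.lam_one] at h1
  exact left_ne_zero_of_mul_eq_one h1.symm

theorem c_mem (y : P) : S.c y ∈ Subgroup.center P := S.hc y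

theorem c_mul (y₁ y₂ : P) : S.c (y₁ * y₂) = S.c y₁ * S.c y₂ := by
  have h2 := S.c_mem y₂
  rw [Subgroup.mem_center_iff] at h2
  have e : S.c (y₁ * y₂) = y₁ * S.c y₂ * (S.g * y₁⁻¹ * S.g⁻¹) := by
    unfold c; group
  rw [e, h2 y₁, h2 (S.c y₁)]
  unfold c; group

theorem om_mul (y₁ y₂ : P) : S.om (y₁ * y₂) = S.om y₁ * S.om y₂ := by
  unfold om
  rw [S.c_mul, S.lam_mul _ (S.c_mem y₂)]

theorem c_one : S.c 1 = 1 := by unfold c; group

theorem om_one : S.om 1 = 1 := by unfold om; rw [S.c_one, S.lam_one]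

theorem om_pow (y : P) (n : ℕ) : S.om (y ^ n) = S.om y ^ n := by
  induction n with
  | zero => simp [S.om_one]
  | succ n ih => rw [pow_succ, S.om_mul, ih, pow_succ]

theorem om_mul_inv (y : P) : S.om y * S.om y⁻¹ = 1 := by
  rw [← S.om_mul, mul_inv_cancel, S.om_one]

theorem om_ne_zero (y : P) : S.om y ≠ 0 := left_ne_zero_of_mul_eq_one (S.om_mul_inv y)

theorem om_inv (y : P) : S.om y⁻¹ = (S.om y)⁻¹ := eq_inv_of_mul_eq_one_right (S.om_mul_inv y)

theorem conj_pow_g (y : P) (j : ℕ) : y * S.g ^ j * y⁻¹ = S.c y ^ j * S.g ^ j := by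
  have h1 : y * S.g * y⁻¹ = S.c y * S.g := by unfold c; group
  have hcomm : Commute (S.c y) S.g := by
    have := S.c_mem y
    rw [Subgroup.mem_center_iff] at this
    exact (this S.g).symm
  rw [← conj_pow, h1, hcomm.mul_pow]

theorem c_pow_p (y : P) : S.c y ^ p = 1 := by
  have h1 := S.conj_pow_g y p
  have h2 : y * S.g ^ p * y⁻¹ = S.g ^ p := by
    have := S.gp
    rw [Subgroup.mem_center_iff] at this
    rw [this y, mul_assoc, mul_inv_cancel, mul_one]
  rw [h2] at h1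
  exact mul_right_cancel (h1.symm.trans (one_mul _).symm)

theorem om_pow_p (y : P) : S.om y ^ p = 1 := by
  unfold om
  rw [← S.lam_pow (S.c_mem y), S.c_pow_p, S.lam_one]

/-- The centralizer of `g`. -/
def T : Subgroup P := Subgroup.centralizer {S.g}

theorem mem_T_iff (x : P) : x ∈ S.T ↔ S.om x = 1 := by
  unfold T
  rw [Subgroup.mem_centralizer_iff]
  constructor
  · intro h
    have h1 : S.c x = 1 := by
      unfold c
      have := h S.g (Set.mem_singleton _)
      rw [← this]; group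
    unfold om
    rw [h1, S.lam_one]
  · intro h y hy
    rw [Set.mem_singleton_iff] at hy
    subst hy
    have h1 := S.lam_inj h
    unfold c at h1
    rw [mul_inv_eq_one, mul_inv_eq_iff_eq_mul] at h1
    exact h1.symm

theorem T_normal : S.T.Normal := by
  constructor
  intro x hx y
  rw [S.mem_T_iff] at hx ⊢
  rw [S.om_mul, S.om_mul, hx, mul_one, S.om_mul_inv]

theorem chi_conj_pow (y h : P) (j : ℕ) :
    (S.χ : P → ℂ) (h * (y * S.g ^ j * y⁻¹)) = S.om y ^ j * (S.χ : P → ℂ) (h * S.g ^ j) := by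
  have hz : S.c y ^ j ∈ Subgroup.center P := Subgroup.pow_mem _ (S.c_mem y) j
  have hz' := hz
  rw [Subgroup.mem_center_iff] at hz'
  rw [S.conj_pow_g, ← hz' (S.g ^ j), ← mul_assoc, S.chi_mul_center hz, S.lam_pow (S.c_mem y)]
  rfl

theorem chi_eq_zero_of_not_mem {x : P} (hx : x ∉ S.T) : (S.χ : P → ℂ) x = 0 := by
  rw [S.mem_T_iff] at hx
  have h1 : S.g * x * S.g⁻¹ = x * S.c x⁻¹ := by unfold c; group
  have h2 : (S.χ : P → ℂ) x = S.om x⁻¹ * (S.χ : P → ℂ) x := by
    have e := irr_conj S.χ x S.g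
    rw [h1, S.chi_mul_center (S.c_mem _)] at e
    exact e.symm
  have h3 : S.om x⁻¹ ≠ 1 := by
    rw [S.om_inv]
    intro h
    apply hx
    rwa [inv_eq_one] at h
  have h4 : (1 - S.om x⁻¹) * (S.χ : P → ℂ) x = 0 := by linear_combination h2
  rcases mul_eq_zero.mp h4 with h | h
  · exact absurd (sub_eq_zero.mp h).symm h3
  · exact h

theorem om_y₀_ne_one : S.om S.y₀ ≠ 1 := by
  intro h
  have := (S.mem_T_iff S.y₀).mpr h
  unfold T at this
  rw [Subgroup.mem_centralizer_iff] at this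
  exact S.hy₀ (this S.g (Set.mem_singleton _)).symm

theorem om_y₀_prim : IsPrimitiveRoot (S.om S.y₀) p := by
  haveI : Fact p.Prime := ⟨S.hp⟩
  have h := orderOf_eq_prime (S.om_pow_p S.y₀) S.om_y₀_ne_one
  have h2 := IsPrimitiveRoot.orderOf (S.om S.y₀)
  rwa [h] at h2

theorem chi_g_pow_eq_zero {j : ℕ} (h0 : j ≠ 0) (hj : j < p) :
    (S.χ : P → ℂ) (S.g ^ j) = 0 := by
  have h1 := S.chi_conj_pow S.y₀ 1 j
  rw [one_mul, one_mul, irr_conj] at h1
  have h2 : S.om S.y₀ ^ j ≠ 1 := S.om_y₀_prim.pow_ne_one_of_pos_of_lt h0 hj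
  have h4 : (1 - S.om S.y₀ ^ j) * (S.χ : P → ℂ) (S.g ^ j) = 0 := by linear_combination h1
  rcases mul_eq_zero.mp h4 with h | h
  · exact absurd (sub_eq_zero.mp h).symm h2
  · exact h

/-- The projection of `χ` to the `β`-eigenpart for `g`. -/
noncomputable def proj (β : ℂ) (h : P) : ℂ :=
  (p : ℂ)⁻¹ * ∑ j ∈ Finset.range p, (β ^ j)⁻¹ * (S.χ : P → ℂ) (h * S.g ^ j)

theorem proj_one (β : ℂ) : S.proj β 1 = (S.χ : P → ℂ) 1 / p := by
  unfold proj
  rw [Finset.sum_eq_single 0]
  · rw [pow_zero, pow_zero, inv_one, one_mul, mul_one, div_eq_inv_mul]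
  · intro j hj h0
    rw [one_mul, S.chi_g_pow_eq_zero h0 (Finset.mem_range.mp hj), mul_zero]
  · intro h
    exact absurd (Finset.mem_range.mpr S.hp.pos) h

theorem sum_proj (α : ℂ) (h : P) :
    ∑ i ∈ Finset.range p, S.proj (α * S.om S.y₀ ^ i) h = (S.χ : P → ℂ) h := by
  unfold proj
  rw [← Finset.mul_sum, Finset.sum_comm]
  rw [Finset.sum_eq_single 0]
  · simp only [pow_zero, inv_one, one_mul, mul_one, Finset.sum_const, Finset.card_range,
      nsmul_eq_mul]
    rw [inv_mul_cancel_left₀ (Nat.cast_ne_zero.mpr S.hp.ne_zero)]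
  · intro j hj h0
    have hj' := Finset.mem_range.mp hj
    have e : ∀ i ∈ Finset.range p,
        ((α * S.om S.y₀ ^ i) ^ j)⁻¹ * (S.χ : P → ℂ) (h * S.g ^ j) =
        ((α ^ j)⁻¹ * (S.χ : P → ℂ) (h * S.g ^ j)) * ((S.om S.y₀ ^ j)⁻¹) ^ i := by
      intro i _
      rw [mul_pow, mul_inv, ← pow_mul, inv_pow, ← pow_mul, mul_comm i j]
      ring
    rw [Finset.sum_congr rfl e, ← Finset.mul_sum, geom_zero, mul_zero]
    · rw [inv_pow, ← pow_mul, mul_comm, pow_mul, S.om_pow_p, one_pow, inv_one]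
    · intro hh
      rw [inv_eq_one] at hh
      exact (S.om_y₀_prim.pow_ne_one_of_pos_of_lt h0 hj') hh
  · intro h
    exact absurd (Finset.mem_range.mpr S.hp.pos) h

theorem proj_conj (β : ℂ) (y h : P) : S.proj β (y * h * y⁻¹) = S.proj (β * S.om y) h := by
  unfold proj
  congr 1
  apply Finset.sum_congr rfl
  intro j _
  have e1 : (S.χ : P → ℂ) (y * h * y⁻¹ * S.g ^ j) =
      (S.om y ^ j)⁻¹ * (S.χ : P → ℂ) (h * S.g ^ j) := by
    have := S.chi_conj_pow y⁻¹ h j
    rw [inv_inv, S.om_inv, inv_pow] at this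
    rw [← this, ← irr_conj S.χ (h * (y⁻¹ * S.g ^ j * y)) y]
    group
  rw [e1, mul_pow, mul_inv]
  ring

theorem proj_conj_pow (β : ℂ) (m : ℕ) (h : P) :
    S.proj β (S.y₀ ^ m * h * (S.y₀ ^ m)⁻¹) = S.proj (β * S.om S.y₀ ^ m) h := by
  rw [S.proj_conj, S.om_pow]

theorem card_eq : Nat.card P = p * Nat.card S.T := by
  have hprim := S.om_y₀_prim
  haveI : NeZero p := ⟨S.hp.ne_zero⟩
  let f : Fin p × S.T → P := fun x => S.y₀ ^ (x.1 : ℕ) * (x.2 : P)
  have hinj : Function.Injective f := by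
    rintro ⟨i, s⟩ ⟨j, s'⟩ h
    simp only [f] at h
    have h1 := congrArg S.om h
    rw [S.om_mul, S.om_mul, S.om_pow, S.om_pow, (S.mem_T_iff _).mp s.2,
      (S.mem_T_iff _).mp s'.2, mul_one, mul_one] at h1
    have h2 : (i : ℕ) = j := hprim.pow_inj i.2 j.2 h1
    have h3 : i = j := Fin.ext h2
    subst h3
    have h4 : (s : P) = s' := mul_left_cancel h
    rw [Subtype.ext h4]
  have hsurj : Function.Surjective f := by
    intro x
    obtain ⟨i, hi, hx⟩ := hprim.eq_pow_of_pow_eq_one (S.om_pow_p x)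
    have hmem : (S.y₀ ^ i)⁻¹ * x ∈ S.T := by
      rw [S.mem_T_iff, S.om_mul, S.om_inv, S.om_pow, hx, inv_mul_cancel₀ (S.om_ne_zero x)]
    exact ⟨(⟨i, hi⟩, ⟨_, hmem⟩), by simp [f]⟩
  have := Nat.card_congr (Equiv.ofBijective f ⟨hinj, hsurj⟩)
  rw [← this, Nat.card_prod, Nat.card_fin]

/-- `g` as an element of `T`. -/
def gT : S.T :=
  ⟨S.g, by
    unfold T
    rw [Subgroup.mem_centralizer_iff]
    intro h hh
    rw [Set.mem_singleton_iff] at hh
    rw [hh]⟩

theorem gT_center : S.gT ∈ Subgroup.center S.T := by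
  rw [Subgroup.mem_center_iff]
  intro x
  apply Subtype.ext
  have := x.2
  unfold T at this
  rw [Subgroup.mem_centralizer_iff] at this
  show (x : P) * S.g = S.g * (x : P)
  exact (this S.g (Set.mem_singleton _)).symm

/-- The central character value of an irreducible character of `T` at `g`. -/
noncomputable def mu (ν : IrrCharacter S.T) : ℂ := (ν : S.T → ℂ) S.gT / (ν : S.T → ℂ) 1

theorem nu_mul_pow (ν : IrrCharacter S.T) (h : S.T) (j : ℕ) :
    (ν : S.T → ℂ) (h * S.gT ^ j) = S.mu ν ^ j * (ν : S.T → ℂ) h :=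
  irr_mul_center_pow ν S.gT_center h j

/-- Conjugation by an element of `P`, restricted to `T`. -/
def cj (y : P) (h : S.T) : S.T := ⟨y * h * y⁻¹, S.T_normal.conj_mem h.1 h.2 y⟩

theorem sum_T_eq [Fintype P] [Fintype S.T] (F : P → ℂ) (hF : ∀ x, x ∉ S.T → F x = 0) :
    ∑ h : S.T, F (h : P) = ∑ x : P, F x := by
  classical
  rw [← Finset.sum_subtype (Finset.univ.filter (· ∈ S.T)) (by simp) F]
  apply Finset.sum_filter_of_ne
  intro x _ hx
  by_contra h
  exact hx (hF x h)

end Setup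

end Cfsg.Agent.Lib.helper83.PField
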