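import Mathlib
import Cfsg.Agent.Lib.helper83.PFieldA
import Cfsg.Agent.Lib.helper20.QuotBlock2
import Cfsg.Agent.Lib.helper82.CharQuot
import Cfsg.Agent.Lib.helper19.AbelianOver

/-!
# Faithful irreducible characters of `p`-groups: the inductive step

`exists_sel`: in the set-up of `PFieldA`, the `p` projections of `χ` restricted to
`T = C_P(g)` are irreducible characters of `T`.  `step`: the dichotomy used in the
induction bounding `|P|` by the degree and the field of values.
-/

set_option autoImplicit false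
set_option linter.unusedSectionVars false
set_option linter.style.haveILetI false

open Cfsg

namespace Cfsg.Agent.Lib.helper83.PField

open Cfsg.Agent.Lib Cfsg.Agent.Lib.helper83
open scoped ComplexConjugate

universe u

namespace Setup

variable {P : Type u} [Group P] [Finite P] {p : ℕ} (S : Setup P p)

theorem exists_sel (α : ℂ) (hα : α ≠ 0) (hαp : α ^ p = S.lam (S.g ^ p)) :
    ∃ sel : ℕ → IrrCharacter S.T, ∀ i < p, ∀ h : S.T,
      (sel i : S.T → ℂ) h = S.proj (α * S.om S.y₀ ^ i) (h : P) := by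
  classical
  letI : Fintype P := Fintype.ofFinite P
  letI : Fintype S.T := Fintype.ofFinite S.T
  letI : Fintype (IrrCharacter S.T) := Fintype.ofFinite _
  have hprim : IsPrimitiveRoot (S.om S.y₀) p := S.om_y₀_prim
  have hp0 : p ≠ 0 := S.hp.ne_zero
  have hpC : (p : ℂ) ≠ 0 := Nat.cast_ne_zero.mpr hp0
  have hTC : (Nat.card S.T : ℂ) ≠ 0 := Nat.cast_ne_zero.mpr Nat.card_pos.ne'
  have hres : IsCharacter S.T (fun h : S.T => (S.χ : P → ℂ) (S.T.subtype h)) :=
    helper4.isCharacter_comp S.T.subtype (isCharacter_of_irr S.χ.2)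
  obtain ⟨c, hc1, hc2, -⟩ := helper82.exists_nat_decomp hres
  have hc2' : ∀ h : S.T, (S.χ : P → ℂ) (h : P) =
      ∑ ν : IrrCharacter S.T, (c ν : ℂ) * (ν : S.T → ℂ) h := fun h => hc2 h
  -- the central character values at `g ^ p`
  have hmu : ∀ ν : IrrCharacter S.T, c ν ≠ 0 → S.mu ν ^ p = S.lam (S.g ^ p) := by
    have hlin := Fintype.linearIndependent_iff.mp (irr_linearIndependent (G := S.T))
      (fun ν => (c ν : ℂ) * (S.mu ν ^ p - S.lam (S.g ^ p)))
    have hzero : ∑ ν : IrrCharacter S.T,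
        ((c ν : ℂ) * (S.mu ν ^ p - S.lam (S.g ^ p))) • (ν : S.T → ℂ) = 0 := by
      funext h
      rw [Finset.sum_apply]
      simp only [Pi.smul_apply, smul_eq_mul, Pi.zero_apply]
      have e1 : (S.χ : P → ℂ) ((h : P) * S.g ^ p) =
          ∑ ν : IrrCharacter S.T, (c ν : ℂ) * (S.mu ν ^ p * (ν : S.T → ℂ) h) := by
        have : (S.χ : P → ℂ) ((h : P) * S.g ^ p) =
            ∑ ν : IrrCharacter S.T, (c ν : ℂ) * (ν : S.T → ℂ) (h * S.gT ^ p) :=
          hc2 (h * S.gT ^ p)
        rw [this]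
        apply Finset.sum_congr rfl
        intro ν _
        rw [S.nu_mul_pow]
      have e2 : (S.χ : P → ℂ) ((h : P) * S.g ^ p) =
          ∑ ν : IrrCharacter S.T, (c ν : ℂ) * (S.lam (S.g ^ p) * (ν : S.T → ℂ) h) := by
        rw [S.chi_mul_center S.gp, hc2' h, Finset.mul_sum]
        apply Finset.sum_congr rfl
        intro ν _
        ring
      have e3 : ∑ ν : IrrCharacter S.T,
          (c ν : ℂ) * (S.mu ν ^ p - S.lam (S.g ^ p)) * (ν : S.T → ℂ) h =
          ∑ ν : IrrCharacter S.T, (c ν : ℂ) * (S.mu ν ^ p * (ν : S.T → ℂ) h) -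
          ∑ ν : IrrCharacter S.T, (c ν : ℂ) * (S.lam (S.g ^ p) * (ν : S.T → ℂ) h) := by
        rw [← Finset.sum_sub_distrib]
        apply Finset.sum_congr rfl
        intro ν _
        ring
      rw [e3, ← e1, ← e2, sub_self]
    intro ν hν
    have h1 := hlin hzero ν
    rcases mul_eq_zero.mp h1 with h | h
    · exact absurd (Nat.cast_eq_zero.mp h) hν
    · exact sub_eq_zero.mp h
  -- the projections in terms of the constituents
  have hproj : ∀ (β : ℂ), β ≠ 0 → β ^ p = S.lam (S.g ^ p) → ∀ h : S.T,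
      S.proj β (h : P) = ∑ ν : IrrCharacter S.T,
        (c ν : ℂ) * (if S.mu ν = β then 1 else 0) * (ν : S.T → ℂ) h := by
    intro β hβ hβp h
    unfold Setup.proj
    have e1 : ∀ j ∈ Finset.range p, (β ^ j)⁻¹ * (S.χ : P → ℂ) ((h : P) * S.g ^ j) =
        ∑ ν : IrrCharacter S.T, (c ν : ℂ) * (ν : S.T → ℂ) h * ((β ^ j)⁻¹ * S.mu ν ^ j) := by
      intro j _
      have : (S.χ : P → ℂ) ((h : P) * S.g ^ j) =
          ∑ ν : IrrCharacter S.T, (c ν : ℂ) * (ν : S.T → ℂ) (h * S.gT ^ j) :=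
        hc2 (h * S.gT ^ j)
      rw [this, Finset.mul_sum]
      apply Finset.sum_congr rfl
      intro ν _
      rw [S.nu_mul_pow]
      ring
    rw [Finset.sum_congr rfl e1, Finset.sum_comm, Finset.mul_sum]
    apply Finset.sum_congr rfl
    intro ν _
    rw [← Finset.mul_sum]
    by_cases hcν : c ν = 0
    · simp [hcν]
    · have hd := delta_eval (p := p) hβ ((hmu ν hcν).trans hβp.symm) hp0
      rw [← hd]
      ring
  have hβi : ∀ i : ℕ, (α * S.om S.y₀ ^ i) ≠ 0 ∧
      (α * S.om S.y₀ ^ i) ^ p = S.lam (S.g ^ p) := by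
    intro i
    refine ⟨mul_ne_zero hα (pow_ne_zero _ (S.om_ne_zero _)), ?_⟩
    rw [mul_pow, ← pow_mul, mul_comm i p, pow_mul, S.om_pow_p, one_pow, mul_one, hαp]
  have hex : ∀ i : ℕ, ∃ ν : IrrCharacter S.T, c ν ≠ 0 ∧ S.mu ν = α * S.om S.y₀ ^ i := by
    intro i
    by_contra hne
    push Not at hne
    have h1 := hproj _ (hβi i).1 (hβi i).2 1
    rw [show ((1 : S.T) : P) = 1 from rfl, S.proj_one] at h1
    have h2 : ∑ ν : IrrCharacter S.T,
        (c ν : ℂ) * (if S.mu ν = α * S.om S.y₀ ^ i then 1 else 0) * (ν : S.T → ℂ) 1 = 0 := by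
      apply Finset.sum_eq_zero
      intro ν _
      by_cases hcν : c ν = 0
      · simp [hcν]
      · simp [hne ν hcν]
    rw [h2] at h1
    exact (div_ne_zero (irr_one_ne_zero S.χ) hpC) h1
  choose sel hsel1 hsel2 using hex
  -- the norm of the restriction
  have hS : ∀ ν : IrrCharacter S.T,
      ∑ h : S.T, (S.χ : P → ℂ) (h : P) * conj ((ν : S.T → ℂ) h) = (Nat.card S.T : ℂ) * c ν := by
    intro ν
    have h1 := hc1 ν
    rw [classInner_def] at h1
    rw [← h1, ← mul_assoc, mul_inv_cancel₀ hTC, one_mul]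
    rfl
  have hnorm : ∑ ν : IrrCharacter S.T, ((c ν : ℂ)) ^ 2 = p := by
    have h1 : ∑ h : S.T, (S.χ : P → ℂ) (h : P) * conj ((S.χ : P → ℂ) (h : P)) =
        (Nat.card P : ℂ) := by
      rw [S.sum_T_eq (fun x => (S.χ : P → ℂ) x * conj ((S.χ : P → ℂ) x))]
      · rw [irr_orthogonality' S.χ S.χ, if_pos rfl]
      · intro x hx
        rw [S.chi_eq_zero_of_not_mem hx, zero_mul]
    have h2 : ∑ h : S.T, (S.χ : P → ℂ) (h : P) * conj ((S.χ : P → ℂ) (h : P)) =
        ∑ ν : IrrCharacter S.T, (c ν : ℂ) * ((Nat.card S.T : ℂ) * c ν) := by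
      have e : ∀ h : S.T, (S.χ : P → ℂ) (h : P) * conj ((S.χ : P → ℂ) (h : P)) =
          ∑ ν : IrrCharacter S.T,
            (c ν : ℂ) * ((S.χ : P → ℂ) (h : P) * conj ((ν : S.T → ℂ) h)) := by
        intro h
        have e1 : conj ((S.χ : P → ℂ) (h : P)) =
            ∑ ν : IrrCharacter S.T, (c ν : ℂ) * conj ((ν : S.T → ℂ) h) := by
          rw [hc2' h, map_sum]
          apply Finset.sum_congr rfl
          intro ν _
          rw [map_mul, Complex.conj_natCast]
        rw [e1, Finset.mul_sum]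
        apply Finset.sum_congr rfl
        intro ν _
        ring
      rw [Finset.sum_congr rfl (fun h _ => e h), Finset.sum_comm]
      apply Finset.sum_congr rfl
      intro ν _
      rw [← Finset.mul_sum, hS ν]
    have h3 : (Nat.card S.T : ℂ) * ∑ ν : IrrCharacter S.T, ((c ν : ℂ)) ^ 2 =
        (Nat.card S.T : ℂ) * p := by
      have hcard : (Nat.card P : ℂ) = (p : ℂ) * (Nat.card S.T : ℂ) := by
        exact_mod_cast S.card_eq
      rw [Finset.mul_sum, mul_comm _ (p : ℂ), ← hcard, ← h1, h2]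
      apply Finset.sum_congr rfl
      intro ν _
      ring
    exact mul_left_cancel₀ hTC h3
  have hnormN : ∑ ν : IrrCharacter S.T, (c ν) ^ 2 = p := by exact_mod_cast hnorm
  -- counting
  have hinj : ∀ i < p, ∀ j < p, sel i = sel j → i = j := by
    intro i hi j hj hij
    have h1 : α * S.om S.y₀ ^ i = α * S.om S.y₀ ^ j := by rw [← hsel2 i, ← hsel2 j, hij]
    exact hprim.pow_inj hi hj (mul_left_cancel₀ hα h1)
  have hsumI : ∑ ν ∈ (Finset.range p).image sel, (c ν) ^ 2 =
      ∑ i ∈ Finset.range p, (c (sel i)) ^ 2 := by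
    rw [Finset.sum_image]
    intro i hi j hj hij
    exact hinj i (Finset.mem_range.mp hi) j (Finset.mem_range.mp hj) hij
  have hge : ∀ i ∈ Finset.range p, 1 ≤ (c (sel i)) ^ 2 := by
    intro i _
    exact Nat.one_le_pow _ _ (Nat.pos_of_ne_zero (hsel1 i))
  have hsplit : ∑ ν ∈ (Finset.range p).image sel, (c ν) ^ 2 +
      ∑ ν ∈ ((Finset.range p).image sel)ᶜ, (c ν) ^ 2 = p := by
    rw [Finset.sum_add_sum_compl, hnormN]
  have hlow : p ≤ ∑ i ∈ Finset.range p, (c (sel i)) ^ 2 := by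
    calc p = ∑ i ∈ Finset.range p, 1 := by simp
      _ ≤ _ := Finset.sum_le_sum hge
  have hcompl : ∑ ν ∈ ((Finset.range p).image sel)ᶜ, (c ν) ^ 2 = 0 := by omega
  have heq : ∑ i ∈ Finset.range p, 1 = ∑ i ∈ Finset.range p, (c (sel i)) ^ 2 := by
    rw [Finset.sum_const, Finset.card_range, smul_eq_mul, mul_one]
    omega
  have hone : ∀ i < p, c (sel i) = 1 := by
    intro i hi
    have h1 := (Finset.sum_eq_sum_iff_of_le hge).mp heq i (Finset.mem_range.mpr hi)
    exact (Nat.pow_eq_one.mp h1.symm).resolve_right two_ne_zero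
  have hzero : ∀ ν, ν ∉ (Finset.range p).image sel → c ν = 0 := by
    intro ν hν
    have h1 := (Finset.sum_eq_zero_iff.mp hcompl) ν (Finset.mem_compl.mpr hν)
    exact (pow_eq_zero_iff two_ne_zero).mp h1
  refine ⟨sel, fun i hi h => ?_⟩
  rw [hproj _ (hβi i).1 (hβi i).2 h]
  rw [Finset.sum_eq_single (sel i)]
  · rw [hone i hi, hsel2 i, if_pos rfl]
    simp
  · intro ν _ hν
    by_cases hνI : ν ∈ (Finset.range p).image sel
    · obtain ⟨m, hm, rfl⟩ := Finset.mem_image.mp hνI
      have hm' := Finset.mem_range.mp hm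
      have hne : S.mu (sel m) ≠ α * S.om S.y₀ ^ i := by
        rw [hsel2 m]
        intro h1
        have h2 := hprim.pow_inj hm' hi (mul_left_cancel₀ hα h1)
        exact hν (by rw [h2])
      rw [if_neg hne]
      simp
    · rw [hzero ν hνI]
      simp
  · intro h
    exact absurd (Finset.mem_univ _) h

end Setup

theorem exists_setup {P : Type u} [Group P] [Finite P] (p a : ℕ) (hp : p.Prime)
    (hPa : Nat.card P = p ^ a) (χ : IrrCharacter P)
    (hfaith : ∀ x : P, (χ : P → ℂ) x = (χ : P → ℂ) 1 → x = 1)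
    (hdeg : charDegree (χ : P → ℂ) ≠ 1) : ∃ S : Setup P p, S.χ = χ := by
  haveI : Fact p.Prime := ⟨hp⟩
  have hPG : IsPGroup p P := IsPGroup.of_card hPa
  have hZ : Subgroup.center P ≠ ⊤ := by
    intro hZ
    apply hdeg
    have hcomm : ∀ x y : P, x * y = y * x := by
      intro x y
      have hy : y ∈ Subgroup.center P := by rw [hZ]; exact Subgroup.mem_top y
      rw [Subgroup.mem_center_iff] at hy
      exact hy x
    have h1 := helper19.linear_of_abelian_quot (⊥ : Subgroup P)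
      (fun x y => by rw [Subgroup.mem_bot, hcomm x y]; group) (χ : P → ℂ) χ.2
      (fun x hx => by rw [Subgroup.mem_bot.mp hx])
    rw [irr_one_eq_charDegree χ] at h1
    exact_mod_cast h1
  haveI : Nontrivial (P ⧸ Subgroup.center P) := by
    by_contra hns
    rw [not_nontrivial_iff_subsingleton] at hns
    exact hZ (QuotientGroup.subgroup_eq_top_of_subsingleton _ hns)
  have hQ : IsPGroup p (P ⧸ Subgroup.center P) := hPG.to_quotient _
  haveI := hQ.center_nontrivial
  have hcard : p ∣ Nat.card (Subgroup.center (P ⧸ Subgroup.center P)) := by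
    rcases (hQ.to_subgroup (Subgroup.center _)).card_eq_or_dvd with h | h
    · exfalso
      have := Finite.one_lt_card (α := Subgroup.center (P ⧸ Subgroup.center P))
      omega
    · exact h
  obtain ⟨w, hw⟩ := exists_prime_orderOf_dvd_card' p hcard
  obtain ⟨g, hg⟩ := QuotientGroup.mk_surjective (w : P ⧸ Subgroup.center P)
  have hwc := w.2
  rw [Subgroup.mem_center_iff] at hwc
  have hw1 : (w : P ⧸ Subgroup.center P) ^ p = 1 := by
    have h1 := pow_orderOf_eq_one w
    rw [hw] at h1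
    have h2 := congrArg Subtype.val h1
    simpa using h2
  have hwne : (w : P ⧸ Subgroup.center P) ≠ 1 := by
    intro h
    have h1 : w = 1 := Subtype.ext h
    rw [h1, orderOf_one] at hw
    exact hp.one_lt.ne hw
  have hgp : g ^ p ∈ Subgroup.center P := by
    rw [← QuotientGroup.eq_one_iff, QuotientGroup.mk_pow, hg]
    exact hw1
  have hc : ∀ h : P, h * g * h⁻¹ * g⁻¹ ∈ Subgroup.center P := by
    intro h
    rw [← QuotientGroup.eq_one_iff]
    simp only [QuotientGroup.mk_mul, QuotientGroup.mk_inv, hg]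
    rw [hwc (h : P ⧸ Subgroup.center P)]
    group
  have hgn : g ∉ Subgroup.center P := by
    intro h
    apply hwne
    rw [← hg]
    exact (QuotientGroup.eq_one_iff g).mpr h
  rw [Subgroup.mem_center_iff] at hgn
  push Not at hgn
  obtain ⟨y₀, hy₀⟩ := hgn
  exact ⟨⟨χ, hfaith, hp, g, hgp, hc, y₀, hy₀⟩, rfl⟩

theorem step {P : Type u} [Group P] [Finite P] (p a : ℕ) (hp : p.Prime)
    (hPa : Nat.card P = p ^ a) (χ : IrrCharacter P)
    (hfaith : ∀ x : P, (χ : P → ℂ) x = (χ : P → ℂ) 1 → x = 1)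
    (hdeg : charDegree (χ : P → ℂ) ≠ 1) :
    ∃ (T : Subgroup P) (ψ : IrrCharacter T), Nat.card P = p * Nat.card T ∧
      charDegree (χ : P → ℂ) = p * charDegree (ψ : T → ℂ) ∧
      (((∀ h : T, (ψ : T → ℂ) h = (ψ : T → ℂ) 1 → h = 1) ∧
          ∃ α : ℂ, α ^ p ∈ QF (χ : P → ℂ) ∧
            ∀ h : T, (ψ : T → ℂ) h ∈ IntermediateField.adjoin (QF (χ : P → ℂ)) {α}) ∨
        (∃ K : Subgroup T, K.Normal ∧ (∀ h : T, h ∈ K ↔ (ψ : T → ℂ) h = (ψ : T → ℂ) 1) ∧
          Nat.card T ≤ K.index ^ p ∧ ∀ h : T, (ψ : T → ℂ) h ∈ QF (χ : P → ℂ))) := by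
  classical
  obtain ⟨S, rfl⟩ := exists_setup p a hp hPa χ hfaith hdeg
  letI : Fintype P := Fintype.ofFinite P
  letI : Fintype S.T := Fintype.ofFinite S.T
  haveI : S.T.Normal := S.T_normal
  have hp0 : p ≠ 0 := hp.ne_zero
  have hpC : (p : ℂ) ≠ 0 := Nat.cast_ne_zero.mpr hp0
  have hprim : IsPrimitiveRoot (S.om S.y₀) p := S.om_y₀_prim
  obtain ⟨α, hαp⟩ := IsAlgClosed.exists_pow_nat_eq (S.lam (S.g ^ p)) hp.pos
  have hα : α ≠ 0 := by
    intro h
    rw [h, zero_pow hp0] at hαp
    exact S.lam_ne_zero S.gp hαp.symm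
  obtain ⟨sel, hsel⟩ := S.exists_sel α hα hαp
  have F1 : ∀ h : S.T, (sel 0 : S.T → ℂ) h = S.proj α (h : P) := by
    intro h
    have h1 := hsel 0 hp.pos h
    rwa [pow_zero, mul_one] at h1
  have hψ1 : (sel 0 : S.T → ℂ) 1 = (S.χ : P → ℂ) 1 / p := by
    rw [F1 1]
    exact S.proj_one α
  have hdegψ : charDegree (S.χ : P → ℂ) = p * charDegree (sel 0 : S.T → ℂ) := by
    have h1 := irr_one_eq_charDegree S.χ
    have h2 := irr_one_eq_charDegree (sel 0)
    rw [hψ1, h1] at h2
    have h3 : (charDegree (S.χ : P → ℂ) : ℂ) =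
        (p : ℂ) * (charDegree (sel 0 : S.T → ℂ) : ℂ) := by
      rw [← h2]
      field_simp
    exact_mod_cast h3
  have hker : ∀ x : P,
      (∀ m < p, S.proj (α * S.om S.y₀ ^ m) x = (S.χ : P → ℂ) 1 / p) → x = 1 := by
    intro x hx
    apply S.faith
    rw [← S.sum_proj α x, Finset.sum_congr rfl (fun m hm => hx m (Finset.mem_range.mp hm)),
      Finset.sum_const, Finset.card_range, nsmul_eq_mul]
    field_simp
  refine ⟨S.T, sel 0, S.card_eq, hdegψ, ?_⟩
  by_cases hfa : ∀ h : S.T, (sel 0 : S.T → ℂ) h = (sel 0 : S.T → ℂ) 1 → h = 1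
  · left
    refine ⟨hfa, α, ?_, ?_⟩
    · rw [hαp]
      unfold Setup.lam
      exact div_mem (IntermediateField.subset_adjoin ℚ _ ⟨_, rfl⟩)
        (IntermediateField.subset_adjoin ℚ _ ⟨_, rfl⟩)
    · intro h
      rw [F1 h]
      unfold Setup.proj
      have hαm : α ∈ IntermediateField.adjoin (QF (S.χ : P → ℂ)) {α} :=
        IntermediateField.mem_adjoin_simple_self _ α
      refine mul_mem (inv_mem (natCast_mem _ p))
        (sum_mem fun j _ => mul_mem (inv_mem (pow_mem hαm j)) ?_)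
      exact (IntermediateField.adjoin (QF (S.χ : P → ℂ)) {α}).algebraMap_mem
        ⟨_, IntermediateField.subset_adjoin ℚ _ ⟨_, rfl⟩⟩
  · right
    push Not at hfa
    obtain ⟨h₀, hh₀, hh₀ne⟩ := hfa
    obtain ⟨K, hKdef⟩ : ∃ K : Subgroup S.T, K = kerS (sel 0) := ⟨_, rfl⟩
    haveI hKn : K.Normal := by rw [hKdef]; infer_instance
    have hKiff : ∀ h : S.T, h ∈ K ↔ (sel 0 : S.T → ℂ) h = (sel 0 : S.T → ℂ) 1 := by
      intro h
      rw [hKdef]
      exact Iff.rfl
    have hKmem : ∀ h : S.T, h ∈ K ↔ S.proj α (h : P) = (S.χ : P → ℂ) 1 / p := by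
      intro h
      rw [hKiff, F1 h, hψ1]
    -- no other constituent has `K` in its kernel
    have hB1 : ∀ i, 0 < i → i < p →
        ¬ (∀ k ∈ K, (sel i : S.T → ℂ) k = (sel i : S.T → ℂ) 1) := by
      intro i hi0 hip hcon
      have hcon' : ∀ k : S.T, k ∈ K →
          S.proj (α * S.om S.y₀ ^ i) (k : P) = (S.χ : P → ℂ) 1 / p := by
        intro k hk
        rw [← hsel i hip k, hcon k hk, hsel i hip 1]
        exact S.proj_one _
      have hclos : ∀ k : S.T, k ∈ K → S.cj (S.y₀ ^ i) k ∈ K := by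
        intro k hk
        rw [hKmem]
        show S.proj α (S.y₀ ^ i * (k : P) * (S.y₀ ^ i)⁻¹) = _
        rw [S.proj_conj_pow]
        exact hcon' k hk
      have hPn : ∀ n : ℕ, ∀ k : S.T, k ∈ K →
          S.proj (α * S.om S.y₀ ^ (n * i)) (k : P) = (S.χ : P → ℂ) 1 / p := by
        intro n
        induction n with
        | zero =>
          intro k hk
          rw [zero_mul, pow_zero, mul_one]
          exact (hKmem k).mp hk
        | succ n ih =>
          intro k hk
          have h1 := ih (S.cj (S.y₀ ^ i) k) (hclos k hk)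
          have e : ((S.cj (S.y₀ ^ i) k : S.T) : P) = S.y₀ ^ i * (k : P) * (S.y₀ ^ i)⁻¹ := rfl
          rw [e, S.proj_conj_pow, mul_assoc, ← pow_add] at h1
          rw [Nat.succ_mul]
          exact h1
      have hK1 : ∀ k : S.T, k ∈ K → k = 1 := by
        intro k hk
        apply Subtype.ext
        apply hker
        intro m hm
        haveI : NeZero p := ⟨hp0⟩
        have hcop : Nat.Coprime i p :=
          Nat.Coprime.symm ((Nat.Prime.coprime_iff_not_dvd hp).mpr
            (Nat.not_dvd_of_pos_of_lt hi0 hip))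
        have hprim_i : IsPrimitiveRoot (S.om S.y₀ ^ i) p := hprim.pow_of_coprime i hcop
        obtain ⟨n, -, hn⟩ := hprim_i.eq_pow_of_pow_eq_one (ξ := S.om S.y₀ ^ m)
          (by rw [← pow_mul, mul_comm, pow_mul, S.om_pow_p, one_pow])
        rw [← hn, ← pow_mul, mul_comm i n]
        exact hPn n k hk
      exact hh₀ne (hK1 h₀ ((hKiff h₀).mpr hh₀))
    -- the values of `ψ` lie in the field of values of `χ`
    have hB2 : ∀ h : S.T, (sel 0 : S.T → ℂ) h ∈ QF (S.χ : P → ℂ) := by
      intro h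
      have hsum : ∑ n ∈ Finset.univ.filter (fun n : S.T => n ∈ K),
          (S.χ : P → ℂ) ((n : P) * (h : P)) = (Nat.card K : ℂ) * (sel 0 : S.T → ℂ) h := by
        have e1 : ∀ n ∈ Finset.univ.filter (fun n : S.T => n ∈ K),
            (S.χ : P → ℂ) ((n : P) * (h : P)) =
            ∑ i ∈ Finset.range p, (sel i : S.T → ℂ) (n * h) := by
          intro n _
          rw [← S.sum_proj α]
          apply Finset.sum_congr rfl
          intro i hi
          rw [hsel i (Finset.mem_range.mp hi) (n * h)]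
          rfl
        rw [Finset.sum_congr rfl e1, Finset.sum_comm, Finset.sum_eq_single 0]
        · rw [helper20.sum_subgroup_irr_mul K (sel 0) h, if_pos (fun n hn => (hKiff n).mp hn)]
        · intro i hi hi0
          rw [helper20.sum_subgroup_irr_mul K (sel i) h,
            if_neg (hB1 i (Nat.pos_of_ne_zero hi0) (Finset.mem_range.mp hi))]
        · intro h
          exact absurd (Finset.mem_range.mpr hp.pos) h
      have hK0 : (Nat.card K : ℂ) ≠ 0 := Nat.cast_ne_zero.mpr Nat.card_pos.ne'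
      have hval : (sel 0 : S.T → ℂ) h = (Nat.card K : ℂ)⁻¹ *
          ∑ n ∈ Finset.univ.filter (fun n : S.T => n ∈ K),
            (S.χ : P → ℂ) ((n : P) * (h : P)) := by
        rw [hsum, ← mul_assoc, inv_mul_cancel₀ hK0, one_mul]
      rw [hval]
      exact mul_mem (inv_mem (natCast_mem _ _))
        (sum_mem fun n _ => IntermediateField.subset_adjoin ℚ _ ⟨_, rfl⟩)
    -- the index bound
    have hB3 : Nat.card S.T ≤ K.index ^ p := by
      let φ : Fin p → (S.T →* S.T) := fun m =>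
        (MulAut.conjNormal (S.y₀ ^ (m : ℕ)) : MulAut S.T).toMonoidHom
      have hbot : (⨅ m : Fin p, K.comap (φ m)) = ⊥ := by
        rw [eq_bot_iff]
        intro k hk
        rw [Subgroup.mem_iInf] at hk
        rw [Subgroup.mem_bot]
        apply Subtype.ext
        apply hker
        intro m hm
        have h1 := hk ⟨m, hm⟩
        rw [Subgroup.mem_comap, hKmem] at h1
        have e : ((φ ⟨m, hm⟩ k : S.T) : P) = S.y₀ ^ m * (k : P) * (S.y₀ ^ m)⁻¹ :=
          MulAut.conjNormal_apply _ _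
        rw [e, S.proj_conj_pow] at h1
        exact h1
      have h1 := Subgroup.index_iInf_le (fun m : Fin p => K.comap (φ m))
      rw [hbot, Subgroup.index_bot] at h1
      have h2 : ∀ m : Fin p, (K.comap (φ m)).index = K.index := by
        intro m
        exact Subgroup.index_comap_of_surjective K (MulEquiv.surjective _)
      rw [Finset.prod_congr rfl (fun m _ => h2 m), Finset.prod_const, Finset.card_univ,
        Fintype.card_fin] at h1
      exact h1
    exact ⟨K, hKn, hKiff, hB3, hB2⟩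

theorem base_case {P : Type u} [Group P] [Finite P] (p a : ℕ) (hp : p.Prime)
    (hPa : Nat.card P = p ^ a) (χ : IrrCharacter P)
    (hfaith : ∀ g : P, (χ : P → ℂ) g = (χ : P → ℂ) 1 → g = 1)
    (h1 : charDegree (χ : P → ℂ) = 1) (t : ℕ)
    [FiniteDimensional ℚ (QF (χ : P → ℂ))]
    (hrank : Module.finrank ℚ (QF (χ : P → ℂ)) ≤ (p - 1) * p ^ t) : a ≤ t + 1 := by
  rcases Nat.eq_zero_or_pos a with h0 | h0
  · omega
  obtain ⟨a', rfl⟩ : ∃ a', a = a' + 1 := ⟨a - 1, by omega⟩
  have hχ1 : (χ : P → ℂ) 1 = 1 := by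
    rw [irr_one_eq_charDegree χ, h1]
    simp
  obtain ⟨φ, hφ⟩ := helper82.exists_hom_of_linear (isCharacter_of_irr χ.2) hχ1
  have hinj : Function.Injective φ := by
    rw [injective_iff_map_eq_one]
    intro x hx
    apply hfaith
    rw [hφ x, hx, hχ1]
    rfl
  have hinj' : Function.Injective ((Units.coeHom ℂ).comp φ) := by
    intro x y hxy
    apply hinj
    exact Units.ext hxy
  haveI : IsCyclic P := isCyclic_of_injective_ringHom ((Units.coeHom ℂ).comp φ) hinj'
  obtain ⟨x, hx⟩ := IsCyclic.exists_generator (α := P)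
  have hord : orderOf x = p ^ (a' + 1) := by
    rw [orderOf_eq_card_of_forall_mem_zpowers hx, hPa]
  have hord2 : orderOf ((φ x : ℂˣ) : ℂ) = p ^ (a' + 1) := by
    rw [orderOf_units, orderOf_injective φ hinj x, hord]
  have hprim : IsPrimitiveRoot ((φ x : ℂˣ) : ℂ) (p ^ (a' + 1)) := by
    have h2 := IsPrimitiveRoot.orderOf ((φ x : ℂˣ) : ℂ)
    rwa [hord2] at h2
  have hmem : ((φ x : ℂˣ) : ℂ) ∈ QF (χ : P → ℂ) := by
    rw [← hφ x]
    exact IntermediateField.subset_adjoin ℚ _ ⟨x, rfl⟩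
  have htot := totient_le_finrank (QF (χ : P → ℂ)) _ _ (pow_pos hp.pos _) hprim hmem
  rw [Nat.totient_prime_pow_succ hp] at htot
  have h2 : p ^ a' * (p - 1) ≤ p ^ t * (p - 1) := by
    rw [mul_comm (p ^ t)]
    exact le_trans htot hrank
  have h3 : p ^ a' ≤ p ^ t :=
    Nat.le_of_mul_le_mul_right h2 (by have := hp.two_le; omega)
  have h4 := (Nat.pow_le_pow_iff_right hp.one_lt).mp h3
  omega

end Cfsg.Agent.Lib.helper83.PField
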