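import Mathlib
import Cfsg.Agent.Lib.helper75.PQDefs
import Cfsg.Agent.Lib.helper75.PQTower
import Cfsg.Agent.Lib.helper83.PQ_Aux

/-!
# S4306 piece C2: in case (a), `K` centralizes `S`
-/

set_option autoImplicit false
set_option linter.unusedVariables false
set_option linter.unusedSectionVars false
set_option linter.style.longLine false

namespace Cfsg.Agent.Lib.helper75.PQ

open Cfsg.Agent.Lib.helper83.PQ
open scoped commutatorElement

variable {Γ : Type*} [Group Γ] [Finite Γ] {F : Type*} [Field F]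
  {W : Type*} [AddCommGroup W] [Module F W]
  {ρ : Γ →* Module.End F W} {K H S R : Subgroup Γ} {p q s r : ℕ}

/-- C2 (MS2): in case (a), `K` centralizes `S`. -/
theorem MinTower.caseA_cz_h83 (T : MinTower ρ K H S R p q s r) (hA : CaseA K S R) : Cz K S := by
  have hK_S1 : K ≤ Subgroup.normalizer
      ((S ⊓ Subgroup.centralizer (K : Set Γ) : Subgroup Γ) : Set Γ) :=
    aux_le_normalizer_inf T.KS (aux_le_normalizer_centralizer Subgroup.le_normalizer)
  have hH_S1 : H ≤ Subgroup.normalizer
      ((S ⊓ Subgroup.centralizer (K : Set Γ) : Subgroup Γ) : Set Γ) :=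
    aux_le_normalizer_inf T.HS (aux_le_normalizer_centralizer T.HK)
  have hsup := Cfsg.Agent.Lib.helper1.commutator_sup_fixed K S T.KS
    (aux_coprime T.hp T.hs T.hsp T.cardK T.Sgrp)
    (Or.inl (aux_solvable_of_prime_card T.hp T.cardK))
  have hcomm : (⁅S, K⁆ : Subgroup Γ) ≤ Subgroup.centralizer (R : Set Γ) := by
    rw [Subgroup.commutator_le]
    intro y hy k hk
    rw [Subgroup.mem_centralizer_iff]
    intro x hx
    have h1 := hA k hk y hy x hx
    have e : ⁅y, k⁆ = (k * y * k⁻¹ * y⁻¹)⁻¹ := by rw [commutatorElement_def]; group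
    rw [e]
    have e2 : x * (k * y * k⁻¹ * y⁻¹)⁻¹ = (k * y * k⁻¹ * y⁻¹)⁻¹ * ((k * y * k⁻¹ * y⁻¹) * x) *
        (k * y * k⁻¹ * y⁻¹)⁻¹ := by group
    rw [e2, h1]; group
  by_cases hS1 : S ⊓ Subgroup.centralizer (K : Set Γ) = S
  · intro k hk y hy
    have hy' : y ∈ S ⊓ Subgroup.centralizer (K : Set Γ) := by rw [hS1]; exact hy
    exact (Subgroup.mem_centralizer_iff.mp hy'.2 k hk)
  · exfalso
    have hcz := T.minS _ inf_le_left hS1 hK_S1 hH_S1
    apply T.ncz
    have hle : S ≤ Subgroup.centralizer (R : Set Γ) := by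
      rw [← hsup]
      apply sup_le hcomm
      intro y hy
      rw [Subgroup.mem_centralizer_iff]
      intro x hx
      exact (hcz y hy x hx).symm
    intro y hy x hx
    exact ((Subgroup.mem_centralizer_iff.mp (hle hy)) x hx).symm

end Cfsg.Agent.Lib.helper75.PQ
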