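import Mathlib
import Cfsg.Agent.Lib.helper75.PQDefs
import Cfsg.Agent.Lib.helper75.PQTower
import Cfsg.Agent.Lib.helper83.PQ_Aux

/-!
# S4306 piece C3: in case (b), nontrivial elements of `K` act fixed-point-freely on `S / C_S(R)`
-/

set_option autoImplicit false
set_option linter.unusedVariables false
set_option linter.unusedSectionVars false
set_option linter.style.longLine false

namespace Cfsg.Agent.Lib.helper75.PQ

open Cfsg.Agent.Lib.helper83.PQ
open scoped commutatorElement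

variable {Γ : Type*} [Group Γ] [Finite Γ] {F : Type*} [Field F]
  {W : Type*} [AddCommGroup W] [Module F W]
  {ρ : Γ →* Module.End F W} {K H S R : Subgroup Γ} {p q s r : ℕ}

/-- C3 (MS3): in case (b), nontrivial elements of `K` act fixed-point-freely on
`S / C_S(R)`. -/
theorem MinTower.caseB_fpf_h83 (T : MinTower ρ K H S R p q s r) (hB : ¬ CaseA K S R) :
    ∀ k ∈ K, k ≠ 1 → ∀ y ∈ S, (∀ x ∈ R, ⁅k, y⁆ * x = x * ⁅k, y⁆) → ∀ x ∈ R, y * x = x * y := by
  obtain ⟨C, hC⟩ : ∃ C : Subgroup Γ, C = Subgroup.centralizer (R : Set Γ) := ⟨_, rfl⟩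
  have hCmem : ∀ c, c ∈ C ↔ ∀ x ∈ R, c * x = x * c := by
    intro c
    rw [hC, Subgroup.mem_centralizer_iff]
    constructor
    · intro h x hx; exact (h x hx).symm
    · intro h x hx; exact (h x hx).symm
  have hSC : S ≤ Subgroup.normalizer (C : Set Γ) := by
    rw [hC]; exact aux_le_normalizer_centralizer T.SR
  have hKC : K ≤ Subgroup.normalizer (C : Set Γ) := by
    rw [hC]; exact aux_le_normalizer_centralizer T.KR
  have hHC : H ≤ Subgroup.normalizer (C : Set Γ) := by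
    rw [hC]; exact aux_le_normalizer_centralizer T.HR
  obtain ⟨S1, hS1⟩ : ∃ S1 : Subgroup Γ, ∀ y, y ∈ S1 ↔ (y ∈ S ∧ ∀ k ∈ K, ⁅k, y⁆ ∈ C) := by
    refine ⟨{ carrier := {y | y ∈ S ∧ ∀ k ∈ K, ⁅k, y⁆ ∈ C}
              mul_mem' := ?_
              one_mem' := ?_
              inv_mem' := ?_ }, fun y => Iff.rfl⟩
    · rintro y y' ⟨hy, h⟩ ⟨hy', h'⟩
      refine ⟨S.mul_mem hy hy', fun k hk => ?_⟩
      have e : ⁅k, y * y'⁆ = ⁅k, y⁆ * (y * ⁅k, y'⁆ * y⁻¹) := by
        simp only [commutatorElement_def]; group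
      rw [e]
      exact C.mul_mem (h k hk) (aux_conj_mem (hSC hy) (h' k hk))
    · refine ⟨S.one_mem, fun k hk => ?_⟩
      rw [commutatorElement_one_right]
      exact C.one_mem
    · rintro y ⟨hy, h⟩
      refine ⟨S.inv_mem hy, fun k hk => ?_⟩
      have e : ⁅k, y⁻¹⁆ = y⁻¹ * ⁅k, y⁆⁻¹ * y := by
        simp only [commutatorElement_def]; group
      rw [e]
      exact aux_conj_mem' (hSC hy) (C.inv_mem (h k hk))
  -- invariance of `S1`
  have hinv : ∀ a : Γ, a ∈ Subgroup.normalizer (K : Set Γ) → a ∈ Subgroup.normalizer (S : Set Γ) →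
      a ∈ Subgroup.normalizer (C : Set Γ) → ∀ y ∈ S1, a * y * a⁻¹ ∈ S1 := by
    intro a haK haS haC y hy
    rw [hS1] at hy ⊢
    refine ⟨aux_conj_mem haS hy.1, fun k hk => ?_⟩
    have e : ⁅k, a * y * a⁻¹⁆ = a * ⁅a⁻¹ * k * a, y⁆ * a⁻¹ := by
      simp only [commutatorElement_def]; group
    rw [e]
    exact aux_conj_mem haC (hy.2 _ (aux_conj_mem' haK hk))
  have hinv' : ∀ A : Subgroup Γ, A ≤ Subgroup.normalizer (K : Set Γ) →
      A ≤ Subgroup.normalizer (S : Set Γ) → A ≤ Subgroup.normalizer (C : Set Γ) →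
      A ≤ Subgroup.normalizer (S1 : Set Γ) := by
    intro A hAK hAS hAC a ha
    rw [Subgroup.mem_normalizer_iff]
    intro y
    constructor
    · intro hy
      exact hinv a (hAK ha) (hAS ha) (hAC ha) y hy
    · intro hy
      have := hinv a⁻¹ (hAK (A.inv_mem ha)) (hAS (A.inv_mem ha)) (hAC (A.inv_mem ha)) _ hy
      have e : a⁻¹ * (a * y * a⁻¹) * a⁻¹⁻¹ = y := by group
      rwa [e] at this
  have hK1 : K ≤ Subgroup.normalizer (S1 : Set Γ) := hinv' K Subgroup.le_normalizer T.KS hKC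
  have hH1 : H ≤ Subgroup.normalizer (S1 : Set Γ) := hinv' H T.HK T.HS hHC
  have hS1le : S1 ≤ S := fun y hy => ((hS1 y).mp hy).1
  have hne : S1 ≠ S := by
    intro heq
    apply hB
    intro k hk y hy x hx
    have hy1 : y ∈ S1 := by rw [heq]; exact hy
    have := ((hS1 y).mp hy1).2 k hk
    rw [hCmem] at this
    exact this x hx
  have hcz : Cz S1 R := T.minS S1 hS1le hne hK1 hH1
  intro k hk hk1 y hy hky x hx
  -- the subgroup of `K` of elements with commutator in `C`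
  obtain ⟨K', hK'⟩ : ∃ K' : Subgroup Γ, ∀ a, a ∈ K' ↔ (a ∈ K ∧ ⁅a, y⁆ ∈ C) := by
    refine ⟨{ carrier := {a | a ∈ K ∧ ⁅a, y⁆ ∈ C}
              mul_mem' := ?_
              one_mem' := ?_
              inv_mem' := ?_ }, fun a => Iff.rfl⟩
    · rintro a b ⟨ha, h⟩ ⟨hb, h'⟩
      refine ⟨K.mul_mem ha hb, ?_⟩
      have e : ⁅a * b, y⁆ = a * ⁅b, y⁆ * a⁻¹ * ⁅a, y⁆ := by
        simp only [commutatorElement_def]; group
      rw [e]
      exact C.mul_mem (aux_conj_mem (hKC ha) h') h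
    · refine ⟨K.one_mem, ?_⟩
      rw [commutatorElement_one_left]
      exact C.one_mem
    · rintro a ⟨ha, h⟩
      refine ⟨K.inv_mem ha, ?_⟩
      have e : ⁅a⁻¹, y⁆ = a⁻¹ * ⁅a, y⁆⁻¹ * a := by
        simp only [commutatorElement_def]; group
      rw [e]
      exact aux_conj_mem' (hKC ha) (C.inv_mem h)
  have hkK' : k ∈ K' := by
    rw [hK']
    exact ⟨hk, (hCmem _).mpr hky⟩
  have hKK' : K ≤ K' :=
    aux_prime_le T.hp T.cardK (fun a ha => ((hK' a).mp ha).1) k hkK' hk1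
  have hyS1 : y ∈ S1 := by
    rw [hS1]
    exact ⟨hy, fun k' hk' => ((hK' k').mp (hKK' hk')).2⟩
  exact hcz y hyS1 x hx

end Cfsg.Agent.Lib.helper75.PQ
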