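import Mathlib
import Cfsg.Agent.Lib.helper75.SGModule

/-!
# Base change for FREE: linearization of `MulAut V` over the algebraic closure of the prime field,
with control of the fixed points.
-/

set_option autoImplicit false
set_option linter.unusedVariables false
set_option linter.unusedSectionVars false
set_option linter.style.longLine false

namespace Cfsg.Agent.Lib.helper83.PQ

open Cfsg.Agent.Lib.helper75

/-- the rank of a square matrix is invariant under a field extension -/
theorem bc_rank_map {K₀ K : Type*} [Field K₀] [Field K] (f : K₀ →+* K) {n : Type*} [Fintype n]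
    [DecidableEq n] (A : Matrix n n K₀) : (f.mapMatrix A).rank = A.rank := by
  classical
  obtain ⟨L, L', D, hA⟩ := Matrix.Pivot.exists_list_transvec_mul_diagonal_mul_list_transvec A
  obtain ⟨P, hP⟩ : ∃ P : Matrix n n K₀,
      P = (L.map Matrix.TransvectionStruct.toMatrix).prod := ⟨_, rfl⟩
  obtain ⟨Q, hQ⟩ : ∃ Q : Matrix n n K₀,
      Q = (L'.map Matrix.TransvectionStruct.toMatrix).prod := ⟨_, rfl⟩
  rw [← hP, ← hQ] at hA
  have hPd : P.det = 1 := by rw [hP]; exact Matrix.TransvectionStruct.det_toMatrix_prod L
  have hQd : Q.det = 1 := by rw [hQ]; exact Matrix.TransvectionStruct.det_toMatrix_prod L'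
  have hPd' : (f.mapMatrix P).det = 1 := by rw [← RingHom.map_det, hPd, map_one]
  have hQd' : (f.mapMatrix Q).det = 1 := by rw [← RingHom.map_det, hQd, map_one]
  have h1 : A.rank = (Matrix.diagonal D).rank := by
    rw [hA, Matrix.rank_mul_eq_left_of_isUnit_det Q _ (by rw [hQd]; exact isUnit_one),
      Matrix.rank_mul_eq_right_of_isUnit_det P _ (by rw [hPd]; exact isUnit_one)]
  have h2 : (f.mapMatrix A).rank = (Matrix.diagonal (fun i => f (D i))).rank := by
    have e : f.mapMatrix (Matrix.diagonal D) = Matrix.diagonal (fun i => f (D i)) := by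
      rw [RingHom.mapMatrix_apply]
      exact Matrix.diagonal_map (map_zero f)
    rw [hA, map_mul, map_mul,
      Matrix.rank_mul_eq_left_of_isUnit_det _ _ (by rw [hQd']; exact isUnit_one),
      Matrix.rank_mul_eq_right_of_isUnit_det _ _ (by rw [hPd']; exact isUnit_one), e]
  rw [h1, h2, Matrix.rank_diagonal, Matrix.rank_diagonal]
  apply Fintype.card_congr
  apply Equiv.subtypeEquivRight
  intro i
  rw [Ne, Ne, map_eq_zero]

/-- base change of endomorphisms, with control of the dimension of kernels -/
theorem bc_ker (F : Type*) [Field F] (V : Type*) [AddCommGroup V] [Module F V]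
    [FiniteDimensional F V] (K : Type*) [Field K] [Algebra F K] :
    ∃ Φ : Module.End F V →+* Module.End K (Fin (Module.finrank F V) → K),
      Function.Injective Φ ∧
      ∀ T : Module.End F V, Module.finrank K (LinearMap.ker (Φ T)) =
        Module.finrank F (LinearMap.ker T) := by
  classical
  obtain ⟨b, hb⟩ : ∃ b : Module.Basis (Fin (Module.finrank F V)) F V, b = Module.finBasis F V :=
    ⟨_, rfl⟩
  let e1 : Module.End F V →+* Matrix (Fin (Module.finrank F V)) (Fin (Module.finrank F V)) F :=
    (LinearMap.toMatrixAlgEquiv b).toRingEquiv.toRingHom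
  let e2 : Matrix (Fin (Module.finrank F V)) (Fin (Module.finrank F V)) F →+*
      Matrix (Fin (Module.finrank F V)) (Fin (Module.finrank F V)) K := (algebraMap F K).mapMatrix
  let e3 : Matrix (Fin (Module.finrank F V)) (Fin (Module.finrank F V)) K →+*
      Module.End K (Fin (Module.finrank F V) → K) :=
    (Matrix.toLinAlgEquiv' (R := K) (n := Fin (Module.finrank F V))).toRingEquiv.toRingHom
  refine ⟨(e3.comp e2).comp e1, ?_, ?_⟩
  · have h1 : Function.Injective e1 := (LinearMap.toMatrixAlgEquiv b).injective
    have h2 : Function.Injective e2 := Matrix.map_injective (algebraMap F K).injective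
    have h3 : Function.Injective e3 :=
      (Matrix.toLinAlgEquiv' (R := K) (n := Fin (Module.finrank F V))).injective
    exact (h3.comp h2).comp h1
  · intro T
    obtain ⟨M, hM⟩ : ∃ M : Matrix (Fin (Module.finrank F V)) (Fin (Module.finrank F V)) F,
        M = LinearMap.toMatrix b b T := ⟨_, rfl⟩
    have hΦ : ((e3.comp e2).comp e1) T = Matrix.toLin' ((algebraMap F K).mapMatrix M) := by
      rw [hM]; rfl
    have hr1 : M.rank = Module.finrank F (LinearMap.range T) := by
      rw [Matrix.rank_eq_finrank_range_toLin M b b, hM, Matrix.toLin_toMatrix]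
    have hr2 : ((algebraMap F K).mapMatrix M).rank =
        Module.finrank K (LinearMap.range (Matrix.toLin' ((algebraMap F K).mapMatrix M))) := by
      rw [Matrix.toLin'_apply']; rfl
    have hn1 := LinearMap.finrank_range_add_finrank_ker T
    have hn2 := LinearMap.finrank_range_add_finrank_ker
      (Matrix.toLin' ((algebraMap F K).mapMatrix M))
    rw [Module.finrank_fin_fun] at hn2
    rw [hΦ]
    rw [← hr2, bc_rank_map, hr1] at hn2
    omega

/-- Base change for FREE (module form). -/
theorem free_bc_mod {M : Type*} [CommGroup M] [Finite M]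
    (l : ℕ) [Fact l.Prime] [Module (ZMod l) (Additive M)] :
    ∃ (F : Type) (_ : Field F) (_ : IsAlgClosed F) (_ : CharP F l) (W : Type)
      (_ : AddCommGroup W) (_ : Module F W) (_ : FiniteDimensional F W)
      (ρ : MulAut M →* Module.End F W),
      Function.Injective ρ ∧
      Nat.card M = l ^ Module.finrank F W ∧
      (∀ g : MulAut M, Nat.card {v : M // g v = v} =
        l ^ Module.finrank F (LinearMap.ker (ρ g - 1))) ∧
      (∀ A : Subgroup (MulAut M), (Nat.card A).Coprime l →
        (∀ x : M, (∀ a ∈ A, a x = x) → x = 1) →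
        ∀ w : W, (∀ a ∈ A, ρ a w = w) → w = 0) := by
  classical
  have hl : l.Prime := Fact.out
  haveI : Finite (Additive M) := inferInstanceAs (Finite M)
  haveI : Module.Finite (ZMod l) (Additive M) := Module.Finite.of_finite
  obtain ⟨Φ, hΦ, hΦk⟩ := bc_ker (ZMod l) (Additive M) (AlgebraicClosure (ZMod l))
  haveI hchar : CharP (AlgebraicClosure (ZMod l)) l :=
    charP_of_injective_algebraMap (algebraMap (ZMod l) (AlgebraicClosure (ZMod l))).injective l
  obtain ⟨ρ, hρ⟩ : ∃ ρ : MulAut M →* Module.End (AlgebraicClosure (ZMod l))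
      (Fin (Module.finrank (ZMod l) (Additive M)) → AlgebraicClosure (ZMod l)),
      ∀ g, ρ g = Φ (sgLin l g) :=
    ⟨Φ.toMonoidHom.comp (sgLin l), fun g => rfl⟩
  refine ⟨AlgebraicClosure (ZMod l), inferInstance, inferInstance, hchar,
    Fin (Module.finrank (ZMod l) (Additive M)) → AlgebraicClosure (ZMod l), inferInstance,
    inferInstance, inferInstance, ρ, ?_, ?_, ?_, ?_⟩
  · intro g g' h
    rw [hρ, hρ] at h
    exact sgLin_injective l (hΦ h)
  · rw [Module.finrank_fin_fun]
    have h1 := Module.natCard_eq_pow_finrank (K := ZMod l) (V := Additive M)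
    rw [Nat.card_zmod] at h1
    exact h1
  · intro g
    have e1 : ρ g - 1 = Φ (sgLin l g - 1) := by rw [hρ, map_sub, map_one]
    rw [e1, hΦk]
    have h1 := Module.natCard_eq_pow_finrank (K := ZMod l)
      (V := LinearMap.ker (sgLin l g - 1))
    rw [Nat.card_zmod] at h1
    rw [← h1]
    apply Nat.card_congr
    exact
      { toFun := fun x => ⟨Additive.ofMul x.1, by
          rw [LinearMap.mem_ker, LinearMap.sub_apply, sgLin_apply, sub_eq_zero]
          exact congrArg Additive.ofMul x.2⟩
        invFun := fun y => ⟨Additive.toMul y.1, by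
          have h2 := y.2
          rw [LinearMap.mem_ker, LinearMap.sub_apply, sgLin_apply, sub_eq_zero] at h2
          exact congrArg Additive.toMul h2⟩
        left_inv := fun x => rfl
        right_inv := fun y => rfl }
  · intro A hcop hfix w hw
    letI : Fintype A := Fintype.ofFinite A
    have hT : ∑ a : A, sgLin l (a : MulAut M) = 0 := by
      refine LinearMap.ext fun u => ?_
      rw [LinearMap.zero_apply]
      have hinv : ∀ a' : A, sgLin l (a' : MulAut M) ((∑ a : A, sgLin l (a : MulAut M)) u)
          = (∑ a : A, sgLin l (a : MulAut M)) u := by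
        intro a'
        rw [LinearMap.sum_apply, map_sum]
        refine Fintype.sum_equiv (Equiv.mulLeft a') _ _ (fun a => ?_)
        rw [Equiv.coe_mulLeft, Subgroup.coe_mul, map_mul]
        rfl
      have h1 : Additive.toMul ((∑ a : A, sgLin l (a : MulAut M)) u) = 1 := by
        apply hfix
        intro a ha
        exact congrArg Additive.toMul (hinv ⟨a, ha⟩)
      exact congrArg Additive.ofMul h1
    have h3 : ∑ a : A, ρ (a : MulAut M) = 0 := by
      have h4 : ∑ a : A, ρ (a : MulAut M) = Φ (∑ a : A, sgLin l (a : MulAut M)) := by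
        rw [map_sum]
        exact Finset.sum_congr rfl (fun a _ => hρ a)
      rw [h4, hT, map_zero]
    have h5 : (Nat.card A : AlgebraicClosure (ZMod l)) • w = 0 := by
      have h6 : (∑ a : A, ρ (a : MulAut M)) w = 0 := by rw [h3, LinearMap.zero_apply]
      rw [LinearMap.sum_apply] at h6
      have h6' : ∑ a : A, ρ (a : MulAut M) w = ∑ _a : A, w :=
        Finset.sum_congr rfl (fun a _ => hw (a : MulAut M) a.2)
      rw [h6', Finset.sum_const, Finset.card_univ, ← Nat.card_eq_fintype_card] at h6
      rw [Nat.cast_smul_eq_nsmul]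
      exact h6
    have h7 : (Nat.card A : AlgebraicClosure (ZMod l)) ≠ 0 := by
      intro h
      have h8 := (CharP.cast_eq_zero_iff (AlgebraicClosure (ZMod l)) l (Nat.card A)).mp h
      have h9 : l ∣ Nat.gcd (Nat.card A) l := Nat.dvd_gcd h8 dvd_rfl
      rw [hcop] at h9
      exact hl.one_lt.ne' (Nat.dvd_one.mp h9)
    exact (smul_eq_zero.mp h5).resolve_left h7

/-- Base change for FREE: an elementary abelian `ℓ`-group `V` with its full automorphism group,
linearized over an algebraically closed field of characteristic `ℓ`, with control of the orders of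
the fixed-point subgroups. -/
theorem free_bc (V : Type*) [CommGroup V] [Finite V] (ℓ : ℕ) (hℓ : ℓ.Prime)
    (hV : ∀ v : V, v ^ ℓ = 1) :
    ∃ (F : Type) (_ : Field F) (_ : IsAlgClosed F) (_ : CharP F ℓ) (W : Type)
      (_ : AddCommGroup W) (_ : Module F W) (_ : FiniteDimensional F W)
      (ρ : MulAut V →* Module.End F W),
      Function.Injective ρ ∧
      Nat.card V = ℓ ^ Module.finrank F W ∧
      (∀ g : MulAut V, Nat.card {v : V // g v = v} =
        ℓ ^ Module.finrank F (LinearMap.ker (ρ g - 1))) ∧
      (∀ A : Subgroup (MulAut V), (Nat.card A).Coprime ℓ →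
        (∀ v : V, (∀ a ∈ A, a v = v) → v = 1) →
        ∀ w : W, (∀ a ∈ A, ρ a w = w) → w = 0) := by
  haveI : Fact ℓ.Prime := ⟨hℓ⟩
  have hexpA : ∀ a : Additive V, ℓ • a = 0 := by
    intro a
    apply Additive.toMul.injective
    rw [toMul_nsmul, hV]
    rfl
  letI : Module (ZMod ℓ) (Additive V) := AddCommGroup.zmodModule hexpA
  exact free_bc_mod ℓ

end Cfsg.Agent.Lib.helper83.PQ
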