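import Mathlib
import Cfsg.Agent.Lib.helper75.PQDefs

/-!
# S4306 piece FREE-INT (core): the internal form of FREE, with FREE as a hypothesis
-/

set_option autoImplicit false
set_option linter.unusedVariables false
set_option linter.unusedSectionVars false
set_option linter.style.longLine false

namespace Cfsg.Agent.Lib.helper75.PQ

open scoped commutatorElement

universe u

/-- the statement of FREE (`free_count`) at universe `u` -/
def FreeStmt : Prop :=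
  ∀ (V : Type u) [CommGroup V] [Finite V] (ℓ : ℕ) (hℓ : ℓ.Prime)
    (hV : ∀ v : V, v ^ ℓ = 1) (Y : Subgroup (MulAut V)) (h : MulAut V) (q : ℕ) (hq : q.Prime)
    (hhq : h ^ q = 1) (hYab : ∀ y ∈ Y, ∀ y' ∈ Y, y * y' = y' * y)
    (hcop : (Nat.card Y).Coprime ℓ) (hnorm : h ∈ Subgroup.normalizer (Y : Set (MulAut V)))
    (hfpf : ∀ y ∈ Y, h * y = y * h → y = 1) (hfix : ∀ v : V, (∀ y ∈ Y, y v = v) → v = 1),
    Nat.card V = Nat.card {v : V // h v = v} ^ q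

/-- FREE for a group with a commutativity hypothesis -/
theorem fi_free_grp (hfree : FreeStmt.{u}) (V : Type u) [Group V] [Finite V]
    (hc : ∀ a b : V, a * b = b * a) (ℓ : ℕ) (hℓ : ℓ.Prime)
    (hV : ∀ v : V, v ^ ℓ = 1) (Y : Subgroup (MulAut V)) (h : MulAut V) (q : ℕ) (hq : q.Prime)
    (hhq : h ^ q = 1) (hYab : ∀ y ∈ Y, ∀ y' ∈ Y, y * y' = y' * y)
    (hcop : (Nat.card Y).Coprime ℓ) (hnorm : h ∈ Subgroup.normalizer (Y : Set (MulAut V)))
    (hfpf : ∀ y ∈ Y, h * y = y * h → y = 1) (hfix : ∀ v : V, (∀ y ∈ Y, y v = v) → v = 1) :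
    Nat.card V = Nat.card {v : V // h v = v} ^ q := by
  letI : CommGroup V := { (inferInstance : Group V) with mul_comm := hc }
  exact hfree V ℓ hℓ hV Y h q hq hhq hYab hcop hnorm hfpf hfix

theorem fi_card_eq_mul_ker {G Q : Type*} [Group G] [Finite G] [Group Q] (f : G →* Q)
    (hf : Function.Surjective f) : Nat.card G = Nat.card Q * Nat.card f.ker := by
  have h1 := Subgroup.card_eq_card_quotient_mul_card_subgroup f.ker
  rw [h1, Nat.card_congr (QuotientGroup.quotientKerEquivOfSurjective f hf).toEquiv]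

theorem fi_card_comap {G Q : Type*} [Group G] [Finite G] [Group Q] (f : G →* Q)
    (hf : Function.Surjective f) (B : Subgroup Q) :
    Nat.card (B.comap f) = Nat.card B * Nat.card f.ker := by
  haveI : Finite Q := Finite.of_surjective f hf
  have h1 : (B.comap f).index = B.index := Subgroup.index_comap_of_surjective B hf
  have h2 := Subgroup.card_mul_index (B.comap f)
  have h3 := Subgroup.card_mul_index B
  have h4 := fi_card_eq_mul_ker f hf
  have h5 : B.index ≠ 0 := Subgroup.index_ne_zero_of_finite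
  rw [h1] at h2
  have h6 : Nat.card (B.comap f) * B.index = (Nat.card B * Nat.card f.ker) * B.index := by
    rw [h2, h4, ← h3]; ring
  exact Nat.eq_of_mul_eq_mul_right (Nat.pos_of_ne_zero h5) h6

/-- FREE-INT for normal subgroups of the ambient group. -/
theorem fi_normal_core (hfree : FreeStmt.{u}) {G : Type u} [Group G] [Finite G]
    (R N Y : Subgroup G) [hRn : R.Normal] [hNn : N.Normal] (hNR : N ≤ R)
    (ℓ : ℕ) (hℓ : ℓ.Prime)
    (hexp : ∀ u ∈ R, u ^ ℓ ∈ N) (hcomm : ∀ u ∈ R, ∀ v ∈ R, ⁅u, v⁆ ∈ N)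
    (h : G) (q : ℕ) (hq : q.Prime) (hhq : h ^ q = 1)
    (hhY : h ∈ Subgroup.normalizer (Y : Set G))
    (hYab : ∀ y ∈ Y, ∀ y' ∈ Y, ∀ u ∈ R, ⁅⁅y, y'⁆, u⁆ ∈ N)
    (hcop : (Nat.card Y).Coprime ℓ)
    (hfpf : ∀ y ∈ Y, (∀ u ∈ R, ⁅⁅h, y⁆, u⁆ ∈ N) → ∀ u ∈ R, ⁅y, u⁆ ∈ N)
    (hfix : ∀ u ∈ R, (∀ y ∈ Y, ⁅y, u⁆ ∈ N) → u ∈ N) :
    Nat.card R * Nat.card N ^ (q - 1) = Nat.card {u : G // u ∈ R ∧ ⁅h, u⁆ ∈ N} ^ q := by
  classical
  obtain ⟨π, hπ⟩ : ∃ π : G →* G ⧸ N, π = QuotientGroup.mk' N := ⟨_, rfl⟩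
  have hπs : Function.Surjective π := by rw [hπ]; exact QuotientGroup.mk'_surjective N
  have hπk : ∀ g : G, π g = 1 ↔ g ∈ N := by
    intro g; rw [hπ]; exact QuotientGroup.eq_one_iff g
  have hπeq : ∀ a b : G, π a = π b ↔ a * b⁻¹ ∈ N := by
    intro a b
    rw [← hπk, map_mul, map_inv, mul_inv_eq_one]
  haveI hRbar : (R.map π).Normal := Subgroup.Normal.map hRn π hπs
  have hVcomm : ∀ a b : ↥(R.map π), a * b = b * a := by
    rintro ⟨_, u, hu, rfl⟩ ⟨_, v, hv, rfl⟩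
    apply Subtype.ext
    show π u * π v = π v * π u
    rw [← map_mul, ← map_mul, hπeq]
    have e : u * v * (v * u)⁻¹ = ⁅u, v⁆ := by rw [commutatorElement_def]; group
    rw [e]; exact hcomm u hu v hv
  obtain ⟨φ, hφ⟩ : ∃ φ : G →* MulAut ↥(R.map π),
      φ = (MulAut.conjNormal (H := R.map π)).comp π := ⟨_, rfl⟩
  have hφapp : ∀ (g : G) (v : ↥(R.map π)),
      ((φ g v : ↥(R.map π)) : G ⧸ N) = π g * v * (π g)⁻¹ := by
    intro g v
    rw [hφ, MonoidHom.comp_apply, MulAut.conjNormal_apply]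
  have hF3 : ∀ (g : G) (u : G) (hu : u ∈ R),
      φ g ⟨π u, Subgroup.mem_map_of_mem π hu⟩ = ⟨π u, Subgroup.mem_map_of_mem π hu⟩ ↔
        ⁅g, u⁆ ∈ N := by
    intro g u hu
    rw [Subtype.ext_iff, hφapp]
    show π g * π u * (π g)⁻¹ = π u ↔ _
    rw [← map_inv, ← map_mul, ← map_mul, hπeq, commutatorElement_def]
  have hF2 : ∀ g : G, φ g = 1 ↔ ∀ u ∈ R, ⁅g, u⁆ ∈ N := by
    intro g
    constructor
    · intro h1 u hu
      rw [← hF3 g u hu, h1]; rfl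
    · intro h1
      apply MulEquiv.ext
      rintro ⟨_, u, hu, rfl⟩
      exact (hF3 g u hu).mpr (h1 u hu)
  have hV : ∀ v : ↥(R.map π), v ^ ℓ = 1 := by
    rintro ⟨_, u, hu, rfl⟩
    apply Subtype.ext
    show π u ^ ℓ = 1
    rw [← map_pow, hπk]; exact hexp u hu
  have hhq' : φ h ^ q = 1 := by rw [← map_pow, hhq, map_one]
  have hYab' : ∀ y ∈ Y.map φ, ∀ y' ∈ Y.map φ, y * y' = y' * y := by
    rintro _ ⟨a, ha, rfl⟩ _ ⟨b, hb, rfl⟩
    have e : a * b = ⁅a, b⁆ * (b * a) := by rw [commutatorElement_def]; group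
    rw [← map_mul, ← map_mul, e, map_mul, (hF2 _).mpr (hYab a ha b hb), one_mul]
  have hcop' : (Nat.card (Y.map φ)).Coprime ℓ :=
    Nat.Coprime.coprime_dvd_left (Subgroup.card_map_dvd Y φ) hcop
  have hnorm' : φ h ∈ Subgroup.normalizer ((Y.map φ : Subgroup (MulAut ↥(R.map π))) : Set _) := by
    rw [Subgroup.mem_normalizer_iff]
    intro g
    constructor
    · rintro ⟨a, ha, rfl⟩
      exact ⟨h * a * h⁻¹, (Subgroup.mem_normalizer_iff.mp hhY a).mp ha, by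
        rw [map_mul, map_mul, map_inv]⟩
    · rintro ⟨b, hb, hbe⟩
      refine ⟨h⁻¹ * b * h, (Subgroup.mem_normalizer_iff''.mp hhY b).mp hb, ?_⟩
      rw [map_mul, map_mul, hbe, map_inv]; group
  have hfpf' : ∀ y ∈ Y.map φ, φ h * y = y * φ h → y = 1 := by
    rintro _ ⟨a, ha, rfl⟩ hc
    rw [hF2]
    apply hfpf a ha
    rw [← hF2]
    rw [commutatorElement_def, map_mul, map_mul, map_mul, map_inv, map_inv, hc]; group
  have hfix' : ∀ v : ↥(R.map π), (∀ y ∈ Y.map φ, y v = v) → v = 1 := by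
    rintro ⟨_, u, hu, rfl⟩ hv
    have h1 : u ∈ N := hfix u hu (fun a ha => (hF3 a u hu).mp (hv (φ a) ⟨a, ha, rfl⟩))
    apply Subtype.ext
    exact (hπk u).mpr h1
  have hmain := fi_free_grp hfree ↥(R.map π) hVcomm ℓ hℓ hV (Y.map φ) (φ h) q hq hhq' hYab'
    hcop' hnorm' hfpf' hfix'
  -- counting
  obtain ⟨f, hf⟩ : ∃ f : ↥R →* ↥(R.map π), f = π.subgroupMap R := ⟨_, rfl⟩
  have hfs : Function.Surjective f := by rw [hf]; exact MonoidHom.subgroupMap_surjective π R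
  have hfapp : ∀ (u : G) (hu : u ∈ R), f ⟨u, hu⟩ = ⟨π u, Subgroup.mem_map_of_mem π hu⟩ := by
    intro u hu; rw [hf]; rfl
  have hker : Nat.card f.ker = Nat.card N := by
    have e : f.ker = N.subgroupOf R := by
      ext ⟨u, hu⟩
      rw [MonoidHom.mem_ker, hfapp, Subgroup.mem_subgroupOf, Subtype.ext_iff]
      exact hπk u
    rw [e]
    exact Nat.card_congr (Subgroup.subgroupOfEquivOfLe hNR).toEquiv
  have c1 : Nat.card R = Nat.card ↥(R.map π) * Nat.card N := by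
    rw [← hker]; exact fi_card_eq_mul_ker f hfs
  obtain ⟨Fix, hFix⟩ : ∃ Fix : Subgroup ↥(R.map π), ∀ v, v ∈ Fix ↔ φ h v = v := by
    refine ⟨{ carrier := {v | φ h v = v}
              mul_mem' := ?_
              one_mem' := ?_
              inv_mem' := ?_ }, fun v => Iff.rfl⟩
    · intro a b ha hb
      show φ h (a * b) = a * b
      rw [map_mul, ha, hb]
    · show φ h 1 = 1
      rw [map_one]
    · intro a ha
      show φ h a⁻¹ = a⁻¹
      rw [map_inv, ha]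
  have c2 := fi_card_comap f hfs Fix
  rw [hker] at c2
  have c3 : Nat.card Fix = Nat.card {v : ↥(R.map π) // φ h v = v} :=
    Nat.card_congr (Equiv.subtypeEquivRight hFix)
  have hmem : ∀ (u : G) (hu : u ∈ R), (⟨u, hu⟩ : ↥R) ∈ Fix.comap f ↔ ⁅h, u⁆ ∈ N := by
    intro u hu
    rw [Subgroup.mem_comap, hFix, hfapp]
    exact hF3 h u hu
  have c4 : Nat.card (Fix.comap f) = Nat.card {u : G // u ∈ R ∧ ⁅h, u⁆ ∈ N} := by
    apply Nat.card_congr
    exact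
      { toFun := fun x => ⟨x.1.1, x.1.2, (hmem x.1.1 x.1.2).mp x.2⟩
        invFun := fun y => ⟨⟨y.1, y.2.1⟩, (hmem y.1 y.2.1).mpr y.2.2⟩
        left_inv := fun x => rfl
        right_inv := fun y => rfl }
  rw [← c4, c2, c1, hmain, c3]
  obtain ⟨q', rfl⟩ : ∃ q', q = q' + 1 := ⟨q - 1, (Nat.succ_pred_eq_of_pos hq.pos).symm⟩
  rw [Nat.add_sub_cancel, mul_pow, pow_succ (Nat.card N) q']
  ring

/-- FREE-INT with FREE as a hypothesis. -/
theorem free_count_int_core (hfree : FreeStmt.{u}) {Γ : Type u} [Group Γ] [Finite Γ]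
    (R₁ N₁ Y : Subgroup Γ) (hNR : N₁ ≤ R₁) (ℓ : ℕ) (hℓ : ℓ.Prime)
    (hexp : ∀ u ∈ R₁, u ^ ℓ ∈ N₁) (hcomm : ∀ u ∈ R₁, ∀ v ∈ R₁, ⁅u, v⁆ ∈ N₁)
    (h : Γ) (q : ℕ) (hq : q.Prime) (hhq : h ^ q = 1)
    (hYR : Y ≤ Subgroup.normalizer (R₁ : Set Γ)) (hYN : Y ≤ Subgroup.normalizer (N₁ : Set Γ))
    (hhR : h ∈ Subgroup.normalizer (R₁ : Set Γ)) (hhN : h ∈ Subgroup.normalizer (N₁ : Set Γ))
    (hhY : h ∈ Subgroup.normalizer (Y : Set Γ))
    (hYab : ∀ y ∈ Y, ∀ y' ∈ Y, ∀ u ∈ R₁, ⁅⁅y, y'⁆, u⁆ ∈ N₁)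
    (hcop : (Nat.card Y).Coprime ℓ)
    (hfpf : ∀ y ∈ Y, (∀ u ∈ R₁, ⁅⁅h, y⁆, u⁆ ∈ N₁) → ∀ u ∈ R₁, ⁅y, u⁆ ∈ N₁)
    (hfix : ∀ u ∈ R₁, (∀ y ∈ Y, ⁅y, u⁆ ∈ N₁) → u ∈ N₁) :
    Nat.card R₁ * Nat.card N₁ ^ (q - 1) =
      Nat.card {u : Γ // u ∈ R₁ ∧ ⁅h, u⁆ ∈ N₁} ^ q := by
  obtain ⟨A, hA⟩ : ∃ A : Subgroup Γ,
      A = Subgroup.normalizer (R₁ : Set Γ) ⊓ Subgroup.normalizer (N₁ : Set Γ) := ⟨_, rfl⟩
  have hRA : R₁ ≤ A := by
    rw [hA]
    refine le_inf Subgroup.le_normalizer ?_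
    intro u hu
    rw [Subgroup.mem_normalizer_iff]
    intro n
    constructor
    · intro hn
      have e : u * n * u⁻¹ = ⁅u, n⁆ * n := by rw [commutatorElement_def]; group
      rw [e]; exact N₁.mul_mem (hcomm u hu n (hNR hn)) hn
    · intro hn
      have e : n = ⁅u⁻¹, u * n * u⁻¹⁆ * (u * n * u⁻¹) := by rw [commutatorElement_def]; group
      rw [e]; exact N₁.mul_mem (hcomm _ (R₁.inv_mem hu) _ (hNR hn)) hn
  have hNA : N₁ ≤ A := hNR.trans hRA
  have hYA : Y ≤ A := by rw [hA]; exact le_inf hYR hYN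
  have hhA : h ∈ A := by rw [hA]; exact ⟨hhR, hhN⟩
  haveI n1 : (R₁.subgroupOf A).Normal := by
    rw [Subgroup.normal_subgroupOf_iff_le_normalizer hRA, hA]; exact inf_le_left
  haveI n2 : (N₁.subgroupOf A).Normal := by
    rw [Subgroup.normal_subgroupOf_iff_le_normalizer hNA, hA]; exact inf_le_right
  have hco : ∀ a b : ↥A, ((⁅a, b⁆ : ↥A) : Γ) = ⁅(a : Γ), (b : Γ)⁆ := by
    intro a b
    simp [commutatorElement_def]
  have key := fi_normal_core hfree (R₁.subgroupOf A) (N₁.subgroupOf A) (Y.subgroupOf A)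
    (by
      intro u hu
      rw [Subgroup.mem_subgroupOf] at hu ⊢
      exact hNR hu) ℓ hℓ
    (by
      intro u hu
      rw [Subgroup.mem_subgroupOf] at hu ⊢
      rw [Subgroup.coe_pow]
      exact hexp _ hu)
    (by
      intro u hu v hv
      rw [Subgroup.mem_subgroupOf] at hu hv ⊢
      rw [hco]
      exact hcomm _ hu _ hv)
    ⟨h, hhA⟩ q hq
    (by
      apply Subtype.ext
      rw [Subgroup.coe_pow, Subgroup.coe_one]
      exact hhq)
    (by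
      rw [Subgroup.mem_normalizer_iff]
      intro g
      rw [Subgroup.mem_subgroupOf, Subgroup.mem_subgroupOf]
      have := Subgroup.mem_normalizer_iff.mp hhY (g : Γ)
      simpa using this)
    (by
      intro y hy y' hy' u hu
      rw [Subgroup.mem_subgroupOf] at hy hy' hu ⊢
      rw [hco, hco]
      exact hYab _ hy _ hy' _ hu)
    (by
      have e : Nat.card (Y.subgroupOf A) = Nat.card Y :=
        Nat.card_congr (Subgroup.subgroupOfEquivOfLe hYA).toEquiv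
      rw [e]; exact hcop)
    (by
      intro y hy hyp u hu
      rw [Subgroup.mem_subgroupOf] at hy hu ⊢
      rw [hco]
      refine hfpf _ hy ?_ _ hu
      intro u' hu'
      have := hyp ⟨u', hRA hu'⟩ (by rw [Subgroup.mem_subgroupOf]; exact hu')
      rw [Subgroup.mem_subgroupOf, hco, hco] at this
      exact this)
    (by
      intro u hu hyp
      rw [Subgroup.mem_subgroupOf] at hu ⊢
      refine hfix _ hu ?_
      intro y hy
      have := hyp ⟨y, hYA hy⟩ (by rw [Subgroup.mem_subgroupOf]; exact hy)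
      rw [Subgroup.mem_subgroupOf, hco] at this
      exact this)
  have e1 : Nat.card (R₁.subgroupOf A) = Nat.card R₁ :=
    Nat.card_congr (Subgroup.subgroupOfEquivOfLe hRA).toEquiv
  have e2 : Nat.card (N₁.subgroupOf A) = Nat.card N₁ :=
    Nat.card_congr (Subgroup.subgroupOfEquivOfLe hNA).toEquiv
  have hmem : ∀ x : ↥A, (x ∈ R₁.subgroupOf A ∧ ⁅(⟨h, hhA⟩ : ↥A), x⁆ ∈ N₁.subgroupOf A) ↔
      ((x : Γ) ∈ R₁ ∧ ⁅h, (x : Γ)⁆ ∈ N₁) := by
    intro x
    rw [Subgroup.mem_subgroupOf, Subgroup.mem_subgroupOf, hco]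
  have e3 : Nat.card {u : ↥A // u ∈ R₁.subgroupOf A ∧ ⁅(⟨h, hhA⟩ : ↥A), u⁆ ∈ N₁.subgroupOf A} =
      Nat.card {u : Γ // u ∈ R₁ ∧ ⁅h, u⁆ ∈ N₁} := by
    apply Nat.card_congr
    exact
      { toFun := fun x => ⟨(x.1 : Γ), (hmem x.1).mp x.2⟩
        invFun := fun y => ⟨⟨y.1, hRA y.2.1⟩, (hmem ⟨y.1, hRA y.2.1⟩).mpr y.2⟩
        left_inv := fun x => rfl
        right_inv := fun y => rfl }
  rw [e1, e2, e3] at key
  exact key

end Cfsg.Agent.Lib.helper75.PQ
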