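import Mathlib
import Cfsg.Agent.Lib.helper75.PQDefs
import Cfsg.Agent.Lib.helper83.PQ_FREEINT
import Cfsg.Agent.Lib.helper25.PQ_FREE

/-!
# S4306 piece FREE-INT: the internal form of FREE
-/

set_option autoImplicit false
set_option linter.unusedVariables false
set_option linter.unusedSectionVars false
set_option linter.style.longLine false

namespace Cfsg.Agent.Lib.helper75.PQ

open scoped commutatorElement

variable {Γ : Type*} [Group Γ] [Finite Γ]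

/-- FREE-INT: the internal form of FREE, for a section `R₁ / N₁` of the ambient group
(elementary abelian of exponent `ℓ`), acted on by `Y` (abelian image, order prime to `ℓ`) and
by `h` of prime order `q` normalizing `Y` and fixed-point-free on the image of `Y`, with
`C_{R₁/N₁}(Y) = 1`:  `|R₁ / N₁| = |C_{R₁/N₁}(h)| ^ q`. -/
theorem free_count_int (R₁ N₁ Y : Subgroup Γ) (hNR : N₁ ≤ R₁) (ℓ : ℕ) (hℓ : ℓ.Prime)
    (hexp : ∀ u ∈ R₁, u ^ ℓ ∈ N₁) (hcomm : ∀ u ∈ R₁, ∀ v ∈ R₁, ⁅u, v⁆ ∈ N₁)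
    (h : Γ) (q : ℕ) (hq : q.Prime) (hhq : h ^ q = 1)
    (hYR : Y ≤ Subgroup.normalizer (R₁ : Set Γ)) (hYN : Y ≤ Subgroup.normalizer (N₁ : Set Γ))
    (hhR : h ∈ Subgroup.normalizer (R₁ : Set Γ)) (hhN : h ∈ Subgroup.normalizer (N₁ : Set Γ))
    (hhY : h ∈ Subgroup.normalizer (Y : Set Γ))
    (hYab : ∀ y ∈ Y, ∀ y' ∈ Y, ∀ u ∈ R₁, ⁅⁅y, y'⁆, u⁆ ∈ N₁)
    (hcop : (Nat.card Y).Coprime ℓ)
    (hfpf : ∀ y ∈ Y, (∀ u ∈ R₁, ⁅⁅h, y⁆, u⁆ ∈ N₁) → ∀ u ∈ R₁, ⁅y, u⁆ ∈ N₁)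
    (hfix : ∀ u ∈ R₁, (∀ y ∈ Y, ⁅y, u⁆ ∈ N₁) → u ∈ N₁) :
    Nat.card R₁ * Nat.card N₁ ^ (q - 1) =
      Nat.card {u : Γ // u ∈ R₁ ∧ ⁅h, u⁆ ∈ N₁} ^ q :=
  free_count_int_core
    (fun V _ _ ℓ hℓ hV Y h q hq hhq hYab hcop hnorm hfpf hfix =>
      free_count V ℓ hℓ hV Y h q hq hhq hYab hcop hnorm hfpf hfix)
    R₁ N₁ Y hNR ℓ hℓ hexp hcomm h q hq hhq hYR hYN hhR hhN hhY hYab hcop hfpf hfix

end Cfsg.Agent.Lib.helper75.PQ
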