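import Mathlib
import Cfsg.Agent.Lib.helper45.RUDefs

set_option autoImplicit false
set_option linter.unusedVariables false
set_option linter.unusedSimpArgs false
set_option linter.style.longLine false

namespace Cfsg.Agent.Lib.helper45.RU

open Matrix Cfsg.Agent.Lib.helper44

variable {n : ℕ} {F : Type*} [Field F] {S : Set (Matrix (Fin n) (Fin n) F)}

/-- The partial products `1 + Σ_{i < m} E_{i+1,i}`. -/
def h83_part (F : Type*) [Field F] (n m : ℕ) : Matrix (Fin n) (Fin n) F :=
  fun a b => if a = b then 1 else if a.val = b.val + 1 ∧ b.val < m then 1 else 0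

theorem h83_part_apply (m : ℕ) (a b : Fin n) :
    h83_part F n m a b = if a = b then 1 else if a.val = b.val + 1 ∧ b.val < m then 1 else 0 := rfl

theorem h83_part_zero : h83_part F n 0 = 1 := by
  ext a b
  rw [h83_part_apply, Matrix.one_apply]
  by_cases h : a = b
  · rw [if_pos h, if_pos h]
  · rw [if_neg h, if_neg h, if_neg (by omega)]

theorem h83_part_succ (m : ℕ) (hm : m + 1 < n) :
    h83_part F n (m + 1) =
      h83_part F n m * (1 + Matrix.single (⟨m + 1, hm⟩ : Fin n) (⟨m, by omega⟩ : Fin n) (1 : F)) := by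
  ext a b
  rw [Matrix.mul_add, Matrix.mul_one, Matrix.add_apply]
  by_cases hb : b = (⟨m, by omega⟩ : Fin n)
  · subst hb
    rw [Matrix.mul_single_apply_same, mul_one, h83_part_apply, h83_part_apply, h83_part_apply]
    by_cases h1 : a = (⟨m, by omega⟩ : Fin n)
    · subst h1
      have hne : (⟨m, by omega⟩ : Fin n) ≠ (⟨m + 1, hm⟩ : Fin n) := by
        intro e
        have := congrArg Fin.val e
        simp at this
      have hc : ¬ ((⟨m, by omega⟩ : Fin n).val = (⟨m + 1, hm⟩ : Fin n).val + 1 ∧
          (⟨m + 1, hm⟩ : Fin n).val < m) := by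
        intro e
        have := e.2
        simp at this
      rw [if_pos rfl, if_pos rfl, if_neg hne, if_neg hc, add_zero]
    · rw [if_neg h1, if_neg h1]
      have hav : a.val ≠ m := fun e => h1 (Fin.ext e)
      by_cases h2 : a = (⟨m + 1, hm⟩ : Fin n)
      · subst h2
        have hc1 : (⟨m + 1, hm⟩ : Fin n).val = (⟨m, by omega⟩ : Fin n).val + 1 ∧
            (⟨m, by omega⟩ : Fin n).val < m + 1 := ⟨rfl, Nat.lt_succ_self m⟩
        have hc2 : ¬ ((⟨m + 1, hm⟩ : Fin n).val = (⟨m, by omega⟩ : Fin n).val + 1 ∧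
            (⟨m, by omega⟩ : Fin n).val < m) := fun e => Nat.lt_irrefl m e.2
        rw [if_pos rfl, if_pos hc1, if_neg hc2, zero_add]
      · rw [if_neg h2]
        have h3 : ¬ (a.val = m + 1) := fun e => h2 (Fin.ext e)
        have hc1 : ¬ (a.val = (⟨m, by omega⟩ : Fin n).val + 1 ∧
            (⟨m, by omega⟩ : Fin n).val < m + 1) := fun e => h3 e.1
        have hc2 : ¬ (a.val = (⟨m, by omega⟩ : Fin n).val + 1 ∧
            (⟨m, by omega⟩ : Fin n).val < m) := fun e => h3 e.1
        have hc3 : ¬ (a.val = (⟨m + 1, hm⟩ : Fin n).val + 1 ∧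
            (⟨m + 1, hm⟩ : Fin n).val < m) := by
          intro e
          have := e.2
          simp at this
        rw [if_neg hc1, if_neg hc2, if_neg hc3, add_zero]
  · rw [Matrix.mul_single_apply_of_ne (hbj := hb), add_zero, h83_part_apply, h83_part_apply]
    have hbm : b.val ≠ m := fun e => hb (Fin.ext e)
    by_cases h1 : a = b
    · rw [if_pos h1, if_pos h1]
    · rw [if_neg h1, if_neg h1]
      by_cases h2 : a.val = b.val + 1 ∧ b.val < m
      · rw [if_pos h2, if_pos ⟨h2.1, by omega⟩]
      · rw [if_neg h2, if_neg (by omega)]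

theorem h83_part_top (hn : 1 ≤ n) : h83_part F n (n - 1) = (jm F n)ᵀ := by
  ext a b
  rw [Matrix.transpose_apply, h83_part_apply]
  unfold jm
  rw [Matrix.add_apply, Matrix.one_apply, shiftMat_apply]
  by_cases h : a = b
  · subst h
    rw [if_pos rfl, if_pos rfl, if_neg (by omega), add_zero]
  · rw [if_neg h, if_neg (Ne.symm h), zero_add]
    by_cases h2 : a.val = b.val + 1
    · rw [if_pos ⟨h2, by have := a.isLt; omega⟩, if_pos h2]
    · rw [if_neg (fun e => h2 e.1), if_neg h2]

/-- M -/
theorem h83_jmT_mem (hn : 2 ≤ n) (hS : MatGrp S)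
    (h : ∀ j k : Fin n, j < k → 1 + Matrix.single k j (1 : F) ∈ S) : (jm F n)ᵀ ∈ S := by
  have h01 : (1 : Matrix (Fin n) (Fin n) F) + Matrix.single (⟨1, by omega⟩ : Fin n)
      (⟨0, by omega⟩ : Fin n) (1 : F) ∈ S := h _ _ (by simp [Fin.lt_def])
  have key : ∀ m : ℕ, m + 1 ≤ n → h83_part F n m ∈ S := by
    intro m
    induction m with
    | zero =>
      intro _
      rw [h83_part_zero]
      exact MatGrp_one_mem hS h01
    | succ m ih =>
      intro hm
      rw [h83_part_succ m (by omega)]
      exact hS.mul (ih (by omega)) (h _ _ (by simp [Fin.lt_def]))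
  rw [← h83_part_top (by omega)]
  exact key (n - 1) (by omega)

end Cfsg.Agent.Lib.helper45.RU
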