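import Mathlib
import Cfsg.Prelude.Def_Characters
import Cfsg.Agent.Lib.helper4.Induction
import Cfsg.Agent.Lib.helper78.RealRep

/-!
# Induced real matrix representations and Frobenius–Schur indicators

If a subgroup `H` has a real matrix representation `S`, we build explicitly the induced real
matrix representation of `G` (monomial matrices over a transversal) and compute its trace as
`indFun H (trace ∘ S)`.  Consequence: an irreducible character induced from an irreducible
character with Frobenius–Schur indicator `1` has indicator `1`.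
-/

set_option autoImplicit false

namespace Cfsg.Agent.Lib.helper83

open scoped ComplexConjugate Matrix
open Cfsg

universe u

section RealInd

variable {G : Type u} [Group G] (H : Subgroup G)

/-- The cocycle of a transversal: `out (g • q) * coc g q = g * out q`. -/
noncomputable def coc (g : G) (q : G ⧸ H) : H :=
  ⟨(Quotient.out (g • q))⁻¹ * (g * Quotient.out q), by
    have h1 : ((Quotient.out (g • q) : G) : G ⧸ H) = g • q := QuotientGroup.out_eq' _
    have h2 : ((g * Quotient.out q : G) : G ⧸ H) = g • q := by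
      conv_rhs => rw [← QuotientGroup.out_eq' q]
      rfl
    exact QuotientGroup.eq.mp (h1.trans h2.symm)⟩

theorem coc_coe (g : G) (q : G ⧸ H) :
    (coc H g q : G) = (Quotient.out (g • q))⁻¹ * (g * Quotient.out q) := rfl

theorem coc_one (q : G ⧸ H) : coc H 1 q = 1 := by
  apply Subtype.ext
  rw [coc_coe, one_smul, one_mul, inv_mul_cancel]
  rfl

theorem coc_mul (g₁ g₂ : G) (q : G ⧸ H) :
    coc H (g₁ * g₂) q = coc H g₁ (g₂ • q) * coc H g₂ q := by
  apply Subtype.ext
  rw [Subgroup.coe_mul, coc_coe, coc_coe, coc_coe, mul_smul]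
  group

theorem coc_coe_of_fixed {g : G} {q : G ⧸ H} (hq : g • q = q) :
    (coc H g q : G) = (Quotient.out q)⁻¹ * (g * Quotient.out q) := by
  rw [coc_coe, hq]

theorem smul_eq_iff_mem (g : G) (q : G ⧸ H) :
    g • q = q ↔ (Quotient.out q)⁻¹ * g * Quotient.out q ∈ H := by
  have h2 : ((g * Quotient.out q : G) : G ⧸ H) = g • q := by
    conv_rhs => rw [← QuotientGroup.out_eq' q]
    rfl
  rw [← h2, mul_assoc, ← QuotientGroup.eq, QuotientGroup.out_eq']
  exact eq_comm

variable {n : ℕ} (S : H → Matrix (Fin n) (Fin n) ℝ)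

/-- The induced (monomial) matrices. -/
noncomputable def indMat [DecidableEq (G ⧸ H)] (g : G) :
    Matrix ((G ⧸ H) × Fin n) ((G ⧸ H) × Fin n) ℝ :=
  fun a b => if a.1 = g • b.1 then S (coc H g b.1) a.2 b.2 else 0

theorem indMat_apply [DecidableEq (G ⧸ H)] (g : G) (a b : (G ⧸ H) × Fin n) :
    indMat H S g a b = if a.1 = g • b.1 then S (coc H g b.1) a.2 b.2 else 0 := rfl

theorem indMat_one [DecidableEq (G ⧸ H)] (hS1 : S 1 = 1) : indMat H S 1 = 1 := by
  ext a b
  rw [indMat_apply, one_smul, coc_one, hS1, Matrix.one_apply, Matrix.one_apply]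
  by_cases h1 : a.1 = b.1
  · rw [if_pos h1]
    by_cases h2 : a.2 = b.2
    · rw [if_pos h2, if_pos (Prod.ext h1 h2)]
    · rw [if_neg h2, if_neg (fun h => h2 (congrArg Prod.snd h))]
  · rw [if_neg h1, if_neg (fun h => h1 (congrArg Prod.fst h))]

theorem indMat_mul [DecidableEq (G ⧸ H)] [Fintype (G ⧸ H)]
    (hSmul : ∀ a b, S (a * b) = S a * S b) (g₁ g₂ : G) :
    indMat H S (g₁ * g₂) = indMat H S g₁ * indMat H S g₂ := by
  ext a b
  rw [Matrix.mul_apply, Fintype.sum_prod_type]
  simp only [indMat_apply]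
  rw [Finset.sum_eq_single (g₂ • b.1)]
  · rw [mul_smul, coc_mul, hSmul, Matrix.mul_apply]
    by_cases h1 : a.1 = g₁ • g₂ • b.1
    · rw [if_pos h1]
      refine Finset.sum_congr rfl (fun j _ => ?_)
      rw [if_pos h1, if_pos rfl]
    · rw [if_neg h1]
      symm
      refine Finset.sum_eq_zero (fun j _ => ?_)
      rw [if_neg h1, zero_mul]
  · intro q _ hq
    refine Finset.sum_eq_zero (fun j _ => ?_)
    rw [if_neg hq, mul_zero]
  · intro h
    exact absurd (Finset.mem_univ _) h

theorem trace_indMat [DecidableEq (G ⧸ H)] [Fintype (G ⧸ H)] (g : G) :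
    (indMat H S g).trace = ∑ q : G ⧸ H, if q = g • q then (S (coc H g q)).trace else 0 := by
  rw [Matrix.trace, Fintype.sum_prod_type]
  refine Finset.sum_congr rfl (fun q _ => ?_)
  simp only [Matrix.diag_apply, indMat_apply]
  by_cases h : q = g • q
  · simp only [if_pos h]
    rfl
  · simp only [if_neg h]
    exact Finset.sum_const_zero

/-- Summation over the group, fibred over the cosets of `H` via a transversal. -/
theorem sum_eq_sum_quot_sum [Fintype G] [Fintype (G ⧸ H)] [Fintype H] (F : G → ℂ) :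
    ∑ x : G, F x = ∑ q : G ⧸ H, ∑ h : H, F (Quotient.out q * (h : G)) := by
  rw [← Fintype.sum_prod_type' (f := fun (q : G ⧸ H) (h : H) => F (Quotient.out q * (h : G)))]
  symm
  refine Fintype.sum_bijective (fun p : (G ⧸ H) × H => Quotient.out p.1 * (p.2 : G)) ?_ _ _
    (fun p => rfl)
  constructor
  · rintro ⟨q, h⟩ ⟨q', h'⟩ hqq
    simp only at hqq
    have h1 : ((Quotient.out q * (h : G) : G) : G ⧸ H) = q := by
      rw [QuotientGroup.mk_mul_of_mem _ h.2, QuotientGroup.out_eq']
    have h2 : ((Quotient.out q' * (h' : G) : G) : G ⧸ H) = q' := by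
      rw [QuotientGroup.mk_mul_of_mem _ h'.2, QuotientGroup.out_eq']
    have hq : q = q' := by rw [← h1, ← h2, hqq]
    subst hq
    have hh : (h : G) = (h' : G) := mul_left_cancel hqq
    rw [Subtype.ext hh]
  · intro x
    have hx : (Quotient.out (x : G ⧸ H))⁻¹ * x ∈ H :=
      QuotientGroup.eq.mp (QuotientGroup.out_eq' (x : G ⧸ H))
    refine ⟨((x : G ⧸ H), ⟨_, hx⟩), ?_⟩
    simp

/-- The trace of the induced matrices is the induced class function. -/
theorem trace_indMat_eq_indFun [Fintype G] [DecidableEq (G ⧸ H)] [Fintype (G ⧸ H)]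
    (hS1 : S 1 = 1) (hSmul : ∀ a b, S (a * b) = S a * S b) (g : G) :
    (((indMat H S g).trace : ℝ) : ℂ) =
      Cfsg.indFun H (fun h : H => (((S h).trace : ℝ) : ℂ)) g := by
  classical
  have : Fintype H := Fintype.ofFinite H
  have hcls : ∀ (y i : H), (S (i⁻¹ * y * i)).trace = (S y).trace := by
    intro y i
    rw [hSmul, hSmul, Matrix.trace_mul_comm, ← mul_assoc, ← hSmul, mul_inv_cancel, hS1, one_mul]
  have hHC : (Nat.card H : ℂ) ≠ 0 := Nat.cast_ne_zero.2 Nat.card_pos.ne'
  rw [Cfsg.Agent.Lib.helper4.indFun_apply, sum_eq_sum_quot_sum H, trace_indMat]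
  have key : ∀ q : G ⧸ H, ∑ h : H, Cfsg.extendByZero H (fun h : H => (((S h).trace : ℝ) : ℂ))
      ((Quotient.out q * (h : G))⁻¹ * g * (Quotient.out q * (h : G))) =
      (Nat.card H : ℂ) * (((if q = g • q then (S (coc H g q)).trace else 0 : ℝ)) : ℂ) := by
    intro q
    by_cases hq : g • q = q
    · rw [if_pos hq.symm]
      have hval : ∀ h : H, (Quotient.out q * (h : G))⁻¹ * g * (Quotient.out q * (h : G)) =
          ((h⁻¹ * coc H g q * h : H) : G) := by
        intro h
        rw [Subgroup.coe_mul, Subgroup.coe_mul, coc_coe_of_fixed H hq]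
        simp only [Subgroup.coe_inv]
        group
      have hterm : ∀ h : H, Cfsg.extendByZero H (fun h : H => (((S h).trace : ℝ) : ℂ))
          ((Quotient.out q * (h : G))⁻¹ * g * (Quotient.out q * (h : G))) =
          (((S (coc H g q)).trace : ℝ) : ℂ) := by
        intro h
        rw [hval h, Cfsg.Agent.Lib.helper4.extendByZero_apply_coe, hcls]
      rw [Finset.sum_congr rfl (fun h _ => hterm h), Finset.sum_const, Finset.card_univ,
        nsmul_eq_mul, Nat.card_eq_fintype_card]
    · rw [if_neg (fun h => hq h.symm)]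
      have hnot : (Quotient.out q)⁻¹ * g * Quotient.out q ∉ H := fun hm =>
        hq ((smul_eq_iff_mem H g q).2 hm)
      have hterm : ∀ h : H, Cfsg.extendByZero H (fun h : H => (((S h).trace : ℝ) : ℂ))
          ((Quotient.out q * (h : G))⁻¹ * g * (Quotient.out q * (h : G))) = 0 := by
        intro h
        apply Cfsg.Agent.Lib.helper4.extendByZero_apply_of_not_mem
        intro hm
        apply hnot
        have h3 : (Quotient.out q)⁻¹ * g * Quotient.out q =
            (h : G) * ((Quotient.out q * (h : G))⁻¹ * g * (Quotient.out q * (h : G))) *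
              (h : G)⁻¹ := by group
        rw [h3]
        exact H.mul_mem (H.mul_mem h.2 hm) (H.inv_mem h.2)
      rw [Finset.sum_congr rfl (fun h _ => hterm h)]
      simp
  rw [Finset.sum_congr rfl (fun q _ => key q), ← Finset.mul_sum, ← mul_assoc,
    inv_mul_cancel₀ hHC, one_mul]
  push_cast
  rfl

/-- Real matrix representations can be induced: existence of real matrices for `G` whose trace
is the induced class function. -/
theorem exists_real_induced [Fintype G]
    (hS1 : S 1 = 1) (hSmul : ∀ a b, S (a * b) = S a * S b) :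
    ∃ (m : ℕ) (R : G → Matrix (Fin m) (Fin m) ℝ), R 1 = 1 ∧ (∀ g h, R (g * h) = R g * R h) ∧
      ∀ g, (((R g).trace : ℝ) : ℂ) = Cfsg.indFun H (fun h : H => (((S h).trace : ℝ) : ℂ)) g := by
  classical
  have : Fintype (G ⧸ H) := Fintype.ofFinite _
  let e : (G ⧸ H) × Fin n ≃ Fin (Fintype.card ((G ⧸ H) × Fin n)) := Fintype.equivFin _
  refine ⟨Fintype.card ((G ⧸ H) × Fin n), fun g => (indMat H S g).submatrix e.symm e.symm,
    ?_, ?_, ?_⟩
  · show (indMat H S 1).submatrix e.symm e.symm = 1
    rw [indMat_one H S hS1, Matrix.submatrix_one_equiv]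
  · intro g h
    show (indMat H S (g * h)).submatrix e.symm e.symm =
      (indMat H S g).submatrix e.symm e.symm * (indMat H S h).submatrix e.symm e.symm
    rw [indMat_mul H S hSmul, Matrix.submatrix_mul_equiv]
  · intro g
    rw [← trace_indMat_eq_indFun H S hS1 hSmul g]
    congr 1
    show ∑ i, (indMat H S g) (e.symm i) (e.symm i) = ∑ a, (indMat H S g) a a
    exact Fintype.sum_equiv e.symm _ _ (fun i => rfl)

end RealInd

/-- An irreducible character induced from an irreducible character with Frobenius–Schur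
indicator `1` has Frobenius–Schur indicator `1`. -/
theorem fs_indicator_indFun {G : Type u} [Group G] [Fintype G] (H : Subgroup G) [Fintype H]
    (ψ : IrrCharacter H)
    (hψ : (Nat.card H : ℂ)⁻¹ * ∑ g : H, (ψ : H → ℂ) (g * g) = 1)
    (θ : IrrCharacter G) (hθ : (θ : G → ℂ) = Cfsg.indFun H (ψ : H → ℂ)) :
    (Nat.card G : ℂ)⁻¹ * ∑ s : G, (θ : G → ℂ) (s * s) = 1 := by
  classical
  obtain ⟨n, ρ, hρ, h⟩ := ψ.2
  rw [← h] at hψ
  obtain ⟨σ, hσ⟩ := Cfsg.Agent.Lib.helper78.exists_real_rep_of_indicator_one ρ hρ hψ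
  obtain ⟨S, hSdef⟩ : ∃ S : H → Matrix (Fin n) (Fin n) ℝ,
      S = fun g => LinearMap.toMatrix' (σ g) := ⟨_, rfl⟩
  have hS1 : S 1 = 1 := by simp [hSdef]
  have hSmul : ∀ g h, S (g * h) = S g * S h := by
    intro g h; simp [hSdef, LinearMap.toMatrix'_mul]
  have hStr : ∀ g, LinearMap.trace ℝ (Fin n → ℝ) (σ g) = (S g).trace := by
    intro g
    rw [LinearMap.trace_eq_matrix_trace ℝ (Pi.basisFun ℝ (Fin n))]
    simp [hSdef, LinearMap.toMatrix_eq_toMatrix']
  obtain ⟨m, R, hR1, hRmul, hRtr⟩ := exists_real_induced H S hS1 hSmul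
  apply Cfsg.Agent.Lib.helper78.indicator_one_of_real_rep θ
    (Cfsg.Agent.Lib.helper78.realRepOfMat R hR1 hRmul)
  intro g
  rw [Cfsg.Agent.Lib.helper78.trace_realRepOfMat, hRtr, hθ]
  congr 1
  funext x
  rw [← hStr, hσ, h]

end Cfsg.Agent.Lib.helper83
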