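import Mathlib

set_option autoImplicit false
set_option linter.unusedVariables false
set_option linter.unusedSimpArgs false
set_option linter.style.longLine false

namespace Cfsg.Agent.Lib.helper83.S2113

theorem helper83_cancelL {Γ : Type*} [Group Γ] {a b : Γ} (h : a = a * b) : b = 1 := by
  have h1 : a * 1 = a * b := by rw [mul_one]; exact h
  exact (mul_left_cancel h1).symm

theorem helper83_cancelR {Γ : Type*} [Group Γ] {a b : Γ} (h : b = a * b) : a = 1 := by
  have h1 : 1 * b = a * b := by rw [one_mul]; exact h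
  exact (mul_right_cancel h1).symm

/-- PIECE TWOF: a combinatorial lemma on `ZMod 7`. -/
theorem helper83_two_f {Γ : Type*} [Group Γ] (f : ZMod 7 → Γ) (j : ZMod 7)
    (hcomm : ∀ a b, f a * f b = f b * f a) (h0 : f 0 = 1) (hsq : ∀ k, f k * f k = 1)
    (hneg : ∀ k, f (-k) = f k) (hj0 : j ≠ 0) (hj1 : j ≠ 1)
    (hrel : ∀ i, f (i + j) = f i * f (i + 1)) : ∀ k, f k = 1 := by
  have n6 : f 6 = f 1 := by
    have h := hneg 1
    have e : (-1 : ZMod 7) = 6 := by decide
    rw [e] at h; exact h
  have n5 : f 5 = f 2 := by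
    have h := hneg 2
    have e : (-2 : ZMod 7) = 5 := by decide
    rw [e] at h; exact h
  have n4 : f 4 = f 3 := by
    have h := hneg 3
    have e : (-3 : ZMod 7) = 4 := by decide
    rw [e] at h; exact h
  have key : f 1 = 1 ∧ f 2 = 1 ∧ f 3 = 1 := by
    have hall : ∀ j : ZMod 7, j ≠ 0 → j ≠ 1 → j = 2 ∨ j = 3 ∨ j = 4 ∨ j = 5 ∨ j = 6 := by
      decide
    have hj : j = 2 ∨ j = 3 ∨ j = 4 ∨ j = 5 ∨ j = 6 := hall j hj0 hj1
    rcases hj with rfl | rfl | rfl | rfl | rfl
    · -- j = 2
      have r0 : f 2 = f 0 * f 1 := by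
        have h := hrel 0
        have e1 : (0 : ZMod 7) + 2 = 2 := by decide
        have e2 : (0 : ZMod 7) + 1 = 1 := by decide
        rw [e1, e2] at h; exact h
      have r1 : f 3 = f 1 * f 2 := by
        have h := hrel 1
        have e1 : (1 : ZMod 7) + 2 = 3 := by decide
        have e2 : (1 : ZMod 7) + 1 = 2 := by decide
        rw [e1, e2] at h; exact h
      have r2 : f 4 = f 2 * f 3 := by
        have h := hrel 2
        have e1 : (2 : ZMod 7) + 2 = 4 := by decide
        have e2 : (2 : ZMod 7) + 1 = 3 := by decide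
        rw [e1, e2] at h; exact h
      have hB : f 2 = f 1 := by rw [r0, h0, one_mul]
      have hC : f 3 = 1 := by rw [r1, hB]; exact hsq 1
      rw [n4, hC, mul_one] at r2
      have hB1 : f 2 = 1 := r2.symm
      exact ⟨by rw [← hB]; exact hB1, hB1, hC⟩
    · -- j = 3
      have r0 : f 3 = f 0 * f 1 := by
        have h := hrel 0
        have e1 : (0 : ZMod 7) + 3 = 3 := by decide
        have e2 : (0 : ZMod 7) + 1 = 1 := by decide
        rw [e1, e2] at h; exact h
      have r1 : f 4 = f 1 * f 2 := by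
        have h := hrel 1
        have e1 : (1 : ZMod 7) + 3 = 4 := by decide
        have e2 : (1 : ZMod 7) + 1 = 2 := by decide
        rw [e1, e2] at h; exact h
      have r2 : f 5 = f 2 * f 3 := by
        have h := hrel 2
        have e1 : (2 : ZMod 7) + 3 = 5 := by decide
        have e2 : (2 : ZMod 7) + 1 = 3 := by decide
        rw [e1, e2] at h; exact h
      have hC : f 3 = f 1 := by rw [r0, h0, one_mul]
      rw [n4, hC] at r1
      have hB1 : f 2 = 1 := helper83_cancelL r1
      rw [n5] at r2
      have hC1 : f 3 = 1 := helper83_cancelL r2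
      exact ⟨by rw [← hC]; exact hC1, hB1, hC1⟩
    · -- j = 4
      have r0 : f 4 = f 0 * f 1 := by
        have h := hrel 0
        have e1 : (0 : ZMod 7) + 4 = 4 := by decide
        have e2 : (0 : ZMod 7) + 1 = 1 := by decide
        rw [e1, e2] at h; exact h
      have r1 : f 5 = f 1 * f 2 := by
        have h := hrel 1
        have e1 : (1 : ZMod 7) + 4 = 5 := by decide
        have e2 : (1 : ZMod 7) + 1 = 2 := by decide
        rw [e1, e2] at h; exact h
      have r2 : f 6 = f 2 * f 3 := by
        have h := hrel 2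
        have e1 : (2 : ZMod 7) + 4 = 6 := by decide
        have e2 : (2 : ZMod 7) + 1 = 3 := by decide
        rw [e1, e2] at h; exact h
      have hC : f 3 = f 1 := by rw [← n4, r0, h0, one_mul]
      rw [n5] at r1
      have hA1 : f 1 = 1 := helper83_cancelR r1
      have hC1 : f 3 = 1 := by rw [hC]; exact hA1
      rw [n6, hA1, hC1, mul_one] at r2
      exact ⟨hA1, r2.symm, hC1⟩
    · -- j = 5
      have r0 : f 5 = f 0 * f 1 := by
        have h := hrel 0
        have e1 : (0 : ZMod 7) + 5 = 5 := by decide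
        have e2 : (0 : ZMod 7) + 1 = 1 := by decide
        rw [e1, e2] at h; exact h
      have r1 : f 6 = f 1 * f 2 := by
        have h := hrel 1
        have e1 : (1 : ZMod 7) + 5 = 6 := by decide
        have e2 : (1 : ZMod 7) + 1 = 2 := by decide
        rw [e1, e2] at h; exact h
      have r2 : f 0 = f 2 * f 3 := by
        have h := hrel 2
        have e1 : (2 : ZMod 7) + 5 = 0 := by decide
        have e2 : (2 : ZMod 7) + 1 = 3 := by decide
        rw [e1, e2] at h; exact h
      have hB : f 2 = f 1 := by rw [← n5, r0, h0, one_mul]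
      rw [n6] at r1
      have hB1 : f 2 = 1 := helper83_cancelL r1
      have hA1 : f 1 = 1 := by rw [← hB]; exact hB1
      rw [h0, hB1, one_mul] at r2
      exact ⟨hA1, hB1, r2.symm⟩
    · -- j = 6
      have r1 : f 0 = f 1 * f 2 := by
        have h := hrel 1
        have e1 : (1 : ZMod 7) + 6 = 0 := by decide
        have e2 : (1 : ZMod 7) + 1 = 2 := by decide
        rw [e1, e2] at h; exact h
      have r2 : f 1 = f 2 * f 3 := by
        have h := hrel 2
        have e1 : (2 : ZMod 7) + 6 = 1 := by decide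
        have e2 : (2 : ZMod 7) + 1 = 3 := by decide
        rw [e1, e2] at h; exact h
      have r3 : f 2 = f 3 * f 4 := by
        have h := hrel 3
        have e1 : (3 : ZMod 7) + 6 = 2 := by decide
        have e2 : (3 : ZMod 7) + 1 = 4 := by decide
        rw [e1, e2] at h; exact h
      have hB1 : f 2 = 1 := by rw [r3, n4]; exact hsq 3
      rw [h0, hB1, mul_one] at r1
      have hA1 : f 1 = 1 := r1.symm
      rw [hA1, hB1, one_mul] at r2
      exact ⟨hA1, hB1, r2.symm⟩
  obtain ⟨hA, hB, hC⟩ := key
  intro k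
  have hallk : ∀ k : ZMod 7, k = 0 ∨ k = 1 ∨ k = 2 ∨ k = 3 ∨ k = 4 ∨ k = 5 ∨ k = 6 := by
    decide
  have hk : k = 0 ∨ k = 1 ∨ k = 2 ∨ k = 3 ∨ k = 4 ∨ k = 5 ∨ k = 6 := hallk k
  rcases hk with rfl | rfl | rfl | rfl | rfl | rfl | rfl
  · exact h0
  · exact hA
  · exact hB
  · exact hC
  · rw [n4]; exact hC
  · rw [n5]; exact hB
  · rw [n6]; exact hA

end Cfsg.Agent.Lib.helper83.S2113
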