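/-
S2687 split (owner helper95), PIECE G-LIN-O: a relative semilinear map `x ↦ w *ᵥ τ(x)` that
commutes with the involutions of determinant one of the (rational) orthogonal group of a
symmetric form over a finite subfield `F₀` is a scalar, and `τ` fixes `F₀`.
-/
import Cfsg.Agent.Lib.helper65.S2686OREFL
import Cfsg.Agent.Lib.helper50.SymClass

set_option autoImplicit false
set_option linter.unusedSectionVars false
set_option linter.unusedVariables false

namespace Cfsg.Agent.Lib.helper83.S2687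

open Matrix Cfsg
open Cfsg.Agent.Lib.helper48.LB
open Cfsg.Agent.Lib.helper65.S2686

universe u v

section general

variable {F : Type u} [Field F] {F₀ : Type v} [Field F₀] {κ : Type} [Fintype κ] [DecidableEq κ]

/-- the action of the image of a rational reflection -/
theorem go_refl_map_mulVec (ι : F₀ →+* F) (G : Matrix κ κ F₀) (v : κ → F₀) (u : κ → F) :
    ∃ t : F, (refl G v).map ι *ᵥ u = u - t • (fun i => ι (v i)) := by
  refine ⟨ι (2 / (v ⬝ᵥ G *ᵥ v)) * ((fun j => ι ((G *ᵥ v) j)) ⬝ᵥ u), ?_⟩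
  have e : (refl G v).map ι = 1 - (ι (2 / (v ⬝ᵥ G *ᵥ v))) •
      vecMulVec (fun i => ι (v i)) (fun j => ι ((G *ᵥ v) j)) := by
    unfold Cfsg.Agent.Lib.helper48.LB.refl
    ext i j
    simp only [Matrix.map_apply, Matrix.sub_apply, Matrix.smul_apply, Matrix.vecMulVec_apply,
      smul_eq_mul, map_sub, map_mul]
    by_cases hij : i = j
    · subst hij; simp
    · simp [Matrix.one_apply_ne hij]
  rw [e, Matrix.sub_mulVec, Matrix.one_mulVec, Matrix.smul_mulVec, Matrix.vecMulVec_mulVec]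
  congr 1
  funext i
  simp only [Pi.smul_apply, smul_eq_mul, MulOpposite.smul_eq_mul_unop, MulOpposite.unop_op]
  ring

/-- **Key lemma** (relative form): the semilinear map `T = w ∘ τ` maps `ι a` into the plane
spanned by `ι a` and `ι b`, for orthogonal anisotropic rational `a`, `b`. -/
theorem go_key_plane (ι : F₀ →+* F) (h2 : (2 : F₀) ≠ 0) (G : Matrix κ κ F₀) (hG : Gᵀ = G)
    (w : Matrix κ κ F) (τ : F ≃+* F)
    (hcomm : ∀ S : Matrix κ κ F₀, S * S = 1 → S.det = 1 → Sᵀ * G * S = G →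
      w * (S.map ι).map τ = S.map ι * w)
    (a b : κ → F₀) (ha : a ⬝ᵥ G *ᵥ a ≠ 0) (hb : b ⬝ᵥ G *ᵥ b ≠ 0) (hab : a ⬝ᵥ G *ᵥ b = 0) :
    ∃ x y : F, w *ᵥ (fun i => τ (ι (a i))) =
      x • (fun i => ι (a i)) + y • (fun i => ι (b i)) := by
  obtain ⟨S, hS⟩ : ∃ S : Matrix κ κ F₀, S = refl G a * refl G b := ⟨_, rfl⟩
  have hS2 : S * S = 1 := by rw [hS]; exact refl_perp_sq G hG a b ha hb hab
  have hSdet : S.det = 1 := by
    rw [hS, Matrix.det_mul, refl_det G a ha, refl_det G b hb]; norm_num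
  have hSiso : Sᵀ * G * S = G := by
    rw [hS, Matrix.transpose_mul]
    calc (refl G b)ᵀ * (refl G a)ᵀ * G * (refl G a * refl G b)
        = (refl G b)ᵀ * ((refl G a)ᵀ * G * refl G a) * refl G b := by
          simp only [Matrix.mul_assoc]
      _ = G := by rw [refl_isometry G hG a ha, refl_isometry G hG b hb]
  have H := hcomm S hS2 hSdet hSiso
  have hSa : S *ᵥ a = -a := by
    rw [hS, orefl_perp_apply G hG a b hab a, hab, mul_zero, zero_div, zero_smul, sub_zero,
      mul_div_assoc, div_self ha, mul_one]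
    ext i
    simp only [Pi.sub_apply, Pi.smul_apply, smul_eq_mul, Pi.neg_apply]
    ring
  obtain ⟨u, hu⟩ : ∃ u : κ → F, u = w *ᵥ (fun i => τ (ι (a i))) := ⟨_, rfl⟩
  have hSu : S.map ι *ᵥ u = -u := by
    rw [hu, Matrix.mulVec_mulVec, ← H, ← Matrix.mulVec_mulVec]
    have e : ((S.map ι).map τ) *ᵥ (fun i => τ (ι (a i))) = fun i => τ (ι ((S *ᵥ a) i)) := by
      funext i
      simp [Matrix.mulVec, dotProduct, map_sum, map_mul]
    rw [e, hSa, ← Matrix.mulVec_neg]
    congr 1
    funext i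
    simp
  have hSι : S.map ι = (refl G a).map ι * (refl G b).map ι := by
    rw [hS, Matrix.map_mul]
  rw [hSι, ← Matrix.mulVec_mulVec] at hSu
  obtain ⟨t₂, ht₂⟩ := go_refl_map_mulVec ι G b u
  obtain ⟨t₁, ht₁⟩ := go_refl_map_mulVec ι G a (u - t₂ • fun i => ι (b i))
  rw [ht₂, ht₁] at hSu
  have h2F : (2 : F) ≠ 0 := by
    have : ι 2 = 2 := map_ofNat ι 2
    rw [← this]; exact (map_ne_zero ι).mpr h2
  refine ⟨t₁ / 2, t₂ / 2, ?_⟩
  rw [← hu]
  funext i
  have h3 := congrFun hSu i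
  simp only [Pi.sub_apply, Pi.smul_apply, smul_eq_mul, Pi.neg_apply, Pi.add_apply] at h3 ⊢
  have h4 : (2 : F) * u i = 2 * (t₁ / 2 * ι (a i) + t₂ / 2 * ι (b i)) := by
    field_simp
    linear_combination h3
  exact mul_left_cancel₀ h2F h4

theorem go_dotG_single (g : κ → F₀) (i : κ) (b : κ → F₀) :
    (Pi.single i (1 : F₀)) ⬝ᵥ Matrix.diagonal g *ᵥ b = g i * b i := by
  simp [Matrix.mulVec_diagonal]

theorem go_tau_single (ι : F₀ →+* F) (τ : F ≃+* F) (i : κ) :
    (fun m => τ (ι ((Pi.single i (1 : F₀) : κ → F₀) m))) = Pi.single i 1 := by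
  funext m
  by_cases hm : m = i
  · subst hm; simp
  · simp [Pi.single_apply, hm]

end general

section orth

variable {F : Type u} [Field F] {F₀ : Type v} [Field F₀]

theorem go_exists_third {N : ℕ} (hN : 2 ≤ N) (i l : Fin (N + 1)) :
    ∃ j : Fin (N + 1), j ≠ i ∧ j ≠ l := by
  by_contra hcon0
  have hcon : ∀ j : Fin (N + 1), j ≠ i → j = l := fun j hj => by
    by_contra hjl
    exact hcon0 ⟨j, hj, hjl⟩
  have h1 : (Finset.univ : Finset (Fin (N + 1))) ⊆ {i, l} := by
    intro j _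
    by_cases hj : j = i
    · simp [hj]
    · simp [hcon j hj]
  have h2 := Finset.card_le_card h1
  have h3 : ({i, l} : Finset (Fin (N + 1))).card ≤ 2 := Finset.card_le_two
  rw [Finset.card_univ, Fintype.card_fin] at h2
  omega

/-- the diagonal case of G-LIN-O -/
theorem lin_orth_diag (ι : F₀ →+* F) (h2 : (2 : F₀) ≠ 0) {N : ℕ} (hN : 2 ≤ N) (δ : F₀)
    (hδ : δ ≠ 0) (w : Matrix (Fin (N + 1)) (Fin (N + 1)) F) (hw : w.det ≠ 0) (τ : F ≃+* F)
    (hcomm : ∀ S : Matrix (Fin (N + 1)) (Fin (N + 1)) F₀, S * S = 1 → S.det = 1 →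
      Sᵀ * Matrix.diagonal (fun i => if i = Fin.last N then δ else 1) * S
        = Matrix.diagonal (fun i => if i = Fin.last N then δ else 1) →
      w * (S.map ι).map τ = S.map ι * w) :
    (∃ c : F, w = c • (1 : Matrix (Fin (N + 1)) (Fin (N + 1)) F)) ∧
      ∀ y : F₀, τ (ι y) = ι y := by
  classical
  obtain ⟨g, hg⟩ : ∃ g : Fin (N + 1) → F₀, g = fun i => if i = Fin.last N then δ else 1 :=
    ⟨_, rfl⟩
  rw [← hg] at hcomm
  have hgL : g (Fin.last N) = δ := by rw [hg]; simp
  have hgne : ∀ i, i ≠ Fin.last N → g i = 1 := by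
    intro i hi
    rw [hg]; simp [hi]
  have hg0 : ∀ i, g i ≠ 0 := by
    intro i
    by_cases hi : i = Fin.last N
    · rw [hi, hgL]; exact hδ
    · rw [hgne i hi]; exact one_ne_zero
  have h2F : (2 : F) ≠ 0 := by
    have : ι 2 = 2 := map_ofNat ι 2
    rw [← this]; exact (map_ne_zero ι).mpr h2
  have kp := go_key_plane ι h2 (Matrix.diagonal g) (Matrix.diagonal_transpose g) w τ hcomm
  -- (i) `w` is diagonal
  have hdiag : ∀ l i, l ≠ i → w l i = 0 := by
    intro l i hli
    obtain ⟨j, hji, hjl⟩ := go_exists_third hN i l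
    obtain ⟨x, y, hxy⟩ := kp (Pi.single i 1) (Pi.single j 1)
      (by rw [go_dotG_single]; simp [hg0 i])
      (by rw [go_dotG_single]; simp [hg0 j])
      (by rw [go_dotG_single]; simp [hji.symm])
    have h1 := congrFun hxy l
    rw [go_tau_single, Matrix.mulVec_single_one] at h1
    simp [Pi.single_apply, hli, hjl.symm] at h1
    exact h1
  obtain ⟨c, hc⟩ : ∃ c : Fin (N + 1) → F, c = fun i => w i i := ⟨_, rfl⟩
  have hh : w = Matrix.diagonal c := by
    ext l i
    by_cases hli : l = i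
    · subst hli; rw [Matrix.diagonal_apply_eq, hc]
    · rw [Matrix.diagonal_apply_ne _ hli, hdiag l i hli]
  have hc0 : ∀ i, c i ≠ 0 := by
    intro i hi
    apply hw
    rw [hh, Matrix.det_diagonal]
    exact Finset.prod_eq_zero (Finset.mem_univ i) hi
  have kp' : ∀ a b : Fin (N + 1) → F₀, a ⬝ᵥ Matrix.diagonal g *ᵥ a ≠ 0 →
      b ⬝ᵥ Matrix.diagonal g *ᵥ b ≠ 0 → a ⬝ᵥ Matrix.diagonal g *ᵥ b = 0 →
      ∃ x y : F, ∀ l, c l * τ (ι (a l)) = x * ι (a l) + y * ι (b l) := by
    intro a b ha hb hab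
    obtain ⟨x, y, hxy⟩ := kp a b ha hb hab
    refine ⟨x, y, fun l => ?_⟩
    have h1 := congrFun hxy l
    rw [hh] at h1
    simp only [Matrix.mulVec_diagonal, Pi.add_apply, Pi.smul_apply, smul_eq_mul] at h1
    exact h1
  -- (ii) the two-vector relation
  have rel2 : ∀ i j k : Fin (N + 1), i ≠ j → k ≠ i → k ≠ j → ∀ t : F₀, g i + t ^ 2 * g j ≠ 0 →
      c j * τ (ι t) = c i * ι t := by
    intro i j k hij hki hkj t ht
    obtain ⟨x, y, hxy⟩ := kp' (Pi.single i 1 + t • Pi.single j 1) (Pi.single k 1)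
      (by
        rw [add_dotProduct, smul_dotProduct, go_dotG_single, go_dotG_single]
        simp only [Pi.add_apply, Pi.smul_apply, smul_eq_mul, Pi.single_apply, if_true, hij,
          hij.symm, if_false]
        intro h0
        apply ht
        linear_combination h0)
      (by rw [go_dotG_single]; simp [hg0 k])
      (by
        rw [add_dotProduct, smul_dotProduct, go_dotG_single, go_dotG_single]
        simp [Pi.single_apply, hki.symm, hkj.symm])
    have hi := hxy i
    have hj := hxy j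
    simp only [Pi.add_apply, Pi.smul_apply, smul_eq_mul, Pi.single_apply, if_true, hij,
      hij.symm, hki.symm, hkj.symm, if_false, mul_zero, add_zero, zero_add, mul_one, map_one,
      map_zero] at hi hj
    rw [hj, hi]
  obtain ⟨i0, hi0⟩ : ∃ i0 : Fin (N + 1), i0 = ⟨0, by omega⟩ := ⟨_, rfl⟩
  obtain ⟨i1, hi1⟩ : ∃ i1 : Fin (N + 1), i1 = ⟨1, by omega⟩ := ⟨_, rfl⟩
  have h01 : i0 ≠ i1 := by rw [hi0, hi1]; simp [Fin.ext_iff]
  have h0L : i0 ≠ Fin.last N := by rw [hi0]; simp [Fin.ext_iff]; omega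
  have h1L : i1 ≠ Fin.last N := by rw [hi1]; simp [Fin.ext_iff]; omega
  -- (iii) equal entries away from the last index
  have hA : ∀ i j : Fin (N + 1), i ≠ j → i ≠ Fin.last N → j ≠ Fin.last N → c j = c i := by
    intro i j hij hi hj
    obtain ⟨k, hki, hkj⟩ := go_exists_third hN i j
    have h1 := rel2 i j k hij hki hkj 1 (by
      rw [hgne i hi, hgne j hj]
      intro h0
      apply h2
      linear_combination h0)
    rw [map_one, map_one, mul_one, mul_one] at h1
    exact h1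
  -- (iv) `τ` fixes every `ι t` with `1 + t² ≠ 0`
  have hB : ∀ t : F₀, 1 + t ^ 2 ≠ 0 → τ (ι t) = ι t := by
    intro t ht
    obtain ⟨k, hk0, hk1⟩ := go_exists_third hN i0 i1
    have h1 := rel2 i0 i1 k h01 hk0 hk1 t (by
      rw [hgne i0 h0L, hgne i1 h1L, mul_one]
      exact ht)
    rw [hA i0 i1 h01 h0L h1L] at h1
    exact mul_left_cancel₀ (hc0 i0) h1
  have hC : ∀ b : F₀, τ (ι b) = ι b := by
    intro b
    by_cases hb : 1 + b ^ 2 = 0
    · by_cases hb' : 1 + (b + 1) ^ 2 = 0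
      · have h3 : (2 : F₀) * b = -1 := by linear_combination hb' - hb
        have h4 : τ (ι (2 * b)) = τ (ι (-1)) := by rw [h3]
        rw [map_mul, map_mul, map_neg, map_neg, map_one, map_one, map_ofNat, map_ofNat] at h4
        have h5 : (2 : F) * ι b = -1 := by
          have := congrArg ι h3
          rw [map_mul, map_neg, map_one, map_ofNat] at this
          exact this
        rw [← h5] at h4
        exact mul_left_cancel₀ h2F h4
      · have h3 := hB (b + 1) hb'
        rw [map_add, map_add, map_one, map_one] at h3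
        exact add_right_cancel h3
    · exact hB b hb
  -- (v) the last index
  have hD : c (Fin.last N) = c i0 := by
    by_cases hd : 1 + δ = 0
    · obtain ⟨x, y, hxy⟩ := kp'
        (Pi.single i0 1 + Pi.single i1 1 + Pi.single (Fin.last N) 1)
        (Pi.single i0 1 - Pi.single i1 1)
        (by
          rw [add_dotProduct, add_dotProduct, go_dotG_single, go_dotG_single, go_dotG_single]
          simp only [Pi.add_apply, Pi.single_apply, if_true, h01, h01.symm, h0L, h0L.symm, h1L,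
            h1L.symm, if_false, hgne i0 h0L, hgne i1 h1L, hgL]
          intro h0
          apply one_ne_zero (α := F₀)
          linear_combination h0 - hd)
        (by
          rw [sub_dotProduct, go_dotG_single, go_dotG_single]
          simp only [Pi.sub_apply, Pi.single_apply, if_true, h01, h01.symm, if_false,
            hgne i0 h0L, hgne i1 h1L]
          intro h0
          apply h2
          linear_combination h0)
        (by
          rw [add_dotProduct, add_dotProduct, go_dotG_single, go_dotG_single, go_dotG_single]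
          simp only [Pi.sub_apply, Pi.single_apply, if_true, h01, h01.symm, h0L, h0L.symm, h1L,
            h1L.symm, if_false, hgne i0 h0L, hgne i1 h1L, hgL]
          ring)
      have e0 := hxy i0
      have e1 := hxy i1
      have eL := hxy (Fin.last N)
      simp only [Pi.add_apply, Pi.sub_apply, Pi.single_apply, if_true, h01, h01.symm, h0L,
        h0L.symm, h1L, h1L.symm, if_false, add_zero, zero_add, sub_zero, zero_sub, mul_one,
        map_one, map_zero, map_neg, mul_zero, mul_neg] at e0 e1 eL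
      have e01 : c i1 = c i0 := hA i0 i1 h01 h0L h1L
      rw [e01] at e1
      have hy : (2 : F) * y = 0 := by linear_combination e1 - e0
      have hy0 : y = 0 := by
        rcases mul_eq_zero.mp hy with h | h
        · exact absurd h h2F
        · exact h
      rw [eL, e0, hy0]; ring
    · have h1 := rel2 i0 (Fin.last N) i1 h0L h01.symm h1L 1 (by
        rw [hgne i0 h0L, hgL, one_pow, one_mul]
        exact hd)
      rw [map_one, map_one, mul_one, mul_one] at h1
      exact h1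
  have hall : ∀ i, c i = c i0 := by
    intro i
    by_cases hi : i = Fin.last N
    · rw [hi, hD]
    · by_cases hi0' : i = i0
      · rw [hi0']
      · exact hA i0 i (Ne.symm hi0') h0L hi
  refine ⟨⟨c i0, ?_⟩, hC⟩
  rw [hh]
  ext l i
  by_cases hli : l = i
  · subst hli
    simp [hall l]
  · simp [Matrix.diagonal_apply_ne _ hli, Matrix.one_apply_ne hli]

end orth

variable {n q : ℕ} {F : Type u} [Field F] [Fintype F]

/-- G-LIN-O -/
theorem lin_orth {F₀ : Type v} [Field F₀] [Fintype F₀] (ι : F₀ →+* F) (h2 : (2 : F₀) ≠ 0)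
    (hn : 3 ≤ n) (M₀ : Matrix (Fin n) (Fin n) F₀) (hM₀ : M₀ᵀ = M₀) (hdet : M₀.det ≠ 0)
    (w : Matrix (Fin n) (Fin n) F) (hw : w.det ≠ 0) (τ : F ≃+* F)
    (h : ∀ S : Matrix (Fin n) (Fin n) F₀, S * S = 1 → S.det = 1 → Sᵀ * M₀ * S = M₀ →
      w * (S.map ι).map τ = S.map ι * w) :
    (∃ c : F, w = c • (1 : Matrix (Fin n) (Fin n) F)) ∧ ∀ y : F₀, τ (ι y) = ι y := by
  classical
  obtain ⟨N, rfl⟩ : ∃ N, n = N + 1 := ⟨n - 1, by omega⟩
  have hchar : ringChar F₀ ≠ 2 := by
    intro hc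
    haveI : CharP F₀ 2 := ringChar.of_eq hc
    exact h2 (by exact_mod_cast CharP.cast_eq_zero F₀ 2)
  obtain ⟨α, hα⟩ : ∃ α : F₀, ¬ IsSquare α := FiniteField.exists_nonsquare hchar
  obtain ⟨g, δ, hδ', hg⟩ := Cfsg.Agent.Lib.helper50.exists_cong_diag h2 α hα
    (Matrix.GeneralLinearGroup.mkOfDetNeZero M₀ hdet) hM₀
  have hδ : δ ≠ 0 := by
    rcases hδ' with h | h
    · rw [h]; exact one_ne_zero
    · rw [h]
      rintro rfl
      exact hα ⟨0, by simp⟩
  obtain ⟨D, hD⟩ : ∃ D : Matrix (Fin (N + 1)) (Fin (N + 1)) F₀,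
      D = Matrix.diagonal (fun i => if i = Fin.last N then δ else 1) := ⟨_, rfl⟩
  obtain ⟨P, hP⟩ : ∃ P : Matrix (Fin (N + 1)) (Fin (N + 1)) F₀, P = g.1ᵀ := ⟨_, rfl⟩
  obtain ⟨Q, hQ⟩ : ∃ Q : Matrix (Fin (N + 1)) (Fin (N + 1)) F₀, Q = g⁻¹.1ᵀ := ⟨_, rfl⟩
  have hPQ : P * Q = 1 := by
    rw [hP, hQ, ← Matrix.transpose_mul, ← Units.val_mul, inv_mul_cancel]
    simp
  have hQP : Q * P = 1 := by
    rw [hP, hQ, ← Matrix.transpose_mul, ← Units.val_mul, mul_inv_cancel]
    simp
  have hgD : Pᵀ * M₀ * P = D := by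
    rw [hP, hD, Matrix.transpose_transpose]
    exact hg
  -- the transferred hypothesis
  obtain ⟨R, hR⟩ : ∃ R : Matrix (Fin (N + 1)) (Fin (N + 1)) F, R = P.map ι := ⟨_, rfl⟩
  obtain ⟨R', hR'⟩ : ∃ R' : Matrix (Fin (N + 1)) (Fin (N + 1)) F, R' = Q.map ι := ⟨_, rfl⟩
  have hRR' : R * R' = 1 := by
    rw [hR, hR', ← Matrix.map_mul, hPQ]
    simp
  have hR'R : R' * R = 1 := by
    rw [hR, hR', ← Matrix.map_mul, hQP]
    simp
  have hRτ : R'.map τ * R.map τ = 1 := by
    rw [← Matrix.map_mul, hR'R]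
    simp
  obtain ⟨w₁, hw₁⟩ : ∃ w₁ : Matrix (Fin (N + 1)) (Fin (N + 1)) F, w₁ = R' * w * R.map τ :=
    ⟨_, rfl⟩
  have hw₁det : w₁.det ≠ 0 := by
    rw [hw₁, Matrix.det_mul, Matrix.det_mul]
    have e1 : R'.det * R.det = 1 := by rw [← Matrix.det_mul, hR'R, Matrix.det_one]
    have e2 : (R'.map τ).det * (R.map τ).det = 1 := by
      rw [← Matrix.det_mul, hRτ, Matrix.det_one]
    have e3 : R'.det ≠ 0 := left_ne_zero_of_mul_eq_one e1
    have e4 : (R.map τ).det ≠ 0 := right_ne_zero_of_mul_eq_one e2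
    exact mul_ne_zero (mul_ne_zero e3 hw) e4
  have hcomm : ∀ S : Matrix (Fin (N + 1)) (Fin (N + 1)) F₀, S * S = 1 → S.det = 1 →
      Sᵀ * D * S = D → w₁ * (S.map ι).map τ = S.map ι * w₁ := by
    intro S₁ hS2 hSdet hSiso
    have a1 : (P * S₁ * Q) * (P * S₁ * Q) = 1 := by
      calc (P * S₁ * Q) * (P * S₁ * Q) = P * (S₁ * (Q * P) * S₁) * Q := by
            simp only [Matrix.mul_assoc]
        _ = 1 := by rw [hQP, Matrix.mul_one, hS2, Matrix.mul_one, hPQ]
    have a2 : (P * S₁ * Q).det = 1 := by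
      rw [Matrix.det_mul, Matrix.det_mul, hSdet, mul_one, ← Matrix.det_mul, hPQ, Matrix.det_one]
    have a3 : (P * S₁ * Q)ᵀ * M₀ * (P * S₁ * Q) = M₀ := by
      rw [Matrix.transpose_mul, Matrix.transpose_mul]
      calc Qᵀ * (S₁ᵀ * Pᵀ) * M₀ * (P * S₁ * Q)
          = Qᵀ * (S₁ᵀ * (Pᵀ * M₀ * P) * S₁) * Q := by simp only [Matrix.mul_assoc]
        _ = Qᵀ * (Pᵀ * M₀ * P) * Q := by rw [hgD, hSiso]
        _ = (P * Q)ᵀ * M₀ * (P * Q) := by
            rw [Matrix.transpose_mul]; simp only [Matrix.mul_assoc]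
        _ = M₀ := by rw [hPQ, Matrix.transpose_one, Matrix.one_mul, Matrix.mul_one]
    have H := h (P * S₁ * Q) a1 a2 a3
    rw [Matrix.map_mul, Matrix.map_mul, Matrix.map_mul, Matrix.map_mul, ← hR, ← hR'] at H
    rw [hw₁]
    calc R' * w * R.map τ * (S₁.map ι).map τ
        = R' * (w * (R.map τ * (S₁.map ι).map τ * R'.map τ)) * R.map τ := by
          have : R' * (w * (R.map τ * (S₁.map ι).map τ * R'.map τ)) * R.map τ
              = R' * w * R.map τ * (S₁.map ι).map τ * (R'.map τ * R.map τ) := by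
            simp only [Matrix.mul_assoc]
          rw [this, hRτ, Matrix.mul_one]
      _ = R' * (R * S₁.map ι * R' * w) * R.map τ := by rw [H]
      _ = (R' * R) * S₁.map ι * (R' * w * R.map τ) := by simp only [Matrix.mul_assoc]
      _ = S₁.map ι * (R' * w * R.map τ) := by rw [hR'R, Matrix.one_mul]
  rw [hD] at hcomm
  obtain ⟨⟨c, hc⟩, hτ⟩ := lin_orth_diag ι h2 (by omega) δ hδ w₁ hw₁det τ hcomm
  refine ⟨⟨c, ?_⟩, hτ⟩
  have hRfix : R.map τ = R := by
    rw [hR]
    ext i j
    simp [hτ]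
  rw [hRfix] at hw₁
  rw [hw₁] at hc
  calc w = (R * R') * w * (R * R') := by rw [hRR', Matrix.one_mul, Matrix.mul_one]
    _ = R * (R' * w * R) * R' := by simp only [Matrix.mul_assoc]
    _ = c • (1 : Matrix (Fin (N + 1)) (Fin (N + 1)) F) := by
        rw [hc, Matrix.mul_smul, Matrix.smul_mul, Matrix.mul_one, hRR']

end Cfsg.Agent.Lib.helper83.S2687
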