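/-
S2687 split (owner helper95), PIECE G-LIN-S: a relative semilinear map `x ↦ w *ᵥ τ(x)` that
commutes, up to scalars, with the (rational) symplectic group of an alternating form over a
subfield `F₀` is a scalar, and `τ` fixes `F₀`.
-/
import Cfsg.Agent.Lib.helper48.LBRefl
import Cfsg.Agent.Lib.helper61.S2686Semi

set_option autoImplicit false
set_option linter.unusedSectionVars false
set_option linter.unusedVariables false

namespace Cfsg.Agent.Lib.helper83.S2687

open Matrix Cfsg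

universe u v

variable {n q : ℕ} {F : Type u} [Field F] [Fintype F]

omit [Fintype F] in
/-- a relative semilinear map fixing every rational line is a scalar, and the field automorphism
fixes the subfield -/
theorem rel_semilinear_scalar {F₀ : Type v} [Field F₀] (ι : F₀ →+* F) (hn : 2 ≤ n)
    (w : Matrix (Fin n) (Fin n) F) (hw : w.det ≠ 0) (τ : F ≃+* F)
    (hv : ∀ v : Fin n → F₀, v ≠ 0 →
      ∃ μ : F, w *ᵥ (fun i => τ (ι (v i))) = μ • (fun i => ι (v i))) :
    (∃ c : F, w = c • (1 : Matrix (Fin n) (Fin n) F)) ∧ ∀ y : F₀, τ (ι y) = ι y := by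
  classical
  have hoff : ∀ i j : Fin n, j ≠ i → w j i = 0 := by
    intro i j hji
    obtain ⟨μ, hμ⟩ := hv (Pi.single i 1) (by
      intro h0
      have := congrFun h0 i
      simp at this)
    have h1 := congrFun hμ j
    have e1 : (fun k => τ (ι ((Pi.single i (1 : F₀) : Fin n → F₀) k))) = Pi.single i 1 := by
      funext k
      by_cases hk : k = i
      · subst hk; simp
      · simp [Pi.single_eq_of_ne hk]
    rw [e1, Matrix.mulVec_single_one] at h1
    simp only [Pi.smul_apply, smul_eq_mul, Pi.single_eq_of_ne hji, map_zero, mul_zero] at h1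
    exact h1
  have hdiag : ∀ (x : Fin n → F) (j : Fin n), (w *ᵥ x) j = w j j * x j := by
    intro x j
    simp only [Matrix.mulVec, dotProduct]
    rw [Finset.sum_eq_single j]
    · intro k _ hkj
      rw [hoff k j (Ne.symm hkj), zero_mul]
    · intro hj
      exact absurd (Finset.mem_univ j) hj
  have heq : ∀ i j : Fin n, i ≠ j → w i i = w j j := by
    intro i j hij
    obtain ⟨μ, hμ⟩ := hv (Pi.single i 1 + Pi.single j 1) (by
      intro h0
      have := congrFun h0 i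
      simp [Pi.single_eq_of_ne hij] at this)
    have hi := congrFun hμ i
    have hj := congrFun hμ j
    rw [hdiag] at hi hj
    simp only [Pi.add_apply, Pi.single_eq_same, Pi.single_eq_of_ne hij,
      Pi.single_eq_of_ne (Ne.symm hij), add_zero, zero_add, map_one, mul_one, Pi.smul_apply,
      smul_eq_mul] at hi hj
    rw [hi, hj]
  obtain ⟨i0, j0, hij0⟩ : ∃ i j : Fin n, i ≠ j :=
    ⟨⟨0, by omega⟩, ⟨1, by omega⟩, by intro h; simp [Fin.ext_iff] at h⟩
  have hall : ∀ j : Fin n, w j j = w i0 i0 := by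
    intro j
    by_cases hj : j = i0
    · rw [hj]
    · exact heq j i0 hj
  have hscal : w = (w i0 i0) • (1 : Matrix (Fin n) (Fin n) F) := by
    ext i j
    by_cases hij : i = j
    · subst hij
      simp [hall i]
    · simp [Matrix.one_apply_ne hij, hoff j i hij]
  have hc0 : w i0 i0 ≠ 0 := by
    intro h0
    rw [h0, zero_smul] at hscal
    apply hw
    rw [hscal]
    haveI : Nonempty (Fin n) := ⟨i0⟩
    exact Matrix.det_zero
  refine ⟨⟨_, hscal⟩, ?_⟩
  intro a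
  obtain ⟨μ, hμ⟩ := hv (Pi.single i0 1 + Pi.single j0 a) (by
    intro h0
    have := congrFun h0 i0
    simp [Pi.single_eq_of_ne hij0] at this)
  have hi := congrFun hμ i0
  have hj := congrFun hμ j0
  rw [hdiag] at hi hj
  simp only [Pi.add_apply, Pi.single_eq_same, Pi.single_eq_of_ne hij0,
    Pi.single_eq_of_ne (Ne.symm hij0), add_zero, zero_add, map_one, mul_one, Pi.smul_apply,
    smul_eq_mul] at hi hj
  rw [hall j0, ← hi] at hj
  exact mul_left_cancel₀ hc0 hj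

/-- G-LIN-S -/
theorem lin_symp {F₀ : Type v} [Field F₀] (ι : F₀ →+* F) (h2 : (2 : F₀) ≠ 0)
    (hn : 3 ≤ n) (M₀ : Matrix (Fin n) (Fin n) F₀) (hM₀ : M₀ᵀ = -M₀) (hdet : M₀.det ≠ 0)
    (w : Matrix (Fin n) (Fin n) F) (hw : w.det ≠ 0) (τ : F ≃+* F)
    (h : ∀ S : Matrix (Fin n) (Fin n) F₀, S.det = 1 → Sᵀ * M₀ * S = M₀ →
      ∃ ζ : F, w * (S.map ι).map τ = ζ • (S.map ι * w)) :
    (∃ c : F, w = c • (1 : Matrix (Fin n) (Fin n) F)) ∧ ∀ y : F₀, τ (ι y) = ι y := by
  classical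
  have hne : Nonempty (Fin n) := ⟨⟨0, by omega⟩⟩
  refine rel_semilinear_scalar ι (by omega) w hw τ ?_
  intro v hv
  obtain ⟨l, hl⟩ : ∃ l : Fin n → F₀, l = M₀ *ᵥ v := ⟨_, rfl⟩
  have halt : l ⬝ᵥ v = 0 := by
    rw [hl]
    have e1 : (M₀ *ᵥ v) ⬝ᵥ v = v ⬝ᵥ (M₀ *ᵥ v) := dotProduct_comm _ _
    have e2 : v ⬝ᵥ (M₀ *ᵥ v) = (M₀ᵀ *ᵥ v) ⬝ᵥ v := by
      rw [Matrix.dotProduct_mulVec, Matrix.mulVec_transpose]
    rw [hM₀, Matrix.neg_mulVec, neg_dotProduct] at e2
    have e3 : (M₀ *ᵥ v) ⬝ᵥ v + (M₀ *ᵥ v) ⬝ᵥ v = 0 := by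
      nth_rewrite 1 [e1]
      rw [e2]; ring
    have e4 : (2 : F₀) * ((M₀ *ᵥ v) ⬝ᵥ v) = 0 := by rw [two_mul]; exact e3
    rcases mul_eq_zero.mp e4 with h | h
    · exact absurd h h2
    · exact h
  have hvM : v ᵥ* M₀ = -l := by
    rw [hl, ← Matrix.mulVec_transpose, hM₀, Matrix.neg_mulVec]
  have hl0 : l ≠ 0 := by
    intro h0
    rw [hl] at h0
    exact hv (Matrix.eq_zero_of_mulVec_eq_zero hdet h0)
  obtain ⟨k, hk⟩ : ∃ k, l k ≠ 0 := by
    by_contra hcon
    push Not at hcon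
    exact hl0 (funext hcon)
  have hdetS : (1 + vecMulVec v l).det = 1 := by
    rw [Matrix.vecMulVec_eq (Fin 1), Matrix.det_one_add_replicateCol_mul_replicateRow, halt,
      add_zero]
  have hpres : (1 + vecMulVec v l)ᵀ * M₀ * (1 + vecMulVec v l) = M₀ := by
    rw [Matrix.transpose_add, Matrix.transpose_one, Matrix.transpose_vecMulVec]
    rw [Matrix.add_mul, Matrix.one_mul, Matrix.mul_add, Matrix.mul_one, Matrix.add_mul,
      Matrix.vecMulVec_mul, hvM, Matrix.mul_vecMulVec, ← hl, Matrix.vecMulVec_mul_vecMulVec,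
      neg_dotProduct, halt, neg_zero, zero_smul, Matrix.vecMulVec_zero, Matrix.vecMulVec_neg]
    abel
  obtain ⟨ζ, hζ⟩ := h _ hdetS hpres
  have hmapι : (1 + vecMulVec v l).map ι =
      1 + vecMulVec (fun i => ι (v i)) (fun i => ι (l i)) := by
    ext i j
    simp only [Matrix.map_apply, Matrix.add_apply, Matrix.vecMulVec_apply, map_add, map_mul]
    by_cases hij : i = j
    · subst hij; simp
    · simp [Matrix.one_apply_ne hij]
  have hmapτ : (1 + vecMulVec (fun i => ι (v i)) (fun i => ι (l i))).map τ =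
      1 + vecMulVec (fun i => τ (ι (v i))) (fun i => τ (ι (l i))) := by
    ext i j
    simp only [Matrix.map_apply, Matrix.add_apply, Matrix.vecMulVec_apply, map_add, map_mul]
    by_cases hij : i = j
    · subst hij; simp
    · simp [Matrix.one_apply_ne hij]
  rw [hmapι, hmapτ] at hζ
  have hιdot : (fun i => ι (l i)) ⬝ᵥ (fun i => ι (v i)) = 0 := by
    have : (fun i => ι (l i)) ⬝ᵥ (fun i => ι (v i)) = ι (l ⬝ᵥ v) := by
      simp only [dotProduct, map_sum, map_mul]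
    rw [this, halt, map_zero]
  have hτdot : (fun i => τ (ι (l i))) ⬝ᵥ (fun i => τ (ι (v i))) = 0 := by
    have : (fun i => τ (ι (l i))) ⬝ᵥ (fun i => τ (ι (v i))) = τ (ι (l ⬝ᵥ v)) := by
      simp only [dotProduct, map_sum, map_mul]
    rw [this, halt, map_zero, map_zero]
  obtain ⟨N', hN'⟩ : ∃ N' : Matrix (Fin n) (Fin n) F,
      N' = vecMulVec (fun i => ι (v i)) (fun i => ι (l i)) := ⟨_, rfl⟩
  obtain ⟨N'', hN''⟩ : ∃ N'' : Matrix (Fin n) (Fin n) F,
      N'' = vecMulVec (fun i => τ (ι (v i))) (fun i => τ (ι (l i))) := ⟨_, rfl⟩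
  have hNN' : N' * N' = 0 := by
    rw [hN', Matrix.vecMulVec_mul_vecMulVec, hιdot, zero_smul, Matrix.vecMulVec_zero]
  have hNN'' : N'' * N'' = 0 := by
    rw [hN'', Matrix.vecMulVec_mul_vecMulVec, hτdot, zero_smul, Matrix.vecMulVec_zero]
  rw [← hN', ← hN''] at hζ
  have hwu : IsUnit w.det := hw.isUnit
  have hinv : w⁻¹ * w = 1 := Matrix.nonsing_inv_mul w hwu
  have hinv' : w * w⁻¹ = 1 := Matrix.mul_nonsing_inv w hwu
  have hc' : (1 + N'') = ζ • (1 + w⁻¹ * N' * w) := by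
    have e1 : w⁻¹ * (w * (1 + N'')) = w⁻¹ * (ζ • ((1 + N') * w)) := by rw [hζ]
    rw [← Matrix.mul_assoc, hinv, Matrix.one_mul, Matrix.mul_smul, Matrix.add_mul, Matrix.one_mul,
      Matrix.mul_add, hinv, ← Matrix.mul_assoc] at e1
    exact e1
  have hTT : (w⁻¹ * N' * w) * (w⁻¹ * N' * w) = 0 := by
    have e2 : (w⁻¹ * N' * w) * (w⁻¹ * N' * w) = w⁻¹ * (N' * (w * w⁻¹) * N') * w := by
      simp only [Matrix.mul_assoc]
    rw [e2, hinv', Matrix.mul_one, hNN', Matrix.mul_zero, Matrix.zero_mul]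
  have hXX : ((1 + N'') - 1) * ((1 + N'') - 1) = 0 := by
    rw [add_sub_cancel_left]; exact hNN''
  have hc1 : ζ = 1 := Cfsg.Agent.Lib.helper61.S2686.sc_scalar_one hXX hTT hc'
  rw [hc1, one_smul] at hc'
  have hN : N'' = w⁻¹ * N' * w := add_left_cancel hc'
  have hNh : w * N'' = N' * w := by
    rw [hN, ← Matrix.mul_assoc, ← Matrix.mul_assoc, hinv', Matrix.one_mul]
  have h3 : (w * N'') *ᵥ (Pi.single k (τ (ι (l k)))⁻¹ : Fin n → F) =
      (N' * w) *ᵥ (Pi.single k (τ (ι (l k)))⁻¹ : Fin n → F) := by rw [hNh]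
  rw [← Matrix.mulVec_mulVec, ← Matrix.mulVec_mulVec, hN'', Matrix.vecMulVec_mulVec, hN',
    Matrix.vecMulVec_mulVec] at h3
  have h4 : (fun i => τ (ι (l i))) ⬝ᵥ (Pi.single k (τ (ι (l k)))⁻¹ : Fin n → F) = 1 := by
    rw [dotProduct_single]
    exact mul_inv_cancel₀ (fun h0 => hk ((map_eq_zero ι).mp ((map_eq_zero τ).mp h0)))
  rw [h4] at h3
  refine ⟨(fun i => ι (l i)) ⬝ᵥ (w *ᵥ (Pi.single k (τ (ι (l k)))⁻¹ : Fin n → F)), ?_⟩
  have h5 : (MulOpposite.op (1 : F)) • (fun i => τ (ι (v i))) = fun i => τ (ι (v i)) := by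
    funext i
    simp
  rw [h5] at h3
  rw [h3]
  funext i
  simp [mul_comm]

end Cfsg.Agent.Lib.helper83.S2687
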