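/-
Piece P7 of the split plan for statement S3366: a complement of order 24 to `R` inside the
centraliser of the involution `t`.
-/
import Mathlib
import Cfsg.Agent.Lib.helper6.S3366Defs

set_option autoImplicit false
set_option linter.unusedVariables false
set_option linter.unusedSimpArgs false
set_option linter.unusedTactic false
set_option linter.unreachableTactic false
set_option linter.style.longLine false

namespace Cfsg.Agent.Lib.helper83.S3366

open Cfsg.Agent.Lib.helper6.S3366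

variable {X : Type*} [Group X] [Finite X] {R : Subgroup X} {π : X →* SL23} {z : X}

theorem sl23_pow_eight : ∀ A : SL23, A ^ 8 = 1 → A ^ 4 = 1 := by decide +kernel

theorem sl23_card_pow_four :
    (Finset.univ.filter (fun A : SL23 => A ^ 4 = 1)).card = 8 := by decide +kernel

theorem sl23_neg_conj : ∀ A : SL23, (-1 : SL23) * (A * (-1) * A⁻¹) = 1 := by decide +kernel

/-- P7 -/
theorem exists_compl (S : Setting X R π z) (hz : ∀ g : X, g * z = z * g)
    (t : X) (ht2 : t ^ 2 = 1) (htπ : π t = -1)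
    (htD : ∀ r ∈ R, t * r = r * t → r ∈ Subgroup.zpowers z)
    (s : X) (hs3 : s ^ 3 = 1) (hsR : s ∉ R) (hst : s * t = t * s) :
    ∃ L : Subgroup X, (∀ l ∈ L, l * t = t * l) ∧ (∀ l ∈ L, l ∈ R → l = 1) ∧ Nat.card L = 24 := by
  classical
  haveI : Fact (Nat.Prime 2) := ⟨Nat.prime_two⟩
  haveI : Fact (Nat.Prime 3) := ⟨Nat.prime_three⟩
  have htt : t * t = 1 := by
    rw [← pow_two]
    exact ht2
  have hZc : ∀ r ∈ Subgroup.zpowers z, ∀ g : X, g * r = r * g := by
    intro r hr
    have hle : Subgroup.zpowers z ≤ Subgroup.center X :=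
      (Subgroup.zpowers_le).mpr (Subgroup.mem_center_iff.mpr hz)
    exact Subgroup.mem_center_iff.mp (hle hr)
  have hZR : ∀ r ∈ Subgroup.zpowers z, r ∈ R := fun r hr =>
    ((Subgroup.zpowers_le).mpr S.zmem) hr
  have hZ3 : ∀ r ∈ Subgroup.zpowers z, r ^ 3 = 1 := fun r hr => S.exp r (hZR r hr)
  have hCR : ∀ c : X, c * t = t * c → π c = 1 → c ∈ Subgroup.zpowers z := by
    intro c hc hπ
    exact htD c ((S.ker c).mp hπ) hc.symm
  -- the centraliser of `t` maps onto `SL23`
  have hsurj : ∀ A : SL23, ∃ c : X, c * t = t * c ∧ π c = A := by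
    intro A
    obtain ⟨g, rfl⟩ := S.surj A
    obtain ⟨q, hq⟩ : ∃ q : X, q = t * (g * t * g⁻¹) := ⟨_, rfl⟩
    have hqR : q ∈ R := by
      rw [← S.ker, hq]
      simp only [map_mul, map_inv, htπ]
      exact sl23_neg_conj (π g)
    have hq3 : q ^ 3 = 1 := S.exp q hqR
    have e1 : g * t = t * q * g := by
      rw [hq, ← mul_assoc t t, htt, one_mul, inv_mul_cancel_right]
    have e2 : q * t * q = t := by
      have h1 : g * t * g⁻¹ = t * q := mul_inv_eq_iff_eq_mul.mpr e1
      have h2 : t * q * (t * q) = 1 := by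
        rw [← h1]
        calc g * t * g⁻¹ * (g * t * g⁻¹) = g * (t * t) * g⁻¹ := by group
          _ = 1 := by rw [htt]; group
      have h3 : t * (q * t * q) = 1 := by
        rw [← h2]
        group
      have h4 := eq_inv_of_mul_eq_one_right h3
      rw [h4]
      exact inv_eq_of_mul_eq_one_right htt
    refine ⟨q⁻¹ * g, ?_, ?_⟩
    · have e3 : q⁻¹ * t * q = t * q⁻¹ := by
        have h5 : t * q⁻¹ = q * t := by
          rw [mul_inv_eq_iff_eq_mul]
          exact e2.symm
        have h6 : q⁻¹ * t * q = q * t := by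
          rw [mul_assoc, inv_mul_eq_iff_eq_mul]
          have h7 : t * q = q⁻¹ * t := by
            rw [eq_inv_mul_iff_mul_eq, ← mul_assoc]
            exact e2
          rw [h7, inv_mul_eq_iff_eq_mul]
          have h8 : q * (q * (q * t)) = q ^ 3 * t := by
            rw [pow_succ, pow_two]
            simp only [mul_assoc]
          rw [h8, hq3, one_mul]
        rw [h5, h6]
      calc q⁻¹ * g * t = q⁻¹ * (g * t) := by group
        _ = q⁻¹ * (t * q * g) := by rw [e1]
        _ = (q⁻¹ * t * q) * g := by group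
        _ = t * q⁻¹ * g := by rw [e3]
        _ = t * (q⁻¹ * g) := by group
    · rw [map_mul, map_inv, (S.ker q).mpr hqR, inv_one, one_mul]
  obtain ⟨C, hCdef⟩ : ∃ C : Subgroup X, C = Subgroup.centralizer ({t} : Set X) := ⟨_, rfl⟩
  have hCmem : ∀ c : X, c ∈ C ↔ c * t = t * c := by
    intro c
    rw [hCdef, Subgroup.mem_centralizer_iff]
    constructor
    · intro h
      exact (h t rfl).symm
    · intro h y hy
      rw [Set.mem_singleton_iff.mp hy]
      exact h.symm
  have h8C : 2 ^ 3 ∣ Nat.card C := by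
    have hf : Function.Surjective (π.comp C.subtype) := by
      intro A
      obtain ⟨c, hc, hπ⟩ := hsurj A
      exact ⟨⟨c, (hCmem c).mpr hc⟩, hπ⟩
    have h24 := Subgroup.card_dvd_of_surjective (π.comp C.subtype) hf
    rw [card_SL23] at h24
    exact Dvd.dvd.trans (by norm_num) h24
  obtain ⟨K, hK⟩ := Sylow.exists_subgroup_card_pow_prime 2 h8C
  obtain ⟨T, hTdef⟩ : ∃ T : Subgroup X, T = K.map C.subtype := ⟨_, rfl⟩
  have hT8 : Nat.card T = 8 := by
    rw [hTdef, Subgroup.card_map_of_injective (Subgroup.subtype_injective C), hK]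
    norm_num
  have hTC : T ≤ C := by
    rw [hTdef]
    exact Subgroup.map_subtype_le K
  have hTsub : ∀ c ∈ T, c * t = t * c ∧ c ^ 4 = 1 := by
    intro c hc
    have hct := (hCmem c).mp (hTC hc)
    refine ⟨hct, ?_⟩
    have h8 : c ^ 8 = 1 := by
      have h := pow_card_eq_one' (G := T) (x := ⟨c, hc⟩)
      rw [hT8] at h
      have h2 := congrArg Subtype.val h
      rw [SubmonoidClass.coe_pow] at h2
      exact h2
    have hπ4 : π (c ^ 4) = 1 := by
      rw [map_pow]
      apply sl23_pow_eight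
      rw [← map_pow, h8, map_one]
    have hc4t : c ^ 4 * t = t * c ^ 4 := (Commute.pow_left (show Commute c t from hct) 4).eq
    have hcZ := hCR (c ^ 4) hc4t hπ4
    have h3 := hZ3 _ hcZ
    have h2 : (c ^ 4) ^ 2 = 1 := by
      rw [← pow_mul]
      exact h8
    calc c ^ 4 = (c ^ 4) ^ 3 * ((c ^ 4) ^ 2)⁻¹ := by group
      _ = 1 := by rw [h3, h2]; simp
  have hQ4 : {c : X | c * t = t * c ∧ c ^ 4 = 1}.ncard ≤ 8 := by
    rw [← sl23_card_pow_four, ← Set.ncard_coe_finset]
    apply Set.ncard_le_ncard_of_injOn (fun c => π c)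
    · intro c hc
      simp only [Finset.coe_filter, Finset.mem_univ, true_and, Set.mem_setOf_eq]
      rw [← map_pow, hc.2, map_one]
    · intro c hc c' hc' heq
      have heq' : π c = π c' := heq
      obtain ⟨r, hr⟩ : ∃ r : X, r = c⁻¹ * c' := ⟨_, rfl⟩
      have hcr : c' = c * r := by
        rw [hr]
        group
      have hπr : π r = 1 := by
        rw [hr, map_mul, map_inv, heq', inv_mul_cancel]
      have hrt : r * t = t * r := by
        rw [hr]
        exact ((Commute.inv_left (show Commute c t from hc.1)).mul_left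
          (show Commute c' t from hc'.1)).eq
      have hrZ := hCR r hrt hπr
      have hr3 := hZ3 r hrZ
      have hrc : Commute c r := hZc r hrZ c
      have h4 : (c * r) ^ 4 = c ^ 4 * r ^ 4 := hrc.mul_pow 4
      have h5 : c' ^ 4 = 1 := hc'.2
      rw [hcr, h4, hc.2, one_mul] at h5
      have hr1 : r = 1 := by
        calc r = r ^ 4 * (r ^ 3)⁻¹ := by group
          _ = 1 := by rw [h5, hr3]; simp
      rw [hcr, hr1, mul_one]
  have hTQ : (T : Set X) = {c : X | c * t = t * c ∧ c ^ 4 = 1} := by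
    apply Set.eq_of_subset_of_ncard_le (fun c hc => hTsub c hc)
    · have h8 : (T : Set X).ncard = 8 := by
        rw [← Nat.card_coe_set_eq]
        exact hT8
      rw [h8]
      exact hQ4
  have hTiff : ∀ c : X, c ∈ T ↔ (c * t = t * c ∧ c ^ 4 = 1) := by
    intro c
    have h : c ∈ (T : Set X) ↔ c ∈ {c : X | c * t = t * c ∧ c ^ 4 = 1} := by rw [hTQ]
    exact h
  have hsC : Subgroup.zpowers s ≤ C := (Subgroup.zpowers_le).mpr ((hCmem s).mpr hst)
  have hnorm : ∀ u ∈ Subgroup.zpowers s, ∀ q ∈ T, u * q * u⁻¹ ∈ T := by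
    intro u hu q hq
    rw [hTiff]
    have hut : Commute u t := (hCmem u).mp (hsC hu)
    have hqt : Commute q t := ((hTiff q).mp hq).1
    refine ⟨((hut.mul_left hqt).mul_left hut.inv_left).eq, ?_⟩
    rw [conj_pow, ((hTiff q).mp hq).2, mul_one, mul_inv_cancel]
  have hs1 : s ≠ 1 := by
    intro h
    apply hsR
    rw [h]
    exact R.one_mem
  have hos : orderOf s = 3 := orderOf_eq_prime hs3 hs1
  have hπs1 : π s ≠ 1 := fun h => hsR ((S.ker s).mp h)
  have hu3 : ∀ u ∈ Subgroup.zpowers s, u ^ 3 = 1 := by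
    intro u hu
    obtain ⟨k, rfl⟩ := Subgroup.mem_zpowers_iff.mp hu
    rw [← zpow_natCast, ← zpow_mul, mul_comm, zpow_mul, zpow_natCast, hs3, one_zpow]
  have huR : ∀ u ∈ Subgroup.zpowers s, π u = 1 → u = 1 := by
    intro u hu hπ
    obtain ⟨k, rfl⟩ := Subgroup.mem_zpowers_iff.mp hu
    have hoπ : orderOf (π s) = 3 :=
      orderOf_eq_prime (by rw [← map_pow, hs3, map_one]) hπs1
    rw [map_zpow] at hπ
    have h3k : ((orderOf (π s) : ℕ) : ℤ) ∣ k := orderOf_dvd_iff_zpow_eq_one.mpr hπ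
    rw [hoπ] at h3k
    have h3k' : ((orderOf s : ℕ) : ℤ) ∣ k := by
      rw [hos]
      exact h3k
    exact orderOf_dvd_iff_zpow_eq_one.mp h3k'
  obtain ⟨L, hL⟩ : ∃ L : Subgroup X, ∀ x, x ∈ L ↔
      ∃ q ∈ T, ∃ u ∈ Subgroup.zpowers s, x = q * u :=
    ⟨{ carrier := {x | ∃ q ∈ T, ∃ u ∈ Subgroup.zpowers s, x = q * u}
       mul_mem' := by
         rintro x y ⟨q, hq, u, hu, rfl⟩ ⟨q', hq', u', hu', rfl⟩
         refine ⟨q * (u * q' * u⁻¹), T.mul_mem hq (hnorm u hu q' hq'), u * u',
           (Subgroup.zpowers s).mul_mem hu hu', ?_⟩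
         group
       one_mem' := ⟨1, T.one_mem, 1, (Subgroup.zpowers s).one_mem, by simp⟩
       inv_mem' := by
         rintro x ⟨q, hq, u, hu, rfl⟩
         refine ⟨u⁻¹ * q⁻¹ * u⁻¹⁻¹,
           hnorm u⁻¹ ((Subgroup.zpowers s).inv_mem hu) q⁻¹ (T.inv_mem hq), u⁻¹,
           (Subgroup.zpowers s).inv_mem hu, ?_⟩
         group }, fun x => Iff.rfl⟩
  have hLR : ∀ l ∈ L, l ∈ R → l = 1 := by
    intro l hl hlR
    obtain ⟨q, hq, u, hu, rfl⟩ := (hL l).mp hl
    have hπ : π q * π u = 1 := by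
      rw [← map_mul]
      exact (S.ker _).mpr hlR
    have hq4 : q ^ 4 = 1 := ((hTiff q).mp hq).2
    have hπq4 : π q ^ 4 = 1 := by rw [← map_pow, hq4, map_one]
    have hπu3 : π u ^ 3 = 1 := by rw [← map_pow, hu3 u hu, map_one]
    have hπq : π q = (π u)⁻¹ := eq_inv_of_mul_eq_one_left hπ
    have hπq3 : π q ^ 3 = 1 := by rw [hπq, inv_pow, hπu3, inv_one]
    have hπq1 : π q = 1 := by
      calc π q = π q ^ 4 * (π q ^ 3)⁻¹ := by group
        _ = 1 := by rw [hπq4, hπq3]; simp
    have hqR : q ∈ R := (S.ker q).mp hπq1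
    have hq3 : q ^ 3 = 1 := S.exp q hqR
    have hq1 : q = 1 := by
      calc q = q ^ 4 * (q ^ 3)⁻¹ := by group
        _ = 1 := by rw [hq4, hq3]; simp
    have hπu1 : π u = 1 := by
      rw [hπq1, one_mul] at hπ
      exact hπ
    rw [hq1, huR u hu hπu1, one_mul]
  refine ⟨L, ?_, hLR, ?_⟩
  · intro l hl
    obtain ⟨q, hq, u, hu, rfl⟩ := (hL l).mp hl
    have hut : Commute u t := (hCmem u).mp (hsC hu)
    have hqt : Commute q t := ((hTiff q).mp hq).1
    exact (hqt.mul_left hut).eq
  · have hTL : T ≤ L := fun q hq =>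
      (hL q).mpr ⟨q, hq, 1, (Subgroup.zpowers s).one_mem, (mul_one q).symm⟩
    have hsL : Subgroup.zpowers s ≤ L := fun u hu =>
      (hL u).mpr ⟨1, T.one_mem, u, hu, (one_mul u).symm⟩
    have h8 : 8 ∣ Nat.card L := by
      have h := Subgroup.card_dvd_of_le hTL
      rwa [hT8] at h
    have h3 : 3 ∣ Nat.card L := by
      have h := Subgroup.card_dvd_of_le hsL
      rwa [Nat.card_zpowers, hos] at h
    have h24 : 24 ∣ Nat.card L := by
      have h : (8 * 3) ∣ Nat.card L :=
        Nat.Coprime.mul_dvd_of_dvd_of_dvd (by norm_num) h8 h3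
      exact h
    have hle : Nat.card L ≤ 24 := by
      rw [← card_SL23]
      apply Nat.card_le_card_of_injective (fun l : L => π (l : X))
      intro l l' heq
      have heq' : π (l : X) = π (l' : X) := heq
      have h1 : π ((l : X)⁻¹ * (l' : X)) = 1 := by
        rw [map_mul, map_inv, heq', inv_mul_cancel]
      have h2 := hLR _ (L.mul_mem (L.inv_mem l.2) l'.2) ((S.ker _).mp h1)
      exact Subtype.ext (inv_mul_eq_one.mp h2)
    have hpos : 0 < Nat.card L := Nat.card_pos
    exact Nat.le_antisymm hle (Nat.le_of_dvd hpos h24)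

end Cfsg.Agent.Lib.helper83.S3366
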