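import Mathlib

/-!
# S4067 piece C3a: existence of a non-commuting pair of elements with centralizers of index `p`
-/

set_option autoImplicit false
set_option linter.unusedVariables false
set_option linter.unusedSectionVars false
set_option linter.style.longLine false

namespace Cfsg.Agent.Lib.helper83.S4067

open Subgroup MulAction

variable {G : Type*} [Group G] [Finite G]

theorem c3a_card_ne_one (hna : ¬ IsMulCommutative G) : Nat.card G ≠ 1 := by
  intro h1
  apply hna
  have hsub : Subsingleton G := (Nat.card_eq_one_iff_unique.mp h1).1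
  exact ⟨⟨fun a b => Subsingleton.elim _ _⟩⟩

/-- Local copy of piece J: `p ^ 2 ≤ |G : Z(G)|` for a non-commutative group. -/
theorem c3a_sq_minFac_le_index_center (hna : ¬ IsMulCommutative G) :
    (Nat.card G).minFac ^ 2 ≤ (center G).index := by
  by_contra hlt
  push_neg at hlt
  have hn1 : Nat.card G ≠ 1 := c3a_card_ne_one hna
  have hp : (Nat.card G).minFac.Prime := Nat.minFac_prime hn1
  have hjn : (center G).index ∣ Nat.card G := Subgroup.index_dvd_card _
  have hj1 : (center G).index ≠ 1 := by
    intro h1
    apply hna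
    rw [Subgroup.index_eq_one] at h1
    refine ⟨⟨fun a b => ?_⟩⟩
    have hb : b ∈ center G := by rw [h1]; exact Subgroup.mem_top b
    exact (Subgroup.mem_center_iff.mp hb a)
  have hj0 : (center G).index ≠ 0 := Subgroup.index_ne_zero_of_finite
  have hcard : Nat.card (G ⧸ center G) = (center G).index := rfl
  obtain ⟨j, hj⟩ : ∃ j, j = (center G).index := ⟨_, rfl⟩
  rw [← hj] at hlt hjn hj1 hj0 hcard
  have hq : j.minFac.Prime := Nat.minFac_prime hj1
  obtain ⟨m, hm⟩ := Nat.minFac_dvd j
  have hqp : (Nat.card G).minFac ≤ j.minFac :=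
    Nat.minFac_le_of_dvd hq.two_le ((Nat.minFac_dvd j).trans hjn)
  have hm0 : m ≠ 0 := by
    rintro rfl
    rw [mul_zero] at hm
    exact hj0 hm
  by_cases hm1 : m = 1
  · rw [hm1, mul_one] at hm
    have hjp : j.Prime := by
      rw [hm]
      exact hq
    apply hna
    haveI : Fact j.Prime := ⟨hjp⟩
    haveI : IsCyclic (G ⧸ center G) := isCyclic_of_prime_card hcard
    refine ⟨⟨fun a b => ?_⟩⟩
    exact commutative_of_cyclic_center_quotient (QuotientGroup.mk' (center G))
      (by rw [QuotientGroup.ker_mk']) a b
  · have hm2 : 2 ≤ m := by omega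
    have hmn : m ∣ Nat.card G := (Dvd.intro_left _ hm.symm).trans hjn
    have hmp : (Nat.card G).minFac ≤ m := Nat.minFac_le_of_dvd hm2 hmn
    have h9 : (Nat.card G).minFac ^ 2 ≤ j := by
      rw [hm, pow_two]
      exact Nat.mul_le_mul hqp hmp
    omega

theorem c3a_card_compl (q : G → Prop) :
    Nat.card {a // q a} + Nat.card {a // ¬ q a} = Nat.card G := by
  classical
  rw [← Nat.card_sum]
  exact Nat.card_congr (Equiv.sumCompl q)

/-- C3a -/
theorem exists_small_pair (hna : ¬ IsMulCommutative G)
    (hb : Nat.card {g : G // (Nat.card G).minFac < (centralizer ({g} : Set G)).index}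
      < ((Nat.card G).minFac ^ 2 - 1) * Nat.card (center G)) :
    ∃ x y : G, x * y ≠ y * x ∧
      (centralizer ({x} : Set G)).index = (Nat.card G).minFac ∧
      (centralizer ({y} : Set G)).index = (Nat.card G).minFac := by
  classical
  have hJ := c3a_sq_minFac_le_index_center hna
  have hn1 : Nat.card G ≠ 1 := c3a_card_ne_one hna
  have hpr : (Nat.card G).minFac.Prime := Nat.minFac_prime hn1
  have hdvd : ∀ k : ℕ, 2 ≤ k → k ∣ Nat.card G → (Nat.card G).minFac ≤ k :=
    fun k hk hkd => Nat.minFac_le_of_dvd hk hkd
  obtain ⟨p, hpdef⟩ : ∃ p, p = (Nat.card G).minFac := ⟨_, rfl⟩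
  rw [← hpdef] at hb hJ hpr hdvd ⊢
  obtain ⟨z, hz⟩ : ∃ z, z = Nat.card (center G) := ⟨_, rfl⟩
  obtain ⟨n, hn⟩ : ∃ n, n = Nat.card G := ⟨_, rfl⟩
  rw [← hz] at hb
  have hzpos : 0 < z := by
    rw [hz]
    exact Nat.card_pos
  have hzj : z * (center G).index = n := by
    rw [hz, hn]
    exact Subgroup.card_mul_index _
  have hp2 : 2 ≤ p := hpr.two_le
  have h3 : (p ^ 2 - 1) * z = p ^ 2 * z - z := by
    rw [Nat.sub_mul, one_mul]
  -- F1
  have hF1 : ∀ g : G, g ∉ center G → p ≤ (centralizer ({g} : Set G)).index := by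
    intro g hg
    apply hdvd _ _ (Subgroup.index_dvd_card _)
    have h0 : (centralizer ({g} : Set G)).index ≠ 0 := Subgroup.index_ne_zero_of_finite
    have h1 : (centralizer ({g} : Set G)).index ≠ 1 := by
      intro h1
      rw [Subgroup.index_eq_one] at h1
      apply hg
      rw [Subgroup.mem_center_iff]
      intro a
      have ha : a ∈ centralizer ({g} : Set G) := by
        rw [h1]
        exact Subgroup.mem_top a
      rw [Subgroup.mem_centralizer_iff] at ha
      exact (ha g rfl).symm
    omega
  have hrel : ∀ g : G, g ∉ center G →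
      p ≤ (center G).relIndex (centralizer ({g} : Set G)) ∧
      (center G).relIndex (centralizer ({g} : Set G)) * (centralizer ({g} : Set G)).index
        = (center G).index := by
    intro g hg
    refine ⟨?_, Subgroup.relIndex_mul_index (Subgroup.center_le_centralizer _)⟩
    apply hdvd _ _ ((Subgroup.relIndex_dvd_card _ _).trans (Subgroup.card_subgroup_dvd_card _))
    have h0 : (center G).relIndex (centralizer ({g} : Set G)) ≠ 0 :=
      Subgroup.index_ne_zero_of_finite
    have h1 : (center G).relIndex (centralizer ({g} : Set G)) ≠ 1 := by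
      intro h1
      rw [Subgroup.relIndex_eq_one] at h1
      apply hg
      apply h1
      rw [Subgroup.mem_centralizer_iff]
      intro h hh
      rw [Set.mem_singleton_iff] at hh
      rw [hh]
    omega
  -- Step 1: some `x` has index `p`
  have hex : ∃ x : G, (centralizer ({x} : Set G)).index = p := by
    by_contra hno
    push_neg at hno
    have hbig : ∀ g : G, g ∉ center G → p < (centralizer ({g} : Set G)).index :=
      fun g hg => lt_of_le_of_ne (hF1 g hg) (Ne.symm (hno g))
    have h1 : Nat.card {g : G // g ∉ center G}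
        ≤ Nat.card {g : G // p < (centralizer ({g} : Set G)).index} :=
      Nat.card_le_card_of_injective (fun g => ⟨g.1, hbig g.1 g.2⟩)
        (fun a b h => Subtype.ext (congrArg (fun t => t.1) h))
    have h2 := c3a_card_compl (fun g : G => g ∈ center G)
    have h2' : z + Nat.card {g : G // g ∉ center G} = n := by
      rw [hz, hn]
      exact h2
    have h4 : p ^ 2 * z ≤ n := by
      rw [← hzj, mul_comm]
      exact Nat.mul_le_mul_left z hJ
    omega
  obtain ⟨x, hx⟩ := hex
  have hxZ : x ∉ center G := by
    intro hxz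
    have h1 : centralizer ({x} : Set G) = ⊤ := by
      rw [eq_top_iff]
      intro a _
      rw [Subgroup.mem_centralizer_iff]
      intro h hh
      rw [Set.mem_singleton_iff] at hh
      rw [hh]
      exact (Subgroup.mem_center_iff.mp hxz a).symm
    rw [← Subgroup.index_eq_one, hx] at h1
    omega
  by_contra hno
  push_neg at hno
  have hbig : ∀ y : G, y ∉ centralizer ({x} : Set G) →
      p < (centralizer ({y} : Set G)).index := by
    intro y hy
    have hyZ : y ∉ center G := fun h => hy (Subgroup.center_le_centralizer _ h)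
    have hxy : x * y ≠ y * x := by
      intro h
      apply hy
      rw [Subgroup.mem_centralizer_iff]
      intro h' hh'
      rw [Set.mem_singleton_iff] at hh'
      rw [hh']
      exact h
    exact lt_of_le_of_ne (hF1 y hyZ) (Ne.symm (hno x y hxy hx))
  obtain ⟨c, hc⟩ : ∃ c, c = Nat.card (centralizer ({x} : Set G)) := ⟨_, rfl⟩
  have hcp : c * p = n := by
    rw [hc, ← hx, hn]
    exact Subgroup.card_mul_index _
  have hcount : Nat.card {g : G // g ∉ centralizer ({x} : Set G)}
      ≤ Nat.card {g : G // p < (centralizer ({g} : Set G)).index} :=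
    Nat.card_le_card_of_injective (fun g => ⟨g.1, hbig g.1 g.2⟩)
      (fun a b h => Subtype.ext (congrArg (fun t => t.1) h))
  have h2 := c3a_card_compl (fun g : G => g ∈ centralizer ({x} : Set G))
  have h2' : c + Nat.card {g : G // g ∉ centralizer ({x} : Set G)} = n := by
    rw [hc, hn]
    exact h2
  obtain ⟨hmp, hmj⟩ := hrel x hxZ
  obtain ⟨m, hmdef⟩ : ∃ m, m = (center G).relIndex (centralizer ({x} : Set G)) := ⟨_, rfl⟩
  rw [← hmdef] at hmp hmj
  rw [hx] at hmj
  have hcm : c = z * m := by
    have h5 : c * p = (z * m) * p := by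
      rw [hcp, ← hzj, ← hmj]
      ring
    exact Nat.eq_of_mul_eq_mul_right hpr.pos h5
  have hmle : m ≤ p := by
    by_contra hlt
    push_neg at hlt
    have h6 : n = z * m * p := by
      rw [← hcp, hcm]
    have h7 : p ^ 2 * z + c ≤ n + z := by
      rw [h6, hcm]
      obtain ⟨d, rfl⟩ := Nat.exists_eq_add_of_le hlt
      obtain ⟨e, rfl⟩ := Nat.exists_eq_add_of_le hp2
      nlinarith [Nat.zero_le (z * d * e), Nat.zero_le (z * d)]
    omega
  have hmeq : m = p := le_antisymm hmle hmp
  have hCne : centralizer ({x} : Set G) ≠ ⊤ := by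
    intro h
    rw [← Subgroup.index_eq_one, hx] at h
    omega
  obtain ⟨y, hy⟩ : ∃ y, y ∉ centralizer ({x} : Set G) := by
    by_contra hall
    push_neg at hall
    exact hCne (eq_top_iff.mpr (fun g _ => hall g))
  have hyZ : y ∉ center G := fun h => hy (Subgroup.center_le_centralizer _ h)
  obtain ⟨hmp', hmj'⟩ := hrel y hyZ
  have hyb := hbig y hy
  have hjpp : (center G).index = p * p := by
    rw [← hmj, hmeq]
  rw [hjpp] at hmj'
  nlinarith

end Cfsg.Agent.Lib.helper83.S4067
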