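import Mathlib
import Cfsg.Agent.Lib.helper26.S4409Defs

/-!
S4409 split (helper26): racer copies of the pieces KFN3 and KFN4 (prefixed names).
-/

set_option autoImplicit false
set_option linter.unusedVariables false
set_option linter.unusedSectionVars false
set_option linter.style.longLine false

namespace Cfsg.Agent.Lib.helper26.S4409

variable {G : Type*} [Group G]

theorem h83_kfn3 [Finite G] (Y : Subgroup G) (h2 : IsPGroup 2 (MulAut ↥Y)) (g : G)
    (hg : g ∈ Subgroup.normalizer (Y : Set G)) (hodd : Odd (orderOf g)) :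
    g ∈ Subgroup.centralizer (Y : Set G) := by
  have h1 : (Y.normalizerMonoidHom ⟨g, hg⟩) ^ orderOf g = 1 := by
    rw [← map_pow]
    have : (⟨g, hg⟩ : ↥(Subgroup.normalizer (Y : Set G))) ^ orderOf g = 1 := by
      apply Subtype.ext
      simp [pow_orderOf_eq_one]
    rw [this, map_one]
  obtain ⟨k, hk⟩ := h2 (Y.normalizerMonoidHom ⟨g, hg⟩)
  have hd1 : orderOf (Y.normalizerMonoidHom ⟨g, hg⟩) ∣ orderOf g := orderOf_dvd_of_pow_eq_one h1
  have hd2 : orderOf (Y.normalizerMonoidHom ⟨g, hg⟩) ∣ 2 ^ k := orderOf_dvd_of_pow_eq_one hk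
  have hcop : Nat.Coprime (orderOf g) (2 ^ k) :=
    Nat.Coprime.pow_right k (Nat.Coprime.symm (Nat.coprime_two_left.mpr hodd))
  have h3 : orderOf (Y.normalizerMonoidHom ⟨g, hg⟩) = 1 :=
    Nat.eq_one_of_dvd_coprimes hcop hd1 hd2
  have h4 : (⟨g, hg⟩ : ↥(Subgroup.normalizer (Y : Set G))) ∈ Y.normalizerMonoidHom.ker := by
    rw [MonoidHom.mem_ker]
    exact orderOf_eq_one_iff.mp h3
  rw [Subgroup.normalizerMonoidHom_ker, Subgroup.mem_subgroupOf] at h4
  exact h4

theorem h83_kfn4 (Y : Subgroup G) (hN : NoP Y) :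
    ∀ A : Subgroup ↥Y, IsMulCommutative ↥A → Nat.card ↥A = 8 → IsCyclic ↥A := by
  intro A hA h8
  have e : ↥A ≃* ↥(A.map Y.subtype) := A.equivMapOfInjective Y.subtype Y.subtype_injective
  have hle : A.map Y.subtype ≤ Y := by
    rintro _ ⟨a, -, rfl⟩
    exact a.2
  have hcomm : IsMulCommutative ↥(A.map Y.subtype) := by
    refine ⟨⟨fun a b => ?_⟩⟩
    have h := hA.is_comm.comm (e.symm a) (e.symm b)
    have h' := congrArg e h
    simpa using h'
  have hcard : Nat.card ↥(A.map Y.subtype) = 8 := by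
    rw [← Nat.card_congr e.toEquiv]; exact h8
  haveI := hN _ hle hcomm hcard
  exact isCyclic_of_surjective e.symm e.symm.surjective

end Cfsg.Agent.Lib.helper26.S4409
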