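import Cfsg.Agent.Lib.helper53.SM_W1
import Mathlib

set_option autoImplicit false
set_option linter.unusedVariables false
set_option linter.unusedSimpArgs false
set_option linter.style.longLine false

namespace Cfsg.Agent.Lib.helper70.SM

universe u

/-- An element of an odd order kernel whose square is trivial is trivial. -/
theorem h83_odd_ker_sq {Γ : Type u} [Group Γ] [Finite Γ] {P : Type*} [Group P] (π : Γ →* P)
    (hodd : Odd (Nat.card π.ker)) (b : Γ) (hb : b ∈ π.ker) (hb2 : b ^ 2 = 1) : b = 1 := by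
  have h1 : orderOf (⟨b, hb⟩ : π.ker) ∣ Nat.card π.ker := orderOf_dvd_natCard _
  have h2 : orderOf (⟨b, hb⟩ : π.ker) ∣ 2 := by
    apply orderOf_dvd_of_pow_eq_one
    apply Subtype.ext
    simpa using hb2
  have h3 : Nat.Coprime 2 (Nat.card π.ker) := (Nat.coprime_two_left).mpr hodd
  have h4 : orderOf (⟨b, hb⟩ : π.ker) = 1 :=
    Nat.eq_one_of_dvd_coprimes h3 h2 h1
  have h5 : (⟨b, hb⟩ : π.ker) = 1 := orderOf_eq_one_iff.mp h4
  exact congrArg Subtype.val h5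

/-- O3 (Lemma R: products of involutions, odd kernel). -/
theorem h83_odd_invol_pow {Γ : Type u} [Group Γ] [Finite Γ] {P : Type*} [Group P] (π : Γ →* P)
    (hc : π.ker ≤ Subgroup.center Γ) (hodd : Odd (Nat.card π.ker))
    (u v : Γ) (hu : u ^ 2 = 1) (hv : v ^ 2 = 1) (m : ℕ) (h : (π u * π v) ^ m = 1) :
    (u * v) ^ m = 1 := by
  have hbK : (u * v) ^ m ∈ π.ker := by
    rw [MonoidHom.mem_ker, map_pow, map_mul]
    exact h
  have hbc : (u * v) ^ m ∈ Subgroup.center Γ := hc hbK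
  have huinv : u⁻¹ = u := by
    rw [inv_eq_iff_mul_eq_one, ← pow_two]; exact hu
  have hvinv : v⁻¹ = v := by
    rw [inv_eq_iff_mul_eq_one, ← pow_two]; exact hv
  have h1 : u * (u * v) ^ m * u⁻¹ = ((u * v) ^ m)⁻¹ := by
    rw [← conj_pow, ← inv_pow]
    congr 1
    rw [mul_inv_rev, huinv, hvinv]
    have : u * (u * v) * u = (u * u) * (v * u) := by group
    rw [this, ← pow_two, hu, one_mul]
  have h2 : u * (u * v) ^ m * u⁻¹ = (u * v) ^ m := by
    have := (Subgroup.mem_center_iff.mp hbc) u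
    rw [this]
    group
  have h3 : ((u * v) ^ m) ^ 2 = 1 := by
    rw [pow_two]
    have h4 : (u * v) ^ m = ((u * v) ^ m)⁻¹ := h2.symm.trans h1
    calc (u * v) ^ m * (u * v) ^ m = ((u * v) ^ m)⁻¹ * (u * v) ^ m := by rw [← h4]
      _ = 1 := inv_mul_cancel _
  exact h83_odd_ker_sq π hodd _ hbK h3

/-- O4 (the `A₄` relation, odd kernel). -/
theorem h83_odd_a4 {Γ : Type u} [Group Γ] [Finite Γ] {P : Type*} [Group P] (π : Γ →* P)
    (hc : π.ker ≤ Subgroup.center Γ) (hodd : Odd (Nat.card π.ker))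
    (a b : Γ) (ha : a ^ 3 = 1) (hb : b ^ 2 = 1) (hab : (π a * π b) ^ 3 = 1) :
    (a * b) ^ 3 = 1 := by
  have hbinv : b⁻¹ = b := by
    rw [inv_eq_iff_mul_eq_one, ← pow_two]; exact hb
  have hainv : a⁻¹ = a * a := by
    rw [inv_eq_iff_mul_eq_one]
    calc a * (a * a) = a ^ 3 := by simp only [pow_succ, pow_zero, one_mul, mul_assoc]
      _ = 1 := ha
  -- v := a b a⁻¹ is an involution
  have hv : (a * b * a⁻¹) ^ 2 = 1 := by
    rw [conj_pow, hb]; group
  -- the images of b and a b a⁻¹ commute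
  have hπa : (π a) ^ 3 = 1 := by rw [← map_pow, ha, map_one]
  have hπb : (π b) ^ 2 = 1 := by rw [← map_pow, hb, map_one]
  have hW := a4_comm (π a) (π b) hπa hπb hab
  have hπv : (π (a * b * a⁻¹)) = π a * π b * (π a)⁻¹ := by
    rw [map_mul, map_mul, map_inv]
  have hπv2 : (π a * π b * (π a)⁻¹) ^ 2 = 1 := by
    rw [conj_pow, hπb]; group
  have hP : (π b * π (a * b * a⁻¹)) ^ 2 = 1 := by
    rw [hπv, pow_two]
    calc π b * (π a * π b * (π a)⁻¹) * (π b * (π a * π b * (π a)⁻¹))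
        = π b * ((π a * π b * (π a)⁻¹) * π b) * (π a * π b * (π a)⁻¹) := by group
      _ = π b * (π b * (π a * π b * (π a)⁻¹)) * (π a * π b * (π a)⁻¹) := by rw [hW]
      _ = (π b) ^ 2 * (π a * π b * (π a)⁻¹) ^ 2 := by
          simp only [pow_succ, pow_zero, one_mul]; group
      _ = 1 := by rw [hπb, hπv2, one_mul]
  have huv2 : (b * (a * b * a⁻¹)) ^ 2 = 1 :=
    h83_odd_invol_pow π hc hodd b (a * b * a⁻¹) hb hv 2 hP
  -- u and v commute
  have hvinv : (a * b * a⁻¹)⁻¹ = a * b * a⁻¹ := by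
    rw [inv_eq_iff_mul_eq_one, ← pow_two]; exact hv
  have huv : b * (a * b * a⁻¹) = (a * b * a⁻¹) * b := by
    have h5 : b * (a * b * a⁻¹) = (b * (a * b * a⁻¹))⁻¹ := by
      rw [eq_inv_iff_mul_eq_one, ← pow_two]; exact huv2
    rw [h5, mul_inv_rev, hvinv, hbinv]
  -- conjugating by a: v and w commute, w and u commute
  have hvw : (a * b * a⁻¹) * (a * (a * b * a⁻¹) * a⁻¹) = (a * (a * b * a⁻¹) * a⁻¹) * (a * b * a⁻¹) := by
    have : a * (b * (a * b * a⁻¹)) * a⁻¹ = a * ((a * b * a⁻¹) * b) * a⁻¹ :=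
      congrArg (fun t => a * t * a⁻¹) huv
    calc (a * b * a⁻¹) * (a * (a * b * a⁻¹) * a⁻¹) = a * (b * (a * b * a⁻¹)) * a⁻¹ := by group
      _ = a * ((a * b * a⁻¹) * b) * a⁻¹ := this
      _ = (a * (a * b * a⁻¹) * a⁻¹) * (a * b * a⁻¹) := by group
  have hawa : a * (a * (a * b * a⁻¹) * a⁻¹) * a⁻¹ = b := by
    calc a * (a * (a * b * a⁻¹) * a⁻¹) * a⁻¹ = a ^ 3 * b * (a ^ 3)⁻¹ := by
          simp only [pow_succ, pow_zero, one_mul]; group
      _ = b := by rw [ha]; group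
  have hwu : (a * (a * b * a⁻¹) * a⁻¹) * b = b * (a * (a * b * a⁻¹) * a⁻¹) := by
    have : a * ((a * b * a⁻¹) * (a * (a * b * a⁻¹) * a⁻¹)) * a⁻¹ =
        a * ((a * (a * b * a⁻¹) * a⁻¹) * (a * b * a⁻¹)) * a⁻¹ :=
      congrArg (fun t => a * t * a⁻¹) hvw
    calc (a * (a * b * a⁻¹) * a⁻¹) * b
        = (a * (a * b * a⁻¹) * a⁻¹) * (a * (a * (a * b * a⁻¹) * a⁻¹) * a⁻¹) := by rw [hawa]
      _ = a * ((a * b * a⁻¹) * (a * (a * b * a⁻¹) * a⁻¹)) * a⁻¹ := by group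
      _ = a * ((a * (a * b * a⁻¹) * a⁻¹) * (a * b * a⁻¹)) * a⁻¹ := this
      _ = (a * (a * (a * b * a⁻¹) * a⁻¹) * a⁻¹) * (a * (a * b * a⁻¹) * a⁻¹) := by group
      _ = b * (a * (a * b * a⁻¹) * a⁻¹) := by rw [hawa]
  have hw : (a * (a * b * a⁻¹) * a⁻¹) ^ 2 = 1 := by
    rw [conj_pow, hv]; group
  -- (a b)^3 = v w u
  have hβ : (a * b) ^ 3 = (a * b * a⁻¹) * (a * (a * b * a⁻¹) * a⁻¹) * b := by
    calc (a * b) ^ 3 = (a * b * a⁻¹) * (a * (a * b * a⁻¹) * a⁻¹) * (a ^ 3 * b) := by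
          simp only [pow_succ, pow_zero, one_mul]; group
      _ = (a * b * a⁻¹) * (a * (a * b * a⁻¹) * a⁻¹) * b := by rw [ha, one_mul]
  have hβK : (a * b) ^ 3 ∈ π.ker := by
    rw [MonoidHom.mem_ker, map_pow, map_mul]; exact hab
  apply h83_odd_ker_sq π hodd _ hβK
  rw [hβ, pow_two]
  -- (v w u)(v w u) = v² w² u²
  have hb' : b * b = 1 := by rw [← pow_two]; exact hb
  have hv' : (a * b * a⁻¹) * (a * b * a⁻¹) = 1 := by rw [← pow_two]; exact hv
  have hw' : (a * (a * b * a⁻¹) * a⁻¹) * (a * (a * b * a⁻¹) * a⁻¹) = 1 := by rw [← pow_two]; exact hw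
  generalize hV : a * b * a⁻¹ = V at *
  generalize hWW : a * V * a⁻¹ = W at *
  calc V * W * b * (V * W * b) = V * W * (b * V) * W * b := by group
    _ = V * W * (V * b) * W * b := by rw [huv]
    _ = V * (W * V) * (b * W) * b := by group
    _ = V * (V * W) * (W * b) * b := by rw [← hvw, ← hwu]
    _ = (V * V) * (W * W) * (b * b) := by group
    _ = 1 := by rw [hv', hw', hb', one_mul, one_mul]

end Cfsg.Agent.Lib.helper70.SM
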