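import Cfsg.Agent.S3335
import Mathlib

set_option autoImplicit false
set_option linter.unusedVariables false
set_option linter.unusedSimpArgs false
set_option linter.style.longLine false
open Cfsg Cfsg.Agent.S3335

namespace Cfsg.Agent.Lib.helper70.SM

universe u

/-- The images of the four generators of `P_3` in `P_k` (`k ≥ 3`). -/
def h83_embFun (k : ℕ) (hk : 3 ≤ k) (a : Fin (3 + 1)) : PresentedGroup (rels k) :=
  x k ⟨a.val, by omega⟩

theorem h83_embFun_ok (k : ℕ) (hk : 3 ≤ k) :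
    ∀ r ∈ rels 3, FreeGroup.lift (h83_embFun k hk) r = 1 := by
  apply lift_ok
  · intro i hi
    exact x_cube k _ hi
  · intro i hi
    exact x_sq k _ hi
  · intro i j hij
    exact x_adj k _ _ hij
  · intro i j hij
    exact x_far k _ _ hij

/-- The homomorphism `P_3 → P_k`. -/
def h83_emb (k : ℕ) (hk : 3 ≤ k) : PresentedGroup (rels 3) →* PresentedGroup (rels k) :=
  PresentedGroup.toGroup (h83_embFun_ok k hk)

theorem h83_emb_x (k : ℕ) (hk : 3 ≤ k) (a : Fin (3 + 1)) :
    h83_emb k hk (x 3 a) = x k ⟨a.val, by omega⟩ :=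
  PresentedGroup.toGroup.of (h83_embFun_ok k hk)

/-- The degree 6 case. -/
theorem h83_exists_conj_three :
    ∃ h : PresentedGroup (rels 3),
      h * x 3 1 * h⁻¹ = x 3 1 * x 3 3 ∧
      h * (x 3 0 * x 3 1 * (x 3 0)⁻¹) * h⁻¹ = x 3 2 * (x 3 1 * x 3 3) * (x 3 2)⁻¹ := by
  obtain ⟨cs, hcs⟩ := Cfsg.Agent.S2530.result 5
  obtain ⟨p, hp⟩ := psi_surj 3 cs hcs
    (Equiv.swap (0 : Fin 6) 2 * Equiv.swap 2 5 * (Equiv.swap 1 3 * Equiv.swap 3 4)) (by decide)
  refine ⟨p, ?_, ?_⟩
  · apply psi_injective 3 cs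
    simp only [map_mul, map_inv, psi_x, hp]
    unfold gen
    simp only [hcs]
    decide
  · apply psi_injective 3 cs
    simp only [map_mul, map_inv, psi_x, hp]
    unfold gen
    simp only [hcs]
    decide

/-- T6b (a conjugation inside the presented group). -/
theorem h83_exists_conj (k : ℕ) (i0 i1 i2 i3 : Fin (k + 1)) (h0 : i0.val = 0) (h1 : i1.val = 1)
    (h2 : i2.val = 2) (h3 : i3.val = 3) :
    ∃ h : PresentedGroup (rels k),
      h * x k i1 * h⁻¹ = x k i1 * x k i3 ∧
      h * (x k i0 * x k i1 * (x k i0)⁻¹) * h⁻¹ = x k i2 * (x k i1 * x k i3) * (x k i2)⁻¹ := by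
  have hk : 3 ≤ k := by
    have := i3.isLt
    omega
  obtain ⟨p, hp1, hp2⟩ := h83_exists_conj_three
  have e0 : h83_emb k hk (x 3 0) = x k i0 := by
    rw [h83_emb_x]
    exact congrArg (x k) (Fin.ext (by simp [h0]))
  have e1 : h83_emb k hk (x 3 1) = x k i1 := by
    rw [h83_emb_x]
    exact congrArg (x k) (Fin.ext (by simp [h1]))
  have e2 : h83_emb k hk (x 3 2) = x k i2 := by
    rw [h83_emb_x]
    exact congrArg (x k) (Fin.ext (by simp [h2]))
  have e3 : h83_emb k hk (x 3 3) = x k i3 := by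
    rw [h83_emb_x]
    exact congrArg (x k) (Fin.ext (by simp [h3]))
  refine ⟨h83_emb k hk p, ?_, ?_⟩
  · have := congrArg (h83_emb k hk) hp1
    simpa only [map_mul, map_inv, e0, e1, e2, e3] using this
  · have := congrArg (h83_emb k hk) hp2
    simpa only [map_mul, map_inv, e0, e1, e2, e3] using this

end Cfsg.Agent.Lib.helper70.SM
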