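import Mathlib

set_option autoImplicit false
set_option linter.unusedVariables false
set_option linter.unusedSimpArgs false
set_option linter.style.longLine false
open Equiv MulAction

namespace Cfsg.Agent.Lib.helper70.SR

/-- The two-point stabilizer is the symmetric group on the complement (by restriction). -/
theorem h83_stab_equiv (m : ℕ) (a b : Fin m) :
    ∃ R : ↥(stabilizer (Perm (Fin m)) a ⊓ stabilizer (Perm (Fin m)) b) ≃*
        Perm {z : Fin m // z ≠ a ∧ z ≠ b},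
      ∀ (σ : ↥(stabilizer (Perm (Fin m)) a ⊓ stabilizer (Perm (Fin m)) b))
        (z : {z : Fin m // z ≠ a ∧ z ≠ b}),
        ((R σ z : {z : Fin m // z ≠ a ∧ z ≠ b}) : Fin m) = (σ : Perm (Fin m)) (z : Fin m) := by
  have hfix : ∀ σ : ↥(stabilizer (Perm (Fin m)) a ⊓ stabilizer (Perm (Fin m)) b),
      (σ : Perm (Fin m)) a = a ∧ (σ : Perm (Fin m)) b = b := by
    intro σ
    have h := σ.2
    rw [Subgroup.mem_inf, mem_stabilizer_iff, mem_stabilizer_iff] at h
    exact h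
  have hp : ∀ (σ : ↥(stabilizer (Perm (Fin m)) a ⊓ stabilizer (Perm (Fin m)) b)) (x : Fin m),
      ((σ : Perm (Fin m)) x ≠ a ∧ (σ : Perm (Fin m)) x ≠ b) ↔ (x ≠ a ∧ x ≠ b) := by
    intro σ x
    obtain ⟨ha, hb⟩ := hfix σ
    constructor
    · rintro ⟨h1, h2⟩
      exact ⟨fun e => h1 (by rw [e, ha]), fun e => h2 (by rw [e, hb])⟩
    · rintro ⟨h1, h2⟩
      refine ⟨fun e => h1 ?_, fun e => h2 ?_⟩
      · exact (σ : Perm (Fin m)).injective (e.trans ha.symm)
      · exact (σ : Perm (Fin m)).injective (e.trans hb.symm)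
  have hinv_mem : ∀ τ : Perm {z : Fin m // z ≠ a ∧ z ≠ b},
      Equiv.Perm.ofSubtype τ ∈ stabilizer (Perm (Fin m)) a ⊓ stabilizer (Perm (Fin m)) b := by
    intro τ
    rw [Subgroup.mem_inf, mem_stabilizer_iff, mem_stabilizer_iff]
    constructor
    · exact Equiv.Perm.ofSubtype_apply_of_not_mem τ (fun h => h.1 rfl)
    · exact Equiv.Perm.ofSubtype_apply_of_not_mem τ (fun h => h.2 rfl)
  refine ⟨⟨⟨fun σ => (σ : Perm (Fin m)).subtypePerm (hp σ),
      fun τ => ⟨Equiv.Perm.ofSubtype τ, hinv_mem τ⟩, ?_, ?_⟩, ?_⟩, ?_⟩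
  · intro σ
    apply Subtype.ext
    apply Equiv.Perm.ofSubtype_subtypePerm (hp σ)
    intro x hx
    exact ⟨fun e => hx (by rw [e]; exact (hfix σ).1), fun e => hx (by rw [e]; exact (hfix σ).2)⟩
  · intro τ
    exact Equiv.Perm.subtypePerm_ofSubtype τ
  · intro σ τ
    rfl
  · intro σ z
    rfl

/-- N1c (isomorphisms of two-point stabilizers are induced by permutations). -/
theorem h83_stab_iso_induced (m : ℕ) (a b a' b' : Fin m) (hab : a ≠ b) (hab' : a' ≠ b')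
    (hind : ∀ ψ : Perm {z : Fin m // z ≠ a ∧ z ≠ b} ≃* Perm {z : Fin m // z ≠ a' ∧ z ≠ b'},
      ∃ g : {z : Fin m // z ≠ a ∧ z ≠ b} ≃ {z : Fin m // z ≠ a' ∧ z ≠ b'},
        ∀ (σ : Perm {z : Fin m // z ≠ a ∧ z ≠ b}) (z : {z : Fin m // z ≠ a ∧ z ≠ b}),
          ψ σ (g z) = g (σ z))
    (φ : ↥(stabilizer (Perm (Fin m)) a ⊓ stabilizer (Perm (Fin m)) b) ≃*
      ↥(stabilizer (Perm (Fin m)) a' ⊓ stabilizer (Perm (Fin m)) b')) :
    ∃ g : Perm (Fin m), g a = a' ∧ g b = b' ∧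
      ∀ σ : ↥(stabilizer (Perm (Fin m)) a ⊓ stabilizer (Perm (Fin m)) b),
        ((φ σ : ↥(stabilizer (Perm (Fin m)) a' ⊓ stabilizer (Perm (Fin m)) b')) : Perm (Fin m)) =
          g * (σ : Perm (Fin m)) * g⁻¹ := by
  obtain ⟨R, hR⟩ := h83_stab_equiv m a b
  obtain ⟨R', hR'⟩ := h83_stab_equiv m a' b'
  obtain ⟨g₀, hg₀⟩ := hind ((R.symm.trans φ).trans R')
  -- the extension of g₀
  obtain ⟨g, hga, hgb, hgp⟩ : ∃ g : Perm (Fin m), g a = a' ∧ g b = b' ∧
      ∀ z : {z : Fin m // z ≠ a ∧ z ≠ b}, g (z : Fin m) = (g₀ z : Fin m) := by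
    refine ⟨⟨fun z => if h : z = a then a' else if h2 : z = b then b' else (g₀ ⟨z, h, h2⟩ : Fin m),
      fun w => if h : w = a' then a else if h2 : w = b' then b else (g₀.symm ⟨w, h, h2⟩ : Fin m),
      ?_, ?_⟩, ?_, ?_, ?_⟩
    · intro z
      dsimp only
      by_cases h : z = a
      · rw [dif_pos h, dif_pos rfl, h]
      · by_cases h2 : z = b
        · rw [dif_neg h, dif_pos h2, dif_neg hab'.symm, dif_pos rfl, h2]
        · rw [dif_neg h, dif_neg h2, dif_neg (g₀ ⟨z, h, h2⟩).2.1, dif_neg (g₀ ⟨z, h, h2⟩).2.2]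
          simp
    · intro w
      dsimp only
      by_cases h : w = a'
      · rw [dif_pos h, dif_pos rfl, h]
      · by_cases h2 : w = b'
        · rw [dif_neg h, dif_pos h2, dif_neg hab.symm, dif_pos rfl, h2]
        · rw [dif_neg h, dif_neg h2, dif_neg (g₀.symm ⟨w, h, h2⟩).2.1,
            dif_neg (g₀.symm ⟨w, h, h2⟩).2.2]
          simp
    · show (if h : a = a then a' else if h2 : a = b then b' else (g₀ ⟨a, h, h2⟩ : Fin m)) = a'
      rw [dif_pos rfl]
    · show (if h : b = a then a' else if h2 : b = b then b' else (g₀ ⟨b, h, h2⟩ : Fin m)) = b'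
      rw [dif_neg hab.symm, dif_pos rfl]
    · intro z
      show (if h : (z : Fin m) = a then a' else if h2 : (z : Fin m) = b then b'
        else (g₀ ⟨(z : Fin m), h, h2⟩ : Fin m)) = (g₀ z : Fin m)
      rw [dif_neg z.2.1, dif_neg z.2.2]
  refine ⟨g, hga, hgb, ?_⟩
  intro σ
  have hσ : (σ : Perm (Fin m)) a = a ∧ (σ : Perm (Fin m)) b = b := by
    have h := σ.2
    rw [Subgroup.mem_inf, mem_stabilizer_iff, mem_stabilizer_iff] at h
    exact h
  have hφσ : ((φ σ : ↥(stabilizer (Perm (Fin m)) a' ⊓ stabilizer (Perm (Fin m)) b')) :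
      Perm (Fin m)) a' = a' ∧
      ((φ σ : ↥(stabilizer (Perm (Fin m)) a' ⊓ stabilizer (Perm (Fin m)) b')) :
      Perm (Fin m)) b' = b' := by
    have h := (φ σ).2
    rw [Subgroup.mem_inf, mem_stabilizer_iff, mem_stabilizer_iff] at h
    exact h
  have key : ∀ w : Fin m,
      ((φ σ : ↥(stabilizer (Perm (Fin m)) a' ⊓ stabilizer (Perm (Fin m)) b')) : Perm (Fin m))
        (g w) = g ((σ : Perm (Fin m)) w) := by
    intro w
    by_cases h : w = a
    · rw [h, hσ.1, hga, hφσ.1]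
    · by_cases h2 : w = b
      · rw [h2, hσ.2, hgb, hφσ.2]
      · have h1 := hg₀ (R σ) ⟨w, h, h2⟩
        have h3 : ((R.symm.trans φ).trans R') (R σ) = R' (φ σ) := by
          simp
        rw [h3] at h1
        have h4 := congrArg Subtype.val h1
        rw [hR' (φ σ) (g₀ ⟨w, h, h2⟩), ← hgp ⟨w, h, h2⟩, ← hgp (R σ ⟨w, h, h2⟩),
          hR σ ⟨w, h, h2⟩] at h4
        exact h4
  apply Equiv.ext
  intro z
  have hk := key (g⁻¹ z)
  have e : g (g⁻¹ z) = z := by simp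
  rw [e] at hk
  rw [hk]
  rfl

end Cfsg.Agent.Lib.helper70.SR
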