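import Mathlib
import Cfsg.Prelude.Def_Classical
import Cfsg.Agent.Lib.helper17.Herm
import Cfsg.Agent.Lib.helper44.SUWDefs

/-!
# S2335 (helper44's split): shared lemmas

* `h83_herm_of_mul`: a matrix `M` with `Mᵀ * M.map σ = 1` preserves `hermForm` (`σ x = x ^ q`);
* `h83_exists_trace_one`: an element `a` with `a + σ a = 1`;
* block matrices with scalar blocks (`h83_S`) and their products.
-/

set_option autoImplicit false
set_option linter.unusedVariables false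
set_option linter.unusedSimpArgs false
set_option linter.style.longLine false
set_option linter.unusedSectionVars false

namespace Cfsg.Agent.Lib.helper44.SUW

open Matrix Cfsg

theorem h83_herm_of_mul {K : Type*} [Field K] {q n : ℕ} (σ : K →+* K) (hσ : ∀ x, σ x = x ^ q)
    (M : Matrix (Fin n) (Fin n) K) (h : Mᵀ * M.map σ = 1) (u v : Fin n → K) :
    Cfsg.hermForm n K q (M *ᵥ u) (M *ᵥ v) = Cfsg.hermForm n K q u v := by
  rw [Cfsg.Agent.Lib.helper17.hermForm_eq n q σ hσ, Cfsg.Agent.Lib.helper17.hermForm_eq n q σ hσ]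
  have h1 : ∀ i, σ ((M *ᵥ v) i) = ((M.map σ) *ᵥ (fun j => σ (v j))) i := by
    intro i
    simp only [Matrix.mulVec, dotProduct, map_sum, map_mul, Matrix.map_apply]
  have h2 : ∑ i, (M *ᵥ u) i * σ ((M *ᵥ v) i) =
      (M *ᵥ u) ⬝ᵥ ((M.map σ) *ᵥ (fun j => σ (v j))) := by
    simp only [dotProduct]
    exact Finset.sum_congr rfl (fun i _ => by rw [h1])
  rw [h2, ← Matrix.vecMul_transpose, ← Matrix.dotProduct_mulVec, Matrix.mulVec_mulVec, h,
    Matrix.one_mulVec]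
  rfl

theorem h83_exists_trace_one {K : Type*} [Field K] [Fintype K] {q : ℕ}
    (hK : Fintype.card K = q ^ 2) (σ : K →+* K) (hσ : ∀ x, σ x = x ^ q) :
    ∃ a : K, a + σ a = 1 := by
  have hq2 : 2 ≤ q := by
    by_contra hlt
    have hq1 : q ≤ 1 := by omega
    have hc : Fintype.card K ≤ 1 := by
      rw [hK]
      calc q ^ 2 ≤ 1 ^ 2 := Nat.pow_le_pow_left hq1 2
        _ = 1 := by norm_num
    have h2 := Fintype.one_lt_card (α := K)
    omega
  have hσσ : ∀ x, σ (σ x) = x := fun x => by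
    rw [hσ, hσ, Cfsg.Agent.Lib.helper17.pow_q_pow_q hK]
  have hex : ∃ θ : K, θ + σ θ ≠ 0 := by
    by_contra hne
    push Not at hne
    have h1 : (1 : K) + 1 = 0 := by
      have h := hne 1
      rwa [map_one] at h
    obtain ⟨g, hg⟩ := IsCyclic.exists_generator (α := Kˣ)
    have hog : orderOf g = q ^ 2 - 1 := by
      rw [orderOf_eq_card_of_forall_mem_zpowers hg, Nat.card_units, Nat.card_eq_fintype_card, hK]
    have hgq : (g : K) ^ q = (g : K) := by
      have h := hne (g : K)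
      rw [hσ] at h
      have h2 : (g : K) + (g : K) = 0 := by linear_combination (g : K) * h1
      linear_combination h - h2
    have hgq1 : g ^ (q - 1) = 1 := by
      apply Units.ext
      rw [Units.val_pow_eq_pow_val, Units.val_one]
      have hg0 : (g : K) ≠ 0 := g.ne_zero
      have h3 : (g : K) ^ (q - 1) * (g : K) = 1 * (g : K) := by
        rw [← pow_succ, Nat.sub_add_cancel (by omega), one_mul]
        exact hgq
      exact mul_right_cancel₀ hg0 h3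
    have hdvd : q ^ 2 - 1 ∣ q - 1 := by
      rw [← hog]
      exact orderOf_dvd_of_pow_eq_one hgq1
    have hle := Nat.le_of_dvd (by omega) hdvd
    have hlt : q < q ^ 2 := by nlinarith
    omega
  obtain ⟨θ, hθ⟩ := hex
  refine ⟨θ / (θ + σ θ), ?_⟩
  rw [map_div₀, map_add, hσσ, add_comm (σ θ) θ, ← add_div]
  exact div_self hθ

/-- Block matrices with scalar blocks. -/
def h83_S {K : Type*} [Field K] (m : ℕ) (x₁ x₂ x₃ x₄ : K) :
    Matrix (Fin m ⊕ Fin m) (Fin m ⊕ Fin m) K :=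
  fromBlocks (x₁ • (1 : Matrix (Fin m) (Fin m) K)) (x₂ • (1 : Matrix (Fin m) (Fin m) K))
    (x₃ • (1 : Matrix (Fin m) (Fin m) K)) (x₄ • (1 : Matrix (Fin m) (Fin m) K))

theorem h83_S_mul {K : Type*} [Field K] (m : ℕ) (x₁ x₂ x₃ x₄ y₁ y₂ y₃ y₄ : K) :
    h83_S m x₁ x₂ x₃ x₄ * h83_S m y₁ y₂ y₃ y₄ =
      h83_S m (x₁ * y₁ + x₂ * y₃) (x₁ * y₂ + x₂ * y₄) (x₃ * y₁ + x₄ * y₃) (x₃ * y₂ + x₄ * y₄) := by
  unfold h83_S
  rw [fromBlocks_multiply]
  simp only [Matrix.smul_mul, Matrix.mul_smul, Matrix.one_mul, smul_smul, ← add_smul]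
  congr 2 <;> ring

theorem h83_S_one {K : Type*} [Field K] (m : ℕ) : h83_S m (1 : K) 0 0 1 = 1 := by
  unfold h83_S
  rw [one_smul, zero_smul, fromBlocks_one]

theorem h83_S_transpose {K : Type*} [Field K] (m : ℕ) (x₁ x₂ x₃ x₄ : K) :
    (h83_S m x₁ x₂ x₃ x₄)ᵀ = h83_S m x₁ x₃ x₂ x₄ := by
  unfold h83_S
  rw [fromBlocks_transpose]
  simp only [Matrix.transpose_smul, Matrix.transpose_one]

theorem h83_S_map {K : Type*} [Field K] (m : ℕ) (σ : K →+* K) (x₁ x₂ x₃ x₄ : K) :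
    (h83_S m x₁ x₂ x₃ x₄).map σ = h83_S m (σ x₁) (σ x₂) (σ x₃) (σ x₄) := by
  unfold h83_S
  rw [fromBlocks_map]
  have hs : ∀ x : K, (x • (1 : Matrix (Fin m) (Fin m) K)).map σ =
      σ x • (1 : Matrix (Fin m) (Fin m) K) := by
    intro x
    ext i j
    simp only [Matrix.map_apply, Matrix.smul_apply, Matrix.one_apply, smul_eq_mul]
    by_cases hij : i = j
    · rw [if_pos hij, mul_one, mul_one]
    · rw [if_neg hij, mul_zero, map_zero, mul_zero]
  rw [hs, hs, hs, hs]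

theorem h83_S_mul_fromBlocks {K : Type*} [Field K] (m : ℕ) (x₁ x₂ x₃ x₄ : K)
    (A₁ A₂ A₃ A₄ : Matrix (Fin m) (Fin m) K) :
    h83_S m x₁ x₂ x₃ x₄ * fromBlocks A₁ A₂ A₃ A₄ =
      fromBlocks (x₁ • A₁ + x₂ • A₃) (x₁ • A₂ + x₂ • A₄) (x₃ • A₁ + x₄ • A₃)
        (x₃ • A₂ + x₄ • A₄) := by
  unfold h83_S
  rw [fromBlocks_multiply]
  simp only [Matrix.smul_mul, Matrix.one_mul]

theorem h83_fromBlocks_mul_S {K : Type*} [Field K] (m : ℕ) (y₁ y₂ y₃ y₄ : K)
    (A₁ A₂ A₃ A₄ : Matrix (Fin m) (Fin m) K) :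
    fromBlocks A₁ A₂ A₃ A₄ * h83_S m y₁ y₂ y₃ y₄ =
      fromBlocks (y₁ • A₁ + y₃ • A₂) (y₂ • A₁ + y₄ • A₂) (y₁ • A₃ + y₃ • A₄)
        (y₂ • A₃ + y₄ • A₄) := by
  unfold h83_S
  rw [fromBlocks_multiply]
  simp only [Matrix.mul_smul, Matrix.mul_one]

end Cfsg.Agent.Lib.helper44.SUW
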