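import Mathlib
import Cfsg.Prelude.Def_Classical
import Cfsg.Agent.Lib.helper99.UGen1
import Cfsg.Agent.Lib.helper17.Herm
import Cfsg.Agent.Lib.helper44.SUWDefs
import Cfsg.Agent.Lib.helper83.SUWHerm

/-!
# S2335, piece LEVI: the Levi element `g_B` of `SU_{2m}(q)` with `g u(C) = u(B C B†) g`
-/

set_option autoImplicit false
set_option linter.unusedVariables false
set_option linter.unusedSimpArgs false
set_option linter.style.longLine false

namespace Cfsg.Agent.Lib.helper44.SUW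

open Matrix Cfsg Cfsg.Agent.Lib.helper99

/-- LEVI (racing copy, verbatim statement). -/
theorem h83_levi {K : Type*} [Field K] [Fintype K] {q m : ℕ} (hK : Fintype.card K = q ^ 2)
    (σ : K →+* K) (hσ : ∀ x, σ x = x ^ q) (ε : K) (hε : ε * σ ε = -1)
    (B : Matrix (Fin m) (Fin m) K) (hB : B.det = 1) :
    ∃ g : ↥(Cfsg.SU (m + m) K q), ∀ C ∈ skewH σ m,
      suMat g * uMat σ ε C = uMat σ ε (B * C * (B.map σ)ᵀ) * suMat g := by
  classical
  have hσσ : ∀ x, σ (σ x) = x := fun x => by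
    rw [hσ, hσ, Cfsg.Agent.Lib.helper17.pow_q_pow_q hK]
  obtain ⟨a, ha⟩ := h83_exists_trace_one hK σ hσ
  have hε' : σ ε * ε = -1 := by rw [mul_comm]; exact hε
  -- the inverse-conjugate-transpose of `B`
  obtain ⟨D, hD⟩ : ∃ D : Matrix (Fin m) (Fin m) K, D = ((B⁻¹).map σ)ᵀ := ⟨_, rfl⟩
  have hBu : IsUnit B.det := by rw [hB]; exact isUnit_one
  have hBinv : B⁻¹ * B = 1 := Matrix.nonsing_inv_mul B hBu
  have hmapmap : ∀ M : Matrix (Fin m) (Fin m) K, (M.map σ).map σ = M := by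
    intro M
    ext i j
    simp only [Matrix.map_apply, hσσ]
  have hBD : (B.map σ)ᵀ * D = 1 := by
    rw [hD, ← Matrix.transpose_mul, ← Matrix.map_mul, hBinv, Matrix.map_one σ (map_zero σ) (map_one σ),
      Matrix.transpose_one]
  have hDB : Dᵀ * B.map σ = 1 := by
    rw [hD, Matrix.transpose_transpose, ← Matrix.map_mul, hBinv,
      Matrix.map_one σ (map_zero σ) (map_one σ)]
  have hBD2 : Bᵀ * D.map σ = 1 := by
    rw [hD, Matrix.transpose_map, hmapmap, ← Matrix.transpose_mul, hBinv, Matrix.transpose_one]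
  have hdetD : D.det = 1 := by
    rw [hD, Matrix.det_transpose]
    have h1 : ((B⁻¹).map σ).det = σ (B⁻¹).det := by
      rw [RingHom.map_det]
      rfl
    rw [h1, Matrix.det_nonsing_inv, hB]
    simp
  -- the hyperbolic frame and its inverse
  obtain ⟨P, hP⟩ : ∃ P : Matrix (Fin m ⊕ Fin m) (Fin m ⊕ Fin m) K,
      P = h83_S m 1 a ε (-(ε * σ a)) := ⟨_, rfl⟩
  obtain ⟨P', hP'⟩ : ∃ P' : Matrix (Fin m ⊕ Fin m) (Fin m ⊕ Fin m) K,
      P' = h83_S m (σ a) (-(σ ε * a)) 1 (σ ε) := ⟨_, rfl⟩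
  have hP'P : P' * P = 1 := by
    rw [hP, hP', h83_S_mul, ← h83_S_one]
    congr 1
    · linear_combination ha - a * hε'
    · linear_combination (σ a * a) * hε'
    · linear_combination hε'
    · linear_combination ha - σ a * hε'
  have hPP' : P * P' = 1 := mul_eq_one_comm.1 hP'P
  have hJ : Pᵀ * P.map σ = h83_S m 0 1 1 0 := by
    rw [hP, h83_S_transpose, h83_S_map, h83_S_mul]
    simp only [map_neg, map_mul, map_one, hσσ]
    congr 1
    · linear_combination hε
    · linear_combination ha - a * hε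
    · linear_combination ha - σ a * hε'
    · linear_combination (a * σ a) * hε
  have hJ' : P'ᵀ * h83_S m 0 1 1 0 * P'.map σ = 1 := by
    rw [hP', h83_S_transpose, h83_S_map, h83_S_mul, h83_S_mul, ← h83_S_one]
    simp only [map_neg, map_mul, map_one, hσσ]
    congr 1
    · linear_combination ha
    · ring
    · ring
    · linear_combination (-(a + σ a)) * hε' + ha
  -- the element
  obtain ⟨Δ, hΔ⟩ : ∃ Δ : Matrix (Fin m ⊕ Fin m) (Fin m ⊕ Fin m) K,
      Δ = fromBlocks B 0 0 D := ⟨_, rfl⟩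
  obtain ⟨G, hG⟩ : ∃ G : Matrix (Fin m ⊕ Fin m) (Fin m ⊕ Fin m) K, G = P * Δ * P' := ⟨_, rfl⟩
  have hdetΔ : Δ.det = 1 := by
    rw [hΔ, Matrix.det_fromBlocks_zero₂₁, hB, hdetD, one_mul]
  have hdetG : G.det = 1 := by
    rw [hG, Matrix.det_mul, Matrix.det_mul, hdetΔ, mul_one, ← Matrix.det_mul, hPP', Matrix.det_one]
  have hΔJ : Δᵀ * h83_S m 0 1 1 0 * Δ.map σ = h83_S m 0 1 1 0 := by
    rw [hΔ, fromBlocks_transpose, fromBlocks_map, h83_fromBlocks_mul_S, fromBlocks_multiply]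
    simp only [Matrix.transpose_zero, zero_smul, one_smul, zero_add, add_zero, Matrix.zero_mul,
      Matrix.mul_zero, hBD2, hDB, Matrix.map_zero σ (map_zero σ)]
    unfold h83_S
    simp only [zero_smul, one_smul]
  have hunit : Gᵀ * G.map σ = 1 := by
    rw [hG, Matrix.transpose_mul, Matrix.transpose_mul, Matrix.map_mul, Matrix.map_mul]
    calc P'ᵀ * (Δᵀ * Pᵀ) * (P.map σ * Δ.map σ * P'.map σ)
        = P'ᵀ * (Δᵀ * (Pᵀ * P.map σ) * Δ.map σ) * P'.map σ := by
          simp only [Matrix.mul_assoc]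
      _ = 1 := by rw [hJ, hΔJ, hJ']
  -- the Siegel elements in the frame
  have hU : ∀ C : Matrix (Fin m) (Fin m) K,
      fromBlocks (1 + C) (σ ε • C) (ε • C) (1 - C) = 1 + P * fromBlocks 0 C 0 0 * P' := by
    intro C
    have e1 : P * fromBlocks 0 C 0 0 = fromBlocks 0 C 0 (ε • C) := by
      rw [hP, h83_S_mul_fromBlocks]
      simp only [smul_zero, add_zero, zero_add, one_smul]
    have e2 : fromBlocks 0 C 0 (ε • C) * P' = fromBlocks C (σ ε • C) (ε • C) (-C) := by
      rw [hP', h83_fromBlocks_mul_S]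
      simp only [smul_zero, zero_add, add_zero, one_smul, smul_smul, hε', neg_smul, one_mul]
    rw [e1, e2, ← fromBlocks_one, fromBlocks_add, zero_add, zero_add, ← sub_eq_add_neg]
  have hcomm : ∀ C : Matrix (Fin m) (Fin m) K,
      G * (1 + P * fromBlocks 0 C 0 0 * P') =
        (1 + P * fromBlocks 0 (B * C * (B.map σ)ᵀ) 0 0 * P') * G := by
    intro C
    have e1 : G * (P * fromBlocks 0 C 0 0 * P') = P * fromBlocks 0 (B * C) 0 0 * P' := by
      rw [hG]
      calc P * Δ * P' * (P * fromBlocks 0 C 0 0 * P')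
          = P * (Δ * ((P' * P) * fromBlocks 0 C 0 0)) * P' := by simp only [Matrix.mul_assoc]
        _ = P * fromBlocks 0 (B * C) 0 0 * P' := by
          rw [hP'P, Matrix.one_mul, hΔ, fromBlocks_multiply]
          simp only [Matrix.mul_zero, Matrix.zero_mul, add_zero, zero_add]
    have e2 : P * fromBlocks 0 (B * C * (B.map σ)ᵀ) 0 0 * P' * G =
        P * fromBlocks 0 (B * C) 0 0 * P' := by
      rw [hG]
      calc P * fromBlocks 0 (B * C * (B.map σ)ᵀ) 0 0 * P' * (P * Δ * P')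
          = P * (fromBlocks 0 (B * C * (B.map σ)ᵀ) 0 0 * ((P' * P) * Δ)) * P' := by
            simp only [Matrix.mul_assoc]
        _ = P * fromBlocks 0 (B * C) 0 0 * P' := by
          rw [hP'P, Matrix.one_mul, hΔ, fromBlocks_multiply]
          simp only [Matrix.mul_zero, Matrix.zero_mul, add_zero, zero_add]
          rw [Matrix.mul_assoc (B * C), hBD, Matrix.mul_one]
    rw [Matrix.mul_add, Matrix.add_mul, Matrix.mul_one, Matrix.one_mul, e1, e2]
  -- transport to `Fin (m + m)`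
  obtain ⟨Gf, hGf⟩ : ∃ Gf : Matrix (Fin (m + m)) (Fin (m + m)) K,
      Gf = G.submatrix finSumFinEquiv.symm finSumFinEquiv.symm := ⟨_, rfl⟩
  have hdetGf : Gf.det = 1 := by
    rw [hGf, Matrix.det_submatrix_equiv_self, hdetG]
  have hunitGf : Gfᵀ * Gf.map σ = 1 := by
    rw [hGf, Matrix.transpose_submatrix, ← Matrix.submatrix_map, Matrix.submatrix_mul_equiv, hunit,
      Matrix.submatrix_one_equiv]
  refine ⟨mkSU Gf hdetGf (fun u v => h83_herm_of_mul σ hσ Gf hunitGf u v), ?_⟩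
  intro C hC
  rw [suMat_mkSU]
  unfold uMat
  rw [hGf, Matrix.submatrix_mul_equiv, Matrix.submatrix_mul_equiv, hU, hU, hcomm]

end Cfsg.Agent.Lib.helper44.SUW
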