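import Mathlib
import Cfsg.Prelude.Def_Classical
import Cfsg.Prelude.Def_GeometricClasses
import Cfsg.Agent.Lib.helper49.WittIso

/-!
S5977 / S5978 block [A] (helper59), piece JBASIS: racer copy by helper83.
Greedy construction: extend an orthogonal family `e_1, .., e_m, x e_1, .., x e_m` of anisotropic
vectors by a vector of the orthogonal complement, found by Gram-Schmidt projection.
-/

set_option autoImplicit false
set_option linter.unusedVariables false
set_option linter.unusedSectionVars false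
set_option linter.style.longLine false
set_option linter.deprecated false

namespace Cfsg.Agent.Lib.helper59.Sfk

open Matrix Cfsg.Geo

theorem h83_sfk_j_basis {F : Type*} [Field F] {ι : Type} [Fintype ι] [DecidableEq ι]
    (h2 : (2 : F) ≠ 0) (Q : QuadraticForm F (ι → F))
    (hQ : (QuadraticMap.polarBilin Q).Nondegenerate)
    (x : GL ι F) (hx : x ∈ Cfsg.isometryGroup F (⇑Q))
    (hxx : (x : Matrix ι ι F) * (x : Matrix ι ι F) = -1) :
    ∃ (m : ℕ) (e : Fin m → (ι → F)),
      LinearIndependent F (Sum.elim e (fun i => (x : Matrix ι ι F) *ᵥ e i)) ∧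
      Fintype.card ι = 2 * m ∧
      (∀ i j, i ≠ j → QuadraticMap.polar (⇑Q) (e i) (e j) = 0) ∧
      (∀ i j, QuadraticMap.polar (⇑Q) (e i) ((x : Matrix ι ι F) *ᵥ e j) = 0) ∧
      ∀ i, Q (e i) ≠ 0 := by
  classical
  have hxQ : ∀ u : ι → F, Q ((x : Matrix ι ι F) *ᵥ u) = Q u := fun u => hx u u
  have hpol : ∀ u v : ι → F, QuadraticMap.polar (⇑Q) ((x : Matrix ι ι F) *ᵥ u)
      ((x : Matrix ι ι F) *ᵥ v) = QuadraticMap.polar (⇑Q) u v := by
    intro u v
    unfold QuadraticMap.polar
    rw [← Matrix.mulVec_add, hxQ, hxQ, hxQ]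
  have hxxv : ∀ u : ι → F, (x : Matrix ι ι F) *ᵥ ((x : Matrix ι ι F) *ᵥ u) = -u := by
    intro u
    rw [Matrix.mulVec_mulVec, hxx, Matrix.neg_mulVec, Matrix.one_mulVec]
  have hskew : ∀ u v : ι → F, QuadraticMap.polar (⇑Q) u ((x : Matrix ι ι F) *ᵥ v)
      = - QuadraticMap.polar (⇑Q) ((x : Matrix ι ι F) *ᵥ u) v := by
    intro u v
    have h := hpol ((x : Matrix ι ι F) *ᵥ u) v
    rw [hxxv, QuadraticMap.polar_neg_left] at h
    rw [← h, neg_neg]
  have hself : ∀ u : ι → F, QuadraticMap.polar (⇑Q) u ((x : Matrix ι ι F) *ᵥ u) = 0 := by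
    intro u
    have h := hskew u u
    rw [QuadraticMap.polar_comm (⇑Q) ((x : Matrix ι ι F) *ᵥ u) u] at h
    have h' : (2 : F) * QuadraticMap.polar (⇑Q) u ((x : Matrix ι ι F) *ᵥ u) = 0 := by
      linear_combination h
    rcases mul_eq_zero.mp h' with h0 | h0
    · exact absurd h0 h2
    · exact h0
  have hBself : ∀ u : ι → F, QuadraticMap.polar (⇑Q) u u = 2 * Q u := by
    intro u
    rw [QuadraticMap.polar_self]
    simp
  -- linear independence of an orthogonal family of this shape
  have hLI : ∀ (m : ℕ) (e : Fin m → (ι → F)),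
      (∀ i j, i ≠ j → QuadraticMap.polar (⇑Q) (e i) (e j) = 0) →
      (∀ i j, QuadraticMap.polar (⇑Q) (e i) ((x : Matrix ι ι F) *ᵥ e j) = 0) →
      (∀ i, Q (e i) ≠ 0) →
      (∀ s t : Fin m ⊕ Fin m, s ≠ t →
        QuadraticMap.polarBilin Q (Sum.elim e (fun i => (x : Matrix ι ι F) *ᵥ e i) s)
          (Sum.elim e (fun i => (x : Matrix ι ι F) *ᵥ e i) t) = 0) ∧
      (∀ s : Fin m ⊕ Fin m,
        QuadraticMap.polarBilin Q (Sum.elim e (fun i => (x : Matrix ι ι F) *ᵥ e i) s)
          (Sum.elim e (fun i => (x : Matrix ι ι F) *ᵥ e i) s) ≠ 0) ∧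
      LinearIndependent F (Sum.elim e (fun i => (x : Matrix ι ι F) *ᵥ e i)) := by
    intro m e ho1 ho2 hne
    have hA : ∀ s t : Fin m ⊕ Fin m, s ≠ t →
        QuadraticMap.polarBilin Q (Sum.elim e (fun i => (x : Matrix ι ι F) *ᵥ e i) s)
          (Sum.elim e (fun i => (x : Matrix ι ι F) *ᵥ e i) t) = 0 := by
      rintro (i | i) (j | j) hij
      · simp only [Sum.elim_inl, QuadraticMap.polarBilin_apply_apply]
        exact ho1 i j (fun h => hij (by rw [h]))
      · simp only [Sum.elim_inl, Sum.elim_inr, QuadraticMap.polarBilin_apply_apply]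
        exact ho2 i j
      · simp only [Sum.elim_inl, Sum.elim_inr, QuadraticMap.polarBilin_apply_apply]
        rw [QuadraticMap.polar_comm]
        exact ho2 j i
      · simp only [Sum.elim_inr, QuadraticMap.polarBilin_apply_apply]
        rw [hpol]
        exact ho1 i j (fun h => hij (by rw [h]))
    have hB : ∀ s : Fin m ⊕ Fin m,
        QuadraticMap.polarBilin Q (Sum.elim e (fun i => (x : Matrix ι ι F) *ᵥ e i) s)
          (Sum.elim e (fun i => (x : Matrix ι ι F) *ᵥ e i) s) ≠ 0 := by
      rintro (i | i)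
      · simp only [Sum.elim_inl, QuadraticMap.polarBilin_apply_apply]
        rw [hBself]
        exact mul_ne_zero h2 (hne i)
      · simp only [Sum.elim_inr, QuadraticMap.polarBilin_apply_apply]
        rw [hpol, hBself]
        exact mul_ne_zero h2 (hne i)
    exact ⟨hA, hB, LinearMap.linearIndependent_of_isOrthoᵢ (LinearMap.isOrthoᵢ_def.mpr hA) hB⟩
  have hbound : ∀ (m : ℕ) (e : Fin m → (ι → F)),
      (∀ i j, i ≠ j → QuadraticMap.polar (⇑Q) (e i) (e j) = 0) →
      (∀ i j, QuadraticMap.polar (⇑Q) (e i) ((x : Matrix ι ι F) *ᵥ e j) = 0) →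
      (∀ i, Q (e i) ≠ 0) → 2 * m ≤ Fintype.card ι := by
    intro m e ho1 ho2 hne
    have h := (hLI m e ho1 ho2 hne).2.2.fintype_card_le_finrank
    rw [Module.finrank_fintype_fun_eq_card] at h
    simp only [Fintype.card_sum, Fintype.card_fin] at h
    omega
  -- extension step
  have hext : ∀ (m : ℕ) (e : Fin m → (ι → F)),
      (∀ i j, i ≠ j → QuadraticMap.polar (⇑Q) (e i) (e j) = 0) →
      (∀ i j, QuadraticMap.polar (⇑Q) (e i) ((x : Matrix ι ι F) *ᵥ e j) = 0) →
      (∀ i, Q (e i) ≠ 0) → 2 * m < Fintype.card ι →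
      ∃ v : ι → F, Q v ≠ 0 ∧ (∀ j, QuadraticMap.polar (⇑Q) v (e j) = 0) ∧
        (∀ j, QuadraticMap.polar (⇑Q) v ((x : Matrix ι ι F) *ᵥ e j) = 0) := by
    intro m e ho1 ho2 hne hlt
    obtain ⟨hfo, hfn, hLIf⟩ := hLI m e ho1 ho2 hne
    obtain ⟨f, hf⟩ : ∃ f : Fin m ⊕ Fin m → (ι → F),
        f = Sum.elim e (fun i => (x : Matrix ι ι F) *ᵥ e i) := ⟨_, rfl⟩
    rw [← hf] at hfo hfn hLIf
    obtain ⟨Bf, hBf⟩ : ∃ Bf : LinearMap.BilinForm F (ι → F), Bf = QuadraticMap.polarBilin Q :=
      ⟨_, rfl⟩
    rw [← hBf] at hfo hfn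
    have hP : ∀ (u : ι → F) (t : Fin m ⊕ Fin m),
        Bf (u - ∑ s, (Bf u (f s) / Bf (f s) (f s)) • f s) (f t) = 0 := by
      intro u t
      rw [map_sub, LinearMap.sub_apply, map_sum, LinearMap.sum_apply]
      simp only [map_smul, LinearMap.smul_apply, smul_eq_mul]
      rw [Finset.sum_eq_single t]
      · rw [div_mul_cancel₀ _ (hfn t), sub_self]
      · intro s _ hst
        rw [hfo s t hst, mul_zero]
      · intro h
        exact absurd (Finset.mem_univ t) h
    have hspan : ∃ u : ι → F, u ∉ Submodule.span F (Set.range f) := by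
      by_contra hcon
      push Not at hcon
      have htop : Submodule.span F (Set.range f) = ⊤ := by
        rw [eq_top_iff]
        intro u _
        exact hcon u
      have h1 : (Set.range f).finrank F ≤ Fintype.card (Fin m ⊕ Fin m) := finrank_range_le_card f
      have h3 : (Set.range f).finrank F = Fintype.card ι := by
        unfold Set.finrank
        rw [htop, finrank_top, Module.finrank_fintype_fun_eq_card]
      rw [h3] at h1
      simp only [Fintype.card_sum, Fintype.card_fin] at h1
      omega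
    obtain ⟨u, hu⟩ := hspan
    have hPu_ne : u - ∑ s, (Bf u (f s) / Bf (f s) (f s)) • f s ≠ 0 := by
      intro h0
      apply hu
      rw [sub_eq_zero.mp h0]
      exact Submodule.sum_mem _ (fun s _ =>
        Submodule.smul_mem _ _ (Submodule.subset_span (Set.mem_range_self s)))
    obtain ⟨y, hy⟩ : ∃ y, Bf (u - ∑ s, (Bf u (f s) / Bf (f s) (f s)) • f s) y ≠ 0 := by
      by_contra hcon
      push Not at hcon
      apply hPu_ne
      have hsep := hQ.1
      rw [← hBf] at hsep
      exact hsep _ hcon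
    have hvy : Bf (u - ∑ s, (Bf u (f s) / Bf (f s) (f s)) • f s)
        (y - ∑ s, (Bf y (f s) / Bf (f s) (f s)) • f s)
        = Bf (u - ∑ s, (Bf u (f s) / Bf (f s) (f s)) • f s) y := by
      rw [map_sub (Bf (u - ∑ s, (Bf u (f s) / Bf (f s) (f s)) • f s)), map_sum]
      have hz : ∑ s, Bf (u - ∑ s, (Bf u (f s) / Bf (f s) (f s)) • f s)
          ((Bf y (f s) / Bf (f s) (f s)) • f s) = 0 :=
        Finset.sum_eq_zero (fun s _ => by rw [map_smul, smul_eq_mul, hP u s, mul_zero])
      rw [hz, sub_zero]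
    have hpolar : ∀ a b : ι → F, Bf a b = QuadraticMap.polar (⇑Q) a b := by
      intro a b
      rw [hBf]
      rfl
    have hthree : ∃ v : ι → F, Q v ≠ 0 ∧ ∀ t, Bf v (f t) = 0 := by
      by_cases h1 : Q (u - ∑ s, (Bf u (f s) / Bf (f s) (f s)) • f s) ≠ 0
      · exact ⟨_, h1, hP u⟩
      by_cases h2' : Q (y - ∑ s, (Bf y (f s) / Bf (f s) (f s)) • f s) ≠ 0
      · exact ⟨_, h2', hP y⟩
      push Not at h1 h2'
      refine ⟨(u - ∑ s, (Bf u (f s) / Bf (f s) (f s)) • f s)
        + (y - ∑ s, (Bf y (f s) / Bf (f s) (f s)) • f s), ?_, ?_⟩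
      · intro h3
        apply hy
        rw [← hvy, hpolar]
        unfold QuadraticMap.polar
        rw [h3, h1, h2']
        ring
      · intro t
        rw [map_add, LinearMap.add_apply, hP u t, hP y t, add_zero]
    obtain ⟨v, hv, hvf⟩ := hthree
    refine ⟨v, hv, fun j => ?_, fun j => ?_⟩
    · have h := hvf (Sum.inl j)
      rw [hf, hpolar] at h
      exact h
    · have h := hvf (Sum.inr j)
      rw [hf, hpolar] at h
      exact h
  have main : ∀ d : ℕ, ∀ (m : ℕ) (e : Fin m → (ι → F)),
      (∀ i j, i ≠ j → QuadraticMap.polar (⇑Q) (e i) (e j) = 0) →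
      (∀ i j, QuadraticMap.polar (⇑Q) (e i) ((x : Matrix ι ι F) *ᵥ e j) = 0) →
      (∀ i, Q (e i) ≠ 0) → Fintype.card ι - 2 * m = d →
      ∃ (m' : ℕ) (e' : Fin m' → (ι → F)),
        (∀ i j, i ≠ j → QuadraticMap.polar (⇑Q) (e' i) (e' j) = 0) ∧
        (∀ i j, QuadraticMap.polar (⇑Q) (e' i) ((x : Matrix ι ι F) *ᵥ e' j) = 0) ∧
        (∀ i, Q (e' i) ≠ 0) ∧ Fintype.card ι = 2 * m' := by
    intro d
    induction d using Nat.strong_induction_on with
    | _ d ih =>
      intro m e ho1 ho2 hne hd
      have hle := hbound m e ho1 ho2 hne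
      by_cases heq : 2 * m = Fintype.card ι
      · exact ⟨m, e, ho1, ho2, hne, heq.symm⟩
      · obtain ⟨v, hv, hv1, hv2⟩ := hext m e ho1 ho2 hne (by omega)
        obtain ⟨e', he'1, he'2⟩ : ∃ e' : Fin (m + 1) → (ι → F),
            (∀ i, e' (Fin.castSucc i) = e i) ∧ e' (Fin.last m) = v :=
          ⟨Fin.snoc (α := fun _ => ι → F) e v, fun i => by simp, by simp⟩
        have ho1' : ∀ i j : Fin (m + 1), i ≠ j → QuadraticMap.polar (⇑Q) (e' i) (e' j) = 0 := by
          intro i j hij
          induction i using Fin.lastCases with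
          | last =>
            induction j using Fin.lastCases with
            | last => exact absurd rfl hij
            | cast j => rw [he'2, he'1]; exact hv1 j
          | cast i =>
            induction j using Fin.lastCases with
            | last => rw [he'2, he'1, QuadraticMap.polar_comm]; exact hv1 i
            | cast j => rw [he'1, he'1]; exact ho1 i j (fun h => hij (by rw [h]))
        have ho2' : ∀ i j : Fin (m + 1),
            QuadraticMap.polar (⇑Q) (e' i) ((x : Matrix ι ι F) *ᵥ e' j) = 0 := by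
          intro i j
          induction i using Fin.lastCases with
          | last =>
            induction j using Fin.lastCases with
            | last => rw [he'2]; exact hself v
            | cast j => rw [he'2, he'1]; exact hv2 j
          | cast i =>
            induction j using Fin.lastCases with
            | last => rw [he'2, he'1, hskew, QuadraticMap.polar_comm, hv2 i, neg_zero]
            | cast j => rw [he'1, he'1]; exact ho2 i j
        have hne' : ∀ i : Fin (m + 1), Q (e' i) ≠ 0 := by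
          intro i
          induction i using Fin.lastCases with
          | last => rw [he'2]; exact hv
          | cast i => rw [he'1]; exact hne i
        have hle' := hbound (m + 1) e' ho1' ho2' hne'
        exact ih (Fintype.card ι - 2 * (m + 1)) (by omega) (m + 1) e' ho1' ho2' hne' rfl
  obtain ⟨m, e, ho1, ho2, hne, hcard⟩ := main (Fintype.card ι - 2 * 0) 0
    (fun i => i.elim0) (fun i => i.elim0) (fun i => i.elim0) (fun i => i.elim0) rfl
  exact ⟨m, e, (hLI m e ho1 ho2 hne).2.2, hcard, ho1, ho2, hne⟩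

end Cfsg.Agent.Lib.helper59.Sfk
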