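import Mathlib
import Cfsg.Prelude.Def_Classical
import Cfsg.Prelude.Def_GeometricClasses
import Cfsg.Agent.Lib.helper49.WittIso

/-!
S5977 / S5978 block [A] (helper59), piece NORM: racer copy by helper83.
-/

set_option autoImplicit false
set_option linter.unusedVariables false
set_option linter.unusedSectionVars false
set_option linter.style.longLine false

namespace Cfsg.Agent.Lib.helper59.Sfk

open Matrix Cfsg.Geo

theorem h83_sfk_norm {F : Type*} [Field F] {ι : Type} [Fintype ι] [DecidableEq ι]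
    (K : Subalgebra F (Matrix ι ι F)) (κ : Matrix ι ι F) (hκK : κ ∈ K)
    (hspan : ∀ k ∈ K, ∃ a b : F, k = a • (1 : Matrix ι ι F) + b • κ)
    (g : GL ι F) (ε : F) (hε : ε = 1 ∨ ε = -1)
    (hg : (g : Matrix ι ι F) * κ = ε • (κ * (g : Matrix ι ι F))) :
    g ∈ subalgebraNormalizer K := by
  have hε2 : ε * ε = 1 := by rcases hε with rfl | rfl <;> norm_num
  have hgi : (g : Matrix ι ι F) * ((g⁻¹ : GL ι F) : Matrix ι ι F) = 1 := by
    rw [← Units.val_mul, mul_inv_cancel, Units.val_one]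
  have hig : ((g⁻¹ : GL ι F) : Matrix ι ι F) * (g : Matrix ι ι F) = 1 := by
    rw [← Units.val_mul, inv_mul_cancel, Units.val_one]
  have h1 : (g : Matrix ι ι F) * κ * ((g⁻¹ : GL ι F) : Matrix ι ι F) = ε • κ := by
    rw [hg, Matrix.smul_mul, Matrix.mul_assoc, hgi, Matrix.mul_one]
  have h2 : ((g⁻¹ : GL ι F) : Matrix ι ι F) * κ * (g : Matrix ι ι F) = ε • κ := by
    have h : κ * (g : Matrix ι ι F) = ε • ((g : Matrix ι ι F) * κ) := by
      rw [hg, smul_smul, hε2, one_smul]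
    rw [Matrix.mul_assoc, h, Matrix.mul_smul, ← Matrix.mul_assoc, hig, Matrix.one_mul]
  have hK1 : (1 : Matrix ι ι F) ∈ K := K.one_mem
  have hmem : ∀ a b : F, a • (1 : Matrix ι ι F) + b • (ε • κ) ∈ K := fun a b =>
    K.add_mem (K.smul_mem hK1 a) (K.smul_mem (K.smul_mem hκK ε) b)
  show ∀ k : Matrix ι ι F, k ∈ K ↔
    (g : Matrix ι ι F) * k * ((g⁻¹ : GL ι F) : Matrix ι ι F) ∈ K
  intro k
  constructor
  · intro hk
    obtain ⟨a, b, rfl⟩ := hspan k hk
    have h : (g : Matrix ι ι F) * (a • (1 : Matrix ι ι F) + b • κ) *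
        ((g⁻¹ : GL ι F) : Matrix ι ι F) = a • (1 : Matrix ι ι F) + b • (ε • κ) := by
      rw [Matrix.mul_add, Matrix.add_mul, Matrix.mul_smul, Matrix.smul_mul, Matrix.mul_one, hgi,
        Matrix.mul_smul, Matrix.smul_mul, h1]
    rw [h]
    exact hmem a b
  · intro hk
    obtain ⟨a, b, hab⟩ := hspan _ hk
    have h3 : k = ((g⁻¹ : GL ι F) : Matrix ι ι F) *
        ((g : Matrix ι ι F) * k * ((g⁻¹ : GL ι F) : Matrix ι ι F)) * (g : Matrix ι ι F) := by
      have e1 : ((g⁻¹ : GL ι F) : Matrix ι ι F) *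
          ((g : Matrix ι ι F) * k * ((g⁻¹ : GL ι F) : Matrix ι ι F)) * (g : Matrix ι ι F)
          = (((g⁻¹ : GL ι F) : Matrix ι ι F) * (g : Matrix ι ι F)) * k *
            (((g⁻¹ : GL ι F) : Matrix ι ι F) * (g : Matrix ι ι F)) := by
        simp only [Matrix.mul_assoc]
      rw [e1, hig, Matrix.one_mul, Matrix.mul_one]
    have h4 : k = a • (1 : Matrix ι ι F) + b • (ε • κ) := by
      rw [h3, hab, Matrix.mul_add, Matrix.add_mul, Matrix.mul_smul, Matrix.smul_mul,
        Matrix.mul_one, hig, Matrix.mul_smul, Matrix.smul_mul, h2]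
    rw [h4]
    exact hmem a b

end Cfsg.Agent.Lib.helper59.Sfk
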