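import Mathlib
import Cfsg.Agent.Lib.helper24.SfoDefs

/-!
# S5981, piece OTRANS: the isometry group is transitive on the vectors of a given nonzero norm

Reflections `x ↦ x - (B x u / Q u) u`.
-/

set_option autoImplicit false
set_option linter.unusedVariables false
set_option linter.style.longLine false

namespace Cfsg.Agent.Lib.helper24

open Module Matrix Cfsg.Geo

theorem h83_sfo_isom_of_invol {F : Type*} [Field F] {n : ℕ} (Q : (Fin n → F) → F)
    (f : (Fin n → F) →ₗ[F] (Fin n → F)) (hff : ∀ x, f (f x) = x) (hQf : ∀ x, Q (f x) = Q x) :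
    ∃ g ∈ sfoIsom Q, ∀ x, (g : Matrix (Fin n) (Fin n) F) *ᵥ x = f x := by
  have hmv : ∀ x, (LinearMap.toMatrix' f) *ᵥ x = f x := fun x => by
    rw [← Matrix.toLin'_apply, Matrix.toLin'_toMatrix']
  have hmm : LinearMap.toMatrix' f * LinearMap.toMatrix' f = 1 := by
    rw [← LinearMap.toMatrix'_comp, ← LinearMap.toMatrix'_id]
    congr 1
    exact LinearMap.ext (fun x => hff x)
  refine ⟨⟨LinearMap.toMatrix' f, LinearMap.toMatrix' f, hmm, hmm⟩, ?_, hmv⟩
  intro x
  show Q ((LinearMap.toMatrix' f) *ᵥ x) = Q x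
  rw [hmv, hQf]

theorem h83_sfo_refl {F : Type*} [Field F] {n : ℕ}
    (Q : (Fin n → F) → F) (hQ : IsNondegenerateQuadraticForm Q) (u : Fin n → F) (hu : Q u ≠ 0) :
    ∃ g ∈ sfoIsom Q, ∀ x, (g : Matrix (Fin n) (Fin n) F) *ᵥ x =
      x - ((Q u)⁻¹ * QuadraticMap.polar Q x u) • u := by
  have hB := hQ.polar_bilinear
  have hadd : ∀ x y, Q (x + y) = Q x + Q y + QuadraticMap.polar Q x y := by
    intro x y
    unfold QuadraticMap.polar
    ring
  have hself : ∀ x, QuadraticMap.polar Q x x = 2 * Q x := by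
    intro x
    unfold QuadraticMap.polar
    rw [← two_smul F x, hQ.smul]
    ring
  obtain ⟨f, hf⟩ : ∃ f : (Fin n → F) →ₗ[F] (Fin n → F),
      ∀ x, f x = x - ((Q u)⁻¹ * QuadraticMap.polar Q x u) • u := by
    refine ⟨{ toFun := fun x => x - ((Q u)⁻¹ * QuadraticMap.polar Q x u) • u,
              map_add' := ?_, map_smul' := ?_ }, fun x => rfl⟩
    · intro x y
      show (x + y) - ((Q u)⁻¹ * QuadraticMap.polar Q (x + y) u) • u =
        (x - ((Q u)⁻¹ * QuadraticMap.polar Q x u) • u) +
          (y - ((Q u)⁻¹ * QuadraticMap.polar Q y u) • u)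
      rw [hB.add_left, mul_add, add_smul]
      abel
    · intro c x
      show c • x - ((Q u)⁻¹ * QuadraticMap.polar Q (c • x) u) • u =
        c • (x - ((Q u)⁻¹ * QuadraticMap.polar Q x u) • u)
      rw [hB.smul_left, smul_sub, smul_smul]
      congr 2
      ring
  have hQf : ∀ x, Q (f x) = Q x := by
    intro x
    rw [hf, sub_eq_add_neg, ← neg_smul, hadd, hQ.smul, hB.smul_right]
    field_simp
    ring
  have hff : ∀ x, f (f x) = x := by
    intro x
    have h1 : QuadraticMap.polar Q (f x) u = - QuadraticMap.polar Q x u := by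
      rw [hf, sub_eq_add_neg, ← neg_smul, hB.add_left, hB.smul_left, hself]
      field_simp
      ring
    rw [hf (f x), h1, hf x, mul_neg, neg_smul]
    abel
  obtain ⟨g, hg, hgx⟩ := h83_sfo_isom_of_invol Q f hff hQf
  exact ⟨g, hg, fun x => by rw [hgx, hf]⟩

/-- OTRANS (racing copy, verbatim statement). -/
theorem h83_sfo_isom_transitive {F : Type*} [Field F] {n : ℕ} (h2 : (2 : F) ≠ 0)
    (Q : (Fin n → F) → F) (hQ : IsNondegenerateQuadraticForm Q) (v w : Fin n → F)
    (hvw : Q v = Q w) (hv : Q v ≠ 0) :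
    ∃ g ∈ sfoIsom Q, (g : Matrix (Fin n) (Fin n) F) *ᵥ v = w := by
  have hB := hQ.polar_bilinear
  have hadd : ∀ x y, Q (x + y) = Q x + Q y + QuadraticMap.polar Q x y := by
    intro x y
    unfold QuadraticMap.polar
    ring
  have hself : ∀ x, QuadraticMap.polar Q x x = 2 * Q x := by
    intro x
    unfold QuadraticMap.polar
    rw [← two_smul F x, hQ.smul]
    ring
  have hpn : ∀ x y, QuadraticMap.polar Q x (-y) = - QuadraticMap.polar Q x y := by
    intro x y
    rw [← neg_one_smul F y, hB.smul_right]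
    ring
  have hnp : ∀ x y, QuadraticMap.polar Q (-x) y = - QuadraticMap.polar Q x y := by
    intro x y
    rw [← neg_one_smul F x, hB.smul_left]
    ring
  have hneg : ∀ y, Q (-y) = Q y := by
    intro y
    rw [← neg_one_smul F y, hQ.smul]
    ring
  have hsub : ∀ x y, Q (x - y) = Q x + Q y - QuadraticMap.polar Q x y := by
    intro x y
    rw [sub_eq_add_neg, hadd, hneg, hpn]
    ring
  have hw : Q w ≠ 0 := by rw [← hvw]; exact hv
  by_cases h : Q (v - w) = 0
  · have hBvw : QuadraticMap.polar Q v w = 2 * Q v := by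
      have h1 := hsub v w
      rw [h, ← hvw] at h1
      linear_combination h1
    have hQp : Q (v + w) = 4 * Q v := by
      rw [hadd, ← hvw, hBvw]
      ring
    have h4 : (4 : F) ≠ 0 := by
      have : (4 : F) = 2 * 2 := by norm_num
      rw [this]
      exact mul_ne_zero h2 h2
    have hQp0 : Q (v + w) ≠ 0 := by
      rw [hQp]
      exact mul_ne_zero h4 hv
    obtain ⟨g₁, hg₁, hg₁x⟩ := h83_sfo_refl Q hQ (v + w) hQp0
    obtain ⟨g₂, hg₂, hg₂x⟩ := h83_sfo_refl Q hQ w hw
    refine ⟨g₂ * g₁, (sfoIsom Q).mul_mem hg₂ hg₁, ?_⟩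
    have e1 : (g₁ : Matrix (Fin n) (Fin n) F) *ᵥ v = -w := by
      rw [hg₁x]
      have hc : (Q (v + w))⁻¹ * QuadraticMap.polar Q v (v + w) = 1 := by
        rw [hB.add_right, hself, hBvw, hQp]
        field_simp
        ring
      rw [hc, one_smul]
      abel
    rw [Units.val_mul, ← Matrix.mulVec_mulVec, e1, hg₂x]
    have hc : (Q w)⁻¹ * QuadraticMap.polar Q (-w) w = -2 := by
      rw [hnp, hself]
      field_simp
    rw [hc, neg_smul, two_smul]
    abel
  · obtain ⟨g, hg, hgx⟩ := h83_sfo_refl Q hQ (v - w) h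
    refine ⟨g, hg, ?_⟩
    rw [hgx]
    have hc : (Q (v - w))⁻¹ * QuadraticMap.polar Q v (v - w) = 1 := by
      have e : QuadraticMap.polar Q v (v - w) = Q (v - w) := by
        have e0 : QuadraticMap.polar Q v (v - w) = 2 * Q v - QuadraticMap.polar Q v w := by
          rw [sub_eq_add_neg, hB.add_right, hpn, hself]
          ring
        rw [e0, hsub, ← hvw]
        ring
      rw [e]
      exact inv_mul_cancel₀ h
    rw [hc, one_smul]
    abel

end Cfsg.Agent.Lib.helper24
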