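import Mathlib

/-!
# S5982, piece CNTSTD (core): the number of norm-one vectors of the standard unitary form

The norm-fibre count is taken as a hypothesis here.
-/

set_option autoImplicit false
set_option linter.unusedVariables false
set_option linter.unusedSimpArgs false
set_option linter.style.longLine false
set_option linter.unusedSectionVars false
set_option linter.style.haveILetI false

namespace Cfsg.Agent.Lib.helper24

theorem h83_cs_sub_pow {F : Type*} [Field F] [Fintype F] (q₀ : ℕ)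
    (hcard : Fintype.card F = q₀ ^ 2) (a b : F) : (a - b) ^ q₀ = a ^ q₀ - b ^ q₀ := by
  obtain ⟨p, hp⟩ := CharP.exists F
  haveI := hp
  obtain ⟨n, hpp, hn⟩ := FiniteField.card F p
  haveI : Fact p.Prime := ⟨hpp⟩
  have hdvd : q₀ ∣ p ^ (n : ℕ) := by
    rw [← hn, hcard]; exact dvd_pow_self q₀ (by norm_num)
  obtain ⟨k, _, hk⟩ := (Nat.dvd_prime_pow hpp).1 hdvd
  rw [hk]
  exact sub_pow_char_pow a b k

theorem h83_cs_sum_pow {F : Type*} [Field F] [Fintype F] (q₀ : ℕ)
    (hcard : Fintype.card F = q₀ ^ 2) {ι : Type*} (s : Finset ι) (g : ι → F) :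
    (∑ i ∈ s, g i) ^ q₀ = ∑ i ∈ s, g i ^ q₀ := by
  obtain ⟨p, hp⟩ := CharP.exists F
  haveI := hp
  obtain ⟨n, hpp, hn⟩ := FiniteField.card F p
  haveI : Fact p.Prime := ⟨hpp⟩
  have hdvd : q₀ ∣ p ^ (n : ℕ) := by
    rw [← hn, hcard]; exact dvd_pow_self q₀ (by norm_num)
  obtain ⟨k, _, hk⟩ := (Nat.dvd_prime_pow hpp).1 hdvd
  rw [hk]
  exact sum_pow_char_pow p k s g

theorem h83_cs_norm_fix {F : Type*} [Field F] [Fintype F] (q₀ : ℕ)
    (hcard : Fintype.card F = q₀ ^ 2) (x : F) : (x ^ (q₀ + 1)) ^ q₀ = x ^ (q₀ + 1) := by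
  have h := FiniteField.pow_card x
  rw [hcard] at h
  calc (x ^ (q₀ + 1)) ^ q₀ = x ^ (q₀ ^ 2) * x ^ q₀ := by
        rw [← pow_mul, ← pow_add]; congr 1; ring
    _ = x * x ^ q₀ := by rw [h]
    _ = x ^ (q₀ + 1) := by rw [pow_succ, mul_comm]

theorem h83_cs_step {F : Type*} [Field F] [Fintype F] [DecidableEq F] (q₀ : ℕ)
    (hcard : Fintype.card F = q₀ ^ 2)
    (hnf : ∀ c : F, c ≠ 0 → c ^ q₀ = c →
      (Finset.univ.filter (fun x : F => x ^ (q₀ + 1) = c)).card = q₀ + 1) (m : ℕ) :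
    (Finset.univ.filter (fun v : Fin (m + 1) → F => ∑ k, v k ^ (q₀ + 1) = 1)).card +
      q₀ * (Finset.univ.filter (fun v : Fin m → F => ∑ k, v k ^ (q₀ + 1) = 1)).card =
      (q₀ + 1) * q₀ ^ (2 * m) := by
  classical
  have hfib : ∀ v : Fin m → F,
      (Finset.univ.filter (fun x : F => x ^ (q₀ + 1) + ∑ k, v k ^ (q₀ + 1) = 1)).card =
        if ∑ k, v k ^ (q₀ + 1) = 1 then 1 else q₀ + 1 := by
    intro v
    by_cases hs : ∑ k, v k ^ (q₀ + 1) = 1
    · rw [if_pos hs]
      have hset : (Finset.univ.filter (fun x : F => x ^ (q₀ + 1) + ∑ k, v k ^ (q₀ + 1) = 1)) = {0} := by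
        ext x
        simp only [Finset.mem_filter, Finset.mem_univ, true_and, Finset.mem_singleton]
        rw [hs]
        constructor
        · intro h
          have h1 : x ^ (q₀ + 1) = 0 := by
            have h2 : x ^ (q₀ + 1) + 1 = 0 + 1 := by rw [zero_add]; exact h
            exact add_right_cancel h2
          exact (pow_eq_zero_iff (Nat.succ_ne_zero q₀)).1 h1
        · intro hx
          rw [hx, zero_pow (Nat.succ_ne_zero q₀), zero_add]
      rw [hset, Finset.card_singleton]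
    · rw [if_neg hs]
      have hc0 : (1 - ∑ k, v k ^ (q₀ + 1) : F) ≠ 0 := by
        intro h; exact hs (sub_eq_zero.1 h).symm
      have hcq : (1 - ∑ k, v k ^ (q₀ + 1) : F) ^ q₀ = 1 - ∑ k, v k ^ (q₀ + 1) := by
        rw [h83_cs_sub_pow q₀ hcard, one_pow, h83_cs_sum_pow q₀ hcard]
        congr 1
        exact Finset.sum_congr rfl (fun k _ => h83_cs_norm_fix q₀ hcard (v k))
      refine Eq.trans ?_ (hnf _ hc0 hcq)
      congr 1
      ext x
      simp only [Finset.mem_filter, Finset.mem_univ, true_and]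
      exact ⟨fun h => eq_sub_of_add_eq h, fun h => by rw [h]; ring⟩
  have hsplit : (Finset.univ.filter (fun v : Fin (m + 1) → F => ∑ k, v k ^ (q₀ + 1) = 1)).card =
      ∑ v : Fin m → F,
        (Finset.univ.filter (fun x : F => x ^ (q₀ + 1) + ∑ k, v k ^ (q₀ + 1) = 1)).card := by
    rw [Finset.card_filter]
    rw [← Fintype.sum_equiv (Fin.consEquiv (fun _ : Fin (m + 1) => F))
      (fun p : F × (Fin m → F) => if p.1 ^ (q₀ + 1) + ∑ k, p.2 k ^ (q₀ + 1) = 1 then 1 else 0)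
      (fun w : Fin (m + 1) → F => if ∑ k, w k ^ (q₀ + 1) = 1 then 1 else 0)
      (fun p => by
        rw [Fin.sum_univ_succ]
        simp [Fin.consEquiv])]
    rw [Fintype.sum_prod_type, Finset.sum_comm]
    refine Finset.sum_congr rfl (fun v _ => ?_)
    rw [Finset.card_filter]
  have htot : ∑ v : Fin m → F, (q₀ + 1) = (q₀ + 1) * q₀ ^ (2 * m) := by
    rw [Finset.sum_const, Finset.card_univ, Fintype.card_pi_const, hcard, smul_eq_mul, ← pow_mul,
      mul_comm]
  rw [hsplit, Finset.card_filter (fun v : Fin m → F => ∑ k, v k ^ (q₀ + 1) = 1), Finset.mul_sum,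
    ← Finset.sum_add_distrib, ← htot]
  refine Finset.sum_congr rfl (fun v _ => ?_)
  rw [hfib v]
  by_cases hs : ∑ k, v k ^ (q₀ + 1) = 1
  · rw [if_pos hs, if_pos hs]; ring
  · rw [if_neg hs, if_neg hs]; ring

/-- PIECE CNTSTD with the norm-fibre count as a hypothesis. -/
theorem h83_sfu_count_std_core {F : Type*} [Field F] [Fintype F] [DecidableEq F] (q₀ : ℕ)
    (hcard : Fintype.card F = q₀ ^ 2)
    (hnf : ∀ c : F, c ≠ 0 → c ^ q₀ = c →
      (Finset.univ.filter (fun x : F => x ^ (q₀ + 1) = c)).card = q₀ + 1) (m : ℕ) :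
    ((Finset.univ.filter (fun v : Fin m → F => ∑ k, v k ^ (q₀ + 1) = 1)).card : ℤ) =
      (q₀ : ℤ) ^ (m - 1) * ((q₀ : ℤ) ^ m - (-1) ^ m) := by
  induction m with
  | zero =>
    have hemp : (Finset.univ.filter (fun v : Fin 0 → F => ∑ k, v k ^ (q₀ + 1) = 1)) = ∅ := by
      ext v; simp
    rw [hemp]; simp
  | succ m ih =>
    have hstep := h83_cs_step q₀ hcard hnf m
    have hstepZ : ((Finset.univ.filter
        (fun v : Fin (m + 1) → F => ∑ k, v k ^ (q₀ + 1) = 1)).card : ℤ) +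
      (q₀ : ℤ) * ((Finset.univ.filter (fun v : Fin m → F => ∑ k, v k ^ (q₀ + 1) = 1)).card : ℤ) =
      ((q₀ : ℤ) + 1) * (q₀ : ℤ) ^ (2 * m) := by exact_mod_cast hstep
    rw [ih] at hstepZ
    have hsimp : m + 1 - 1 = m := by omega
    rw [hsimp]
    rcases Nat.eq_zero_or_pos m with hm | hm
    · subst hm
      simp at hstepZ ⊢
      linarith
    · have hq : (q₀ : ℤ) * (q₀ : ℤ) ^ (m - 1) = (q₀ : ℤ) ^ m := by
        rw [← pow_succ']; congr 1; omega
      have hX : ((Finset.univ.filter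
          (fun v : Fin (m + 1) → F => ∑ k, v k ^ (q₀ + 1) = 1)).card : ℤ) =
          ((q₀ : ℤ) + 1) * (q₀ : ℤ) ^ (2 * m) - (q₀ : ℤ) ^ m * ((q₀ : ℤ) ^ m - (-1) ^ m) := by
        rw [← mul_assoc, hq] at hstepZ; linarith
      rw [hX]; ring

end Cfsg.Agent.Lib.helper24
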