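import Mathlib
import Cfsg.Prelude.Def_Classical
import Cfsg.Agent.Lib.helper7.PSU32

/-!
# S5559 piece SUT: the nine unitary transvections of `SU₃(2)` in the model over `F4` (data)
-/

set_option autoImplicit false
set_option linter.unusedVariables false
set_option linter.style.longLine false
set_option maxRecDepth 100000

namespace Cfsg.Agent.Lib.helper83.TT59

open Cfsg.Agent.Lib.helper7.PSU32 Cfsg.Agent.Lib.helper7.PSU32.F4

/-- the nine transvections, in the model -/
def nine : Fin 9 → Matrix (Fin 3) (Fin 3) F4 :=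
  ![ !![0, 1, 0; 1, 0, 0; 0, 0, 1], !![0, w, 0; w * w, 0, 0; 0, 0, 1],
    !![0, w * w, 0; w, 0, 0; 0, 0, 1],
    !![0, 0, 1; 0, 1, 0; 1, 0, 0], !![0, 0, w; 0, 1, 0; w * w, 0, 0],
    !![0, 0, w * w; 0, 1, 0; w, 0, 0],
    !![1, 0, 0; 0, 0, 1; 0, 1, 0], !![1, 0, 0; 0, 0, w; 0, w * w, 0],
    !![1, 0, 0; 0, 0, w * w; 0, w, 0] ]

def mP12 : Matrix (Fin 3) (Fin 3) F4 := !![0, 1, 0; 1, 0, 0; 0, 0, 1]
def mP23 : Matrix (Fin 3) (Fin 3) F4 := !![1, 0, 0; 0, 0, 1; 0, 1, 0]
def mC12 : Matrix (Fin 3) (Fin 3) F4 := !![0, w * w, 0; w, 0, 0; 0, 0, 1]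

theorem nine_sq : ∀ i : Fin 9, nine i * nine i = 1 := by decide

theorem nine_cube : ∀ i j : Fin 9, (nine i * nine j) * (nine i * nine j) * (nine i * nine j) = 1 := by
  decide

theorem nine_conj : ∀ i j : Fin 9, ∃ k : Fin 9, nine i * nine j * nine i = nine k := by decide

theorem good_P12 : Good mP12 := by decide
theorem good_P23 : Good mP23 := by decide
theorem good_C12 : Good mC12 := by decide

theorem mem_P12 : mP12 = nine 0 := by decide
theorem mem_P23 : mP23 = nine 6 := by decide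
theorem mem_C12 : mC12 = nine 2 := by decide

theorem P12_ne_one : mP12 ≠ 1 := by decide

theorem rel_comm : mP23 * (A4 * B4) = B4 * A4 := by decide
theorem rel_conj_a : mP12 * (C4 * C4) = (C4 * C4) * mP23 := by decide
theorem rel_conj_c : mC12 * D4 = D4 * mP12 := by decide
theorem rel_ncomm : (mP12 * mP23) * (mP12 * mC12) ≠ (mP12 * mC12) * (mP12 * mP23) := by decide

end Cfsg.Agent.Lib.helper83.TT59
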