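import Mathlib
import Cfsg.Prelude.Def_Classical
import Cfsg.Agent.Lib.helper91.WidthOne
import Cfsg.Agent.Lib.helper7.PSU32
import Cfsg.Agent.Lib.helper83.TT59SUTData

/-!
# S5559 piece SUT: three of the nine unitary transvections of `SU₃(2)`
-/

set_option autoImplicit false
set_option linter.unusedVariables false
set_option linter.unusedSectionVars false
set_option linter.style.longLine false
set_option maxRecDepth 100000

namespace Cfsg.Agent.Lib.helper83.TT59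

open Cfsg.Agent.Lib.helper91 Subgroup
open Cfsg.Agent.Lib.helper7.PSU32 Cfsg.Agent.Lib.helper7.PSU32.F4
open scoped commutatorElement

section

variable {F : Type} [Field F] [Fintype F] {φ : F4 →+* F}

theorem rep_inj (hφ : Function.Injective φ) {s : ↥(Cfsg.SU 3 F 2)}
    {M M' : Matrix (Fin 3) (Fin 3) F4} (h : Cfsg.Agent.Lib.helper7.PSU32.Rep φ s M) (h' : Cfsg.Agent.Lib.helper7.PSU32.Rep φ s M') : M = M' := by
  unfold Cfsg.Agent.Lib.helper7.PSU32.Rep at h h'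
  rw [h] at h'
  exact Matrix.map_injective hφ h'

end

/-- PIECE SUT.  Three of the nine unitary transvections of `SU₃(2)`. -/
theorem su54_triple (F : Type) [Field F] [Fintype F] (hF : Fintype.card F = 4) :
    ∃ (D : Set ↥(Cfsg.SU 3 F 2)) (a b c : ↥(Cfsg.SU 3 F 2)), IsW1 D ∧ a ∈ D ∧ b ∈ D ∧ c ∈ D ∧
      a ∈ commutator ↥(Cfsg.SU 3 F 2) ∧ b ∈ commutator ↥(Cfsg.SU 3 F 2) ∧
      c ∈ commutator ↥(Cfsg.SU 3 F 2) ∧ a ≠ 1 ∧ ¬ Commute (a * b) (a * c) := by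
  obtain ⟨φ, hφ⟩ := exists_phi hF
  have hF2 : Fintype.card F = 2 ^ 2 := by rw [hF]; norm_num
  obtain ⟨a, ha⟩ : ∃ a : ↥(Cfsg.SU 3 F 2), Cfsg.Agent.Lib.helper7.PSU32.Rep φ a mP12 := ⟨su φ hF2 mP12 good_P12, rep_su φ hF2 _ _⟩
  obtain ⟨b, hb⟩ : ∃ b : ↥(Cfsg.SU 3 F 2), Cfsg.Agent.Lib.helper7.PSU32.Rep φ b mP23 := ⟨su φ hF2 mP23 good_P23, rep_su φ hF2 _ _⟩
  obtain ⟨c, hc⟩ : ∃ c : ↥(Cfsg.SU 3 F 2), Cfsg.Agent.Lib.helper7.PSU32.Rep φ c mC12 := ⟨su φ hF2 mC12 good_C12, rep_su φ hF2 _ _⟩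
  obtain ⟨sA, hsA⟩ : ∃ s : ↥(Cfsg.SU 3 F 2), Cfsg.Agent.Lib.helper7.PSU32.Rep φ s A4 := ⟨su φ hF2 A4 good_A, rep_su φ hF2 _ _⟩
  obtain ⟨sB, hsB⟩ : ∃ s : ↥(Cfsg.SU 3 F 2), Cfsg.Agent.Lib.helper7.PSU32.Rep φ s B4 := ⟨su φ hF2 B4 good_B, rep_su φ hF2 _ _⟩
  obtain ⟨sC, hsC⟩ : ∃ s : ↥(Cfsg.SU 3 F 2), Cfsg.Agent.Lib.helper7.PSU32.Rep φ s C4 := ⟨su φ hF2 C4 good_C, rep_su φ hF2 _ _⟩
  obtain ⟨sD, hsD⟩ : ∃ s : ↥(Cfsg.SU 3 F 2), Cfsg.Agent.Lib.helper7.PSU32.Rep φ s D4 := ⟨su φ hF2 D4 good_D, rep_su φ hF2 _ _⟩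
  have hbcomm : b ∈ commutator ↥(Cfsg.SU 3 F 2) := by
    have h1 : b * (sA * sB) = sB * sA := (hb.mul (hsA.mul hsB)).eq' (hsB.mul hsA) rel_comm
    have h2 : b = ⁅sB, sA⁆ := by
      rw [commutatorElement_def, ← h1]; group
    rw [h2, commutator_def]
    exact Subgroup.commutator_mem_commutator (Subgroup.mem_top _) (Subgroup.mem_top _)
  have hacomm : a ∈ commutator ↥(Cfsg.SU 3 F 2) := by
    have h1 : a * (sC * sC) = (sC * sC) * b :=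
      (ha.mul (hsC.mul hsC)).eq' ((hsC.mul hsC).mul hb) rel_conj_a
    have h2 : a = (sC * sC) * b * (sC * sC)⁻¹ := by
      rw [← h1]; group
    rw [h2]
    exact (inferInstance : (commutator ↥(Cfsg.SU 3 F 2)).Normal).conj_mem b hbcomm _
  have hccomm : c ∈ commutator ↥(Cfsg.SU 3 F 2) := by
    have h1 : c * sD = sD * a := (hc.mul hsD).eq' (hsD.mul ha) rel_conj_c
    have h2 : c = sD * a * sD⁻¹ := by
      rw [← h1]; group
    rw [h2]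
    exact (inferInstance : (commutator ↥(Cfsg.SU 3 F 2)).Normal).conj_mem a hacomm _
  refine ⟨{s | ∃ i : Fin 9, Cfsg.Agent.Lib.helper7.PSU32.Rep φ s (nine i)}, a, b, c, ⟨?_, ?_, ?_⟩,
    ⟨0, by rw [← mem_P12]; exact ha⟩, ⟨6, by rw [← mem_P23]; exact hb⟩,
    ⟨2, by rw [← mem_C12]; exact hc⟩, hacomm, hbcomm, hccomm, ?_, ?_⟩
  · rintro x ⟨i, hx⟩
    exact (hx.mul hx).eq' Cfsg.Agent.Lib.helper7.PSU32.Rep.one (nine_sq i)
  · rintro x ⟨i, hx⟩ y ⟨j, hy⟩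
    have e : (x * y) ^ 3 = (x * y) * (x * y) * (x * y) := by
      rw [pow_succ, pow_two]
    rw [e]
    exact (((hx.mul hy).mul (hx.mul hy)).mul (hx.mul hy)).eq' Cfsg.Agent.Lib.helper7.PSU32.Rep.one (nine_cube i j)
  · rintro x ⟨i, hx⟩ y ⟨j, hy⟩
    obtain ⟨k, hk⟩ := nine_conj i j
    refine ⟨k, ?_⟩
    rw [← hk]
    exact (hx.mul hy).mul hx
  · intro h1
    rw [h1] at ha
    exact P12_ne_one (rep_inj hφ ha Cfsg.Agent.Lib.helper7.PSU32.Rep.one)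
  · intro hcomm
    have h1 : Cfsg.Agent.Lib.helper7.PSU32.Rep φ ((a * b) * (a * c)) ((mP12 * mP23) * (mP12 * mC12)) :=
      (ha.mul hb).mul (ha.mul hc)
    have h2 : Cfsg.Agent.Lib.helper7.PSU32.Rep φ ((a * c) * (a * b)) ((mP12 * mC12) * (mP12 * mP23)) :=
      (ha.mul hc).mul (ha.mul hb)
    rw [hcomm.eq] at h1
    exact rel_ncomm (rep_inj hφ h1 h2)

end Cfsg.Agent.Lib.helper83.TT59
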